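import Cfsg.Statements.S0214
import Cfsg.Agent.Invol.BrauerFowler

set_option autoImplicit false
open Cfsg
open Cfsg.Agent

namespace Cfsg.Agent.S0214

/-- Let H be a proper subgroup of the finite group G and P a nontrivial Sylow 2-subgroup of H. Then H is strongly embedded in G if and only if N_G(X) ≤ H for every nontrivial subgroup X of P. -/
theorem result {G : Type*} [Group G] [Finite G] (H : Subgroup G) (hH : H ≠ ⊤) (P : Sylow 2 ↥H) (hP : (P : Subgroup ↥H) ≠ ⊥) : Cfsg.IsStronglyEmbedded H ↔ (∀ X : Subgroup ↥H, X ≤ (P : Subgroup ↥H) → X ≠ ⊥ → Subgroup.normalizer ((X.map H.subtype : Subgroup G) : Set G) ≤ H) := by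
  constructor
  · rintro ⟨-, -, h⟩ X hX hne g hg
    by_contra hgH
    refine Nat.not_even_iff_odd.mpr (h g hgH) (even_iff_two_dvd.mpr ?_)
    have hle : X.map H.subtype ≤ H ⊓ H.map (MulAut.conj g).toMonoidHom := by
      intro a ha
      have haH : ∀ b ∈ X.map H.subtype, b ∈ H := by
        rintro b ⟨w, -, rfl⟩; exact w.2
      refine ⟨haH a ha, ⟨g⁻¹ * a * g, haH _ ?_, by simp [mul_assoc]⟩⟩
      exact (Subgroup.mem_normalizer_iff''.mp hg a).mp ha
    refine dvd_trans ?_ (Subgroup.card_dvd_of_le hle)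
    rw [Subgroup.card_map_of_injective (Subgroup.subtype_injective H)]
    obtain ⟨k, hk⟩ := IsPGroup.iff_card.mp (P.2.to_le hX)
    rw [hk]
    refine dvd_pow_self 2 ?_
    rintro rfl
    exact hne (Subgroup.card_eq_one.mp (by rw [hk, pow_zero]))
  · intro h
    have hconj : ∀ Y : Subgroup G, Y ≤ H → IsPGroup 2 Y → Y ≠ ⊥ →
        Subgroup.normalizer (Y : Set G) ≤ H := by
      intro Y hY hY2 hYne g hg
      obtain ⟨Q, hQ⟩ := (hY2.comap_subtype (K := H)).exists_le_sylow
      obtain ⟨k, rfl⟩ := MulAction.exists_smul_eq ↥H P Q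
      rw [Sylow.coe_subgroup_smul] at hQ
      set X : Subgroup ↥H := (Y.subgroupOf H).map (MulAut.conj k⁻¹).toMonoidHom with hX
      have hXP : X ≤ (P : Subgroup ↥H) := by
        rintro _ ⟨y, hy, rfl⟩
        have := Subgroup.mem_pointwise_smul_iff_inv_smul_mem.mp (hQ hy)
        rw [← map_inv] at this
        exact this
      have hXne : X ≠ ⊥ := by
        rw [hX, Ne, Subgroup.map_eq_bot_iff_of_injective _ (MulAut.conj k⁻¹).injective,
          Subgroup.subgroupOf_eq_bot, disjoint_iff, inf_eq_left.mpr hY]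
        exact hYne
      have hmap : ∀ a : G, a ∈ X.map H.subtype ↔ (k : G) * a * (k : G)⁻¹ ∈ Y := by
        intro a
        constructor
        · rintro ⟨_, ⟨y, hy, rfl⟩, rfl⟩
          have hy' : (y : G) ∈ Y := hy
          simpa [mul_assoc] using hy'
        · intro ha
          refine ⟨_, ⟨⟨_, hY ha⟩, ha, rfl⟩, ?_⟩
          simp [mul_assoc]
      have hg' : (k : G)⁻¹ * g * k ∈ Subgroup.normalizer (X.map H.subtype : Set G) := by
        rw [Subgroup.mem_normalizer_iff]
        intro a
        rw [hmap, hmap, Subgroup.mem_normalizer_iff.mp hg ((k : G) * a * (k : G)⁻¹)]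
        simp [mul_assoc]
      have := H.mul_mem (H.mul_mem k.2 (h X hXP hXne hg')) (H.inv_mem k.2)
      simpa [mul_assoc] using this
    have hinv : ∀ a ∈ H, orderOf a = 2 →
        ∀ S : Sylow 2 G, a ∈ (S : Subgroup G) → (S : Subgroup G) ≤ H := by
      intro a ha ha2 S haS
      have hne : ∀ b : G, orderOf b = 2 → Subgroup.zpowers b ≠ ⊥ := fun b hb e =>
        Invol.ne_one hb (Subgroup.zpowers_eq_bot.mp e)
      have hcomm : ∀ b c : G, b ∈ H → orderOf b = 2 → c * b = b * c → c ∈ H := by
        intro b c hb hb2 hc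
        refine hconj _ (Subgroup.zpowers_le.mpr hb) (Invol.isPGroup_zpowers hb2) (hne b hb2) ?_
        refine Subgroup.centralizer_le_normalizer _ ?_
        rw [Subgroup.mem_centralizer_iff]
        intro m hm
        obtain ⟨i, rfl⟩ := Subgroup.mem_zpowers_iff.mp hm
        have hbc : Commute b c := hc.symm
        exact (hbc.zpow_left i).eq
      haveI : Nontrivial (S : Subgroup G) :=
        ⟨⟨⟨a, haS⟩, 1, fun e => Invol.ne_one ha2 (congrArg Subtype.val e :)⟩⟩
      haveI := S.2.center_nontrivial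
      obtain ⟨k, hk⟩ :=
        IsPGroup.iff_card.mp (S.2.to_subgroup (Subgroup.center ↥(S : Subgroup G)))
      obtain ⟨z, hz⟩ := exists_prime_orderOf_dvd_card' 2
        (G := Subgroup.center ↥(S : Subgroup G)) (by
          rw [hk]
          refine dvd_pow_self 2 ?_
          rintro rfl
          rw [pow_zero] at hk
          exact Finite.one_lt_card.ne' hk)
      have hz' : orderOf ((z : ↥(S : Subgroup G)) : G) = 2 := by
        rw [Subgroup.orderOf_coe, Subgroup.orderOf_coe, hz]
      have hzc : ∀ w ∈ (S : Subgroup G),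
          w * ((z : ↥(S : Subgroup G)) : G) = ((z : ↥(S : Subgroup G)) : G) * w := fun w hw =>
        congrArg Subtype.val (Subgroup.mem_center_iff.mp z.2 ⟨w, hw⟩)
      have hzH : ((z : ↥(S : Subgroup G)) : G) ∈ H := hcomm a _ ha ha2 (hzc a haS).symm
      exact fun w hw => hcomm _ w hzH hz' (hzc w hw)
    refine ⟨hH, ?_, fun g hg => ?_⟩
    · rw [even_iff_two_dvd]
      obtain ⟨k, hk⟩ := IsPGroup.iff_card.mp P.2
      refine dvd_trans ?_ (Subgroup.card_subgroup_dvd_card (P : Subgroup ↥H))
      rw [hk]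
      refine dvd_pow_self 2 ?_
      rintro rfl
      exact hP (Subgroup.card_eq_one.mp (by rw [hk, pow_zero]))
    by_contra hodd
    rw [Nat.not_odd_iff_even, even_iff_two_dvd] at hodd
    obtain ⟨⟨s, hs, t, ht, e⟩, hs2⟩ := exists_prime_orderOf_dvd_card' 2 hodd
    rw [← Subgroup.orderOf_coe] at hs2
    change orderOf s = 2 at hs2
    change g * t * g⁻¹ = s at e
    have ht2 : orderOf t = 2 := by rw [← Invol.orderOf_conj' g t, e, hs2]
    obtain ⟨S, hS⟩ := (Invol.isPGroup_zpowers ht2).exists_le_sylow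
    have htS : t ∈ (S : Subgroup G) := hS (Subgroup.mem_zpowers t)
    have hSH := hinv t ht ht2 S htS
    have hsS : s ∈ ((g • S : Sylow 2 G) : Subgroup G) := by
      rw [Sylow.coe_subgroup_smul, ← e]
      exact Subgroup.smul_mem_pointwise_smul _ _ _ htS
    have hgSH := hinv s hs hs2 (g • S) hsS
    obtain ⟨k, hk⟩ := MulAction.exists_smul_eq ↥H (S.subtype hSH) ((g • S).subtype hgSH)
    rw [Sylow.smul_subtype] at hk
    have hk' : ((k : G) • S) = g • S := Sylow.subtype_injective hk
    have hn : g⁻¹ * (k : G) ∈ Subgroup.normalizer ((S : Subgroup G) : Set G) := by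
      have h4 : (g⁻¹ * (k : G)) • S = S := by rw [mul_smul, hk', inv_smul_smul]
      exact Sylow.smul_eq_iff_mem_normalizer.mp h4
    have hne : (S : Subgroup G) ≠ ⊥ := fun h0 => by
      rw [h0, Subgroup.mem_bot] at htS
      exact Invol.ne_one ht2 htS
    have := H.mul_mem k.2 (H.inv_mem (hconj _ hSH S.2 hne hn))
    apply hg
    simpa using this

end Cfsg.Agent.S0214
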