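import Cfsg.Statements.S0223
import Cfsg.Agent.Invol.Basic

set_option autoImplicit false
open Cfsg
open Cfsg.Agent

namespace Cfsg.Agent.S0223

/-- Let H be a proper subgroup of even order of the finite group G. Then H is strongly embedded if and only if (i) C_G(t) ≤ H for every involution t of H and (ii) H controls fusion of its involutions: involutions of H conjugate in G are conjugate in H. -/
theorem result {G : Type*} [Group G] [Finite G] (H : Subgroup G) (hH : H ≠ ⊤) (heven : Even (Nat.card H)) : Cfsg.IsStronglyEmbedded H ↔ ((∀ t ∈ H, orderOf t = 2 → Subgroup.centralizer ({t} : Set G) ≤ H) ∧ (∀ t ∈ H, ∀ s ∈ H, orderOf t = 2 → orderOf s = 2 → IsConj t s → ∃ h ∈ H, h * t * h⁻¹ = s)) := by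
  constructor
  · rintro ⟨-, -, h⟩
    have key : ∀ t ∈ H, orderOf t = 2 → ∀ g : G, g * t * g⁻¹ ∈ H → g ∈ H := by
      intro t ht ht2 g hg
      by_contra hgH
      refine Nat.not_even_iff_odd.mpr (h g hgH) (even_iff_two_dvd.mpr ?_)
      have hmem : g * t * g⁻¹ ∈ H ⊓ H.map (MulAut.conj g).toMonoidHom := ⟨hg, ⟨t, ht, rfl⟩⟩
      rw [← ht2, ← Invol.orderOf_conj' g t]
      exact Subgroup.orderOf_dvd_natCard _ hmem
    refine ⟨fun t ht ht2 g hg => key t ht ht2 g ?_, fun t ht s hs ht2 _ hc => ?_⟩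
    · rw [Subgroup.mem_centralizer_singleton_iff.mp hg, mul_inv_cancel_right]
      exact ht
    · obtain ⟨g, rfl⟩ := isConj_iff.mp hc
      exact ⟨g, key t ht ht2 g hs, rfl⟩
  · rintro ⟨hC, hF⟩
    refine ⟨hH, heven, fun g hg => ?_⟩
    by_contra hodd
    rw [Nat.not_odd_iff_even, even_iff_two_dvd] at hodd
    obtain ⟨⟨s, hs, t, ht, e⟩, hs2⟩ := exists_prime_orderOf_dvd_card' 2 hodd
    rw [← Subgroup.orderOf_coe] at hs2
    change orderOf s = 2 at hs2
    change g * t * g⁻¹ = s at e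
    have ht2 : orderOf t = 2 := by rw [← Invol.orderOf_conj' g t, e, hs2]
    obtain ⟨h, hh, e'⟩ := hF t ht s hs ht2 hs2 (isConj_iff.mpr ⟨g, e⟩)
    have hc : h⁻¹ * g ∈ Subgroup.centralizer ({t} : Set G) := by
      rw [Subgroup.mem_centralizer_singleton_iff]
      rw [← e] at e'
      have : h⁻¹ * (g * t * g⁻¹) * g = h⁻¹ * (h * t * h⁻¹) * g := by rw [e']
      simpa [mul_assoc] using this
    exact hg (by simpa using H.mul_mem hh (hC t ht ht2 hc))

end Cfsg.Agent.S0223
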