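import Cfsg.Statements.S0224
import Cfsg.Agent.Invol.Basic

set_option autoImplicit false
open Cfsg
open Cfsg.Agent

namespace Cfsg.Agent.S0224

/-- Let H be a proper subgroup of even order of the finite group G. Then H is strongly embedded if and only if each involution of H fixes exactly one point (namely the coset H) in the action of G on the cosets of H. -/
theorem result {G : Type*} [Group G] [Finite G] (H : Subgroup G) (hH : H ≠ ⊤) (heven : Even (Nat.card H)) : Cfsg.IsStronglyEmbedded H ↔ ∀ t ∈ H, orderOf t = 2 → Nat.card {c : G ⧸ H // t • c = c} = 1 := by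
  have hfix : ∀ (t g : G), t • (g : G ⧸ H) = g ↔ g⁻¹ * t * g ∈ H := by
    intro t g
    change ((t * g : G) : G ⧸ H) = g ↔ _
    rw [eq_comm, QuotientGroup.eq, ← mul_assoc]
  constructor
  · rintro ⟨-, -, h⟩ t ht ht2
    rw [Nat.card_eq_one_iff_exists]
    refine ⟨⟨((1 : G) : G ⧸ H), (hfix t 1).mpr (by simpa using ht)⟩, ?_⟩
    rintro ⟨c, hc⟩
    induction c using QuotientGroup.induction_on with
    | _ g =>
      apply Subtype.ext
      change (g : G ⧸ H) = ((1 : G) : G ⧸ H)
      rw [QuotientGroup.eq]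
      have hgH : g ∈ H := by
        by_contra hg
        refine Nat.not_even_iff_odd.mpr (h g hg) (even_iff_two_dvd.mpr ?_)
        have hmem : t ∈ H ⊓ H.map (MulAut.conj g).toMonoidHom :=
          ⟨ht, ⟨g⁻¹ * t * g, (hfix t g).mp hc, by simp [mul_assoc]⟩⟩
        rw [← ht2]
        exact Subgroup.orderOf_dvd_natCard _ hmem
      simpa using hgH
  · intro h
    refine ⟨hH, heven, fun g hg => ?_⟩
    by_contra hodd
    rw [Nat.not_odd_iff_even, even_iff_two_dvd] at hodd
    obtain ⟨⟨s, hs, t, ht, e⟩, hs2⟩ := exists_prime_orderOf_dvd_card' 2 hodd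
    rw [← Subgroup.orderOf_coe] at hs2
    obtain ⟨c, hc⟩ := Nat.card_eq_one_iff_exists.mp (h s hs hs2)
    have h1 := hc ⟨((1 : G) : G ⧸ H), (hfix s 1).mpr (by simpa using hs)⟩
    have h2 := hc ⟨(g : G ⧸ H), (hfix s g).mpr (by
      change g * t * g⁻¹ = s at e
      rw [← e]
      simpa [mul_assoc] using ht)⟩
    have h3 := congrArg Subtype.val (h2.trans h1.symm)
    change (g : G ⧸ H) = ((1 : G) : G ⧸ H) at h3
    rw [QuotientGroup.eq] at h3
    exact hg (by simpa using h3)

end Cfsg.Agent.S0224
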