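import Cfsg.Statements.S0647

set_option autoImplicit false
open Cfsg

namespace Cfsg.Agent.S0647

/-- For a nonempty family of maximal abelian subgroups of a finite group, the intersection of the family is the centre of the subgroup it generates, which is also the full centralizer of that subgroup. -/
theorem result {S : Type*} [Group S] [Finite S] (𝒜 : Set (Subgroup S)) (hne : 𝒜.Nonempty) (hab : ∀ A ∈ 𝒜, IsMulCommutative A) (hmax : ∀ A ∈ 𝒜, ∀ B : Subgroup S, IsMulCommutative B → A ≤ B → B = A) : sInf 𝒜 = sSup 𝒜 ⊓ Subgroup.centralizer ((sSup 𝒜 : Subgroup S) : Set S) ∧ sInf 𝒜 = Subgroup.centralizer ((sSup 𝒜 : Subgroup S) : Set S) := by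
  obtain ⟨A0, hA0⟩ := hne
  have hc : sInf 𝒜 = Subgroup.centralizer ((sSup 𝒜 : Subgroup S) : Set S) := by
    apply le_antisymm
    · rw [Subgroup.le_centralizer_iff]
      refine sSup_le fun A hA => ?_
      haveI := hab A hA
      exact (Subgroup.le_centralizer A).trans (Subgroup.centralizer_le (SetLike.coe_subset_coe.mpr (sInf_le hA)))
    · refine le_sInf fun A hA x hx => ?_
      have hxc : ∀ a ∈ A, a * x = x * a := fun a ha =>
        Subgroup.mem_centralizer_iff.mp hx a (le_sSup hA ha)
      have hcomm : IsMulCommutative ↥(Subgroup.closure (insert x (A : Set S))) := by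
        apply Subgroup.isMulCommutative_closure
        intro u hu v hv
        haveI := hab A hA
        rcases hu with rfl | hu <;> rcases hv with rfl | hv
        · rfl
        · exact (hxc v hv).symm
        · exact hxc u hu
        · exact congrArg Subtype.val (IsMulCommutative.is_comm.comm (⟨u, hu⟩ : A) ⟨v, hv⟩)
      have hle : A ≤ Subgroup.closure (insert x (A : Set S)) := fun a ha =>
        Subgroup.subset_closure (Set.mem_insert_of_mem _ ha)
      rw [← hmax A hA _ hcomm hle]
      exact Subgroup.subset_closure (Set.mem_insert _ _)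
  refine ⟨?_, hc⟩
  rw [← hc, inf_eq_right.mpr ((sInf_le hA0).trans (le_sSup hA0))]

end Cfsg.Agent.S0647
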