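import Cfsg.Statements.S0648


set_option autoImplicit false
open Cfsg
open scoped commutatorElement

namespace Cfsg.Agent.S0648

/-- If A acts on B centralizing [B, B], then [B, A] has derived subgroup central in B, and for abelian A and b ∈ B with [[b, A], A, A] = 1 the derived subgroup of the subgroup [b, A] generated by the commutators of b with A has exponent dividing 2. -/
theorem result {G : Type*} [Group G] [Finite G] (A B : Subgroup G) (hAB : A ≤ Subgroup.normalizer (B : Set G)) (hc : ⁅⁅B, B⁆, A⁆ = ⊥) : ⁅⁅B, A⁆, ⁅B, A⁆⁆ ≤ B ⊓ Subgroup.centralizer (B : Set G) ∧ (IsMulCommutative A → ∀ b ∈ B, ⁅⁅(Subgroup.closure {g : G | ∃ a ∈ A, g = b⁻¹ * a * b * a⁻¹}), A⁆, A⁆ = ⊥ → ∀ w ∈ ⁅(Subgroup.closure {g : G | ∃ a ∈ A, g = b⁻¹ * a * b * a⁻¹}), (Subgroup.closure {g : G | ∃ a ∈ A, g = b⁻¹ * a * b * a⁻¹})⁆, w ^ 2 = 1) := by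
  set X₀ := ⁅B, A⁆ with hX₀
  have hX₀B : X₀ ≤ B := Subgroup.le_normalizer_iff_commutator_le_left.mp hAB
  have hBB : ⁅B, B⁆ ≤ B := Subgroup.commutator_le_self B
  have hAfix : ∀ a ∈ A, ∀ c ∈ ⁅B, B⁆, a * c = c * a := fun a ha c hc' => by
    have h := Subgroup.commutator_mem_commutator hc' ha
    rw [hc, Subgroup.mem_bot] at h
    exact (commutatorElement_eq_one_iff_mul_comm.mp h).symm
  have hXc : X₀ ≤ Subgroup.centralizer ((⁅B, B⁆ : Subgroup G) : Set G) := by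
    rw [hX₀, Subgroup.commutator_le]
    intro b hb a ha
    rw [Subgroup.mem_centralizer_iff]
    intro c hc'
    have hc1 : b⁻¹ * c * b ∈ ⁅B, B⁆ := by
      simpa using (Subgroup.mem_normalizer_iff.mp (Subgroup.normalizer_commutator_ge_left B B (B.inv_mem hb)) c).mp hc'
    rw [commutatorElement_def]
    calc c * (b * a * b⁻¹ * a⁻¹) = b * ((b⁻¹ * c * b) * a) * b⁻¹ * a⁻¹ := by group
      _ = b * (a * (b⁻¹ * c * b)) * b⁻¹ * a⁻¹ := by rw [hAfix a ha _ hc1]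
      _ = b * a * b⁻¹ * (c * a⁻¹) := by group
      _ = b * a * b⁻¹ * (a⁻¹ * c) := by rw [(show Commute a c from hAfix a ha c hc').inv_left.eq]
      _ = b * a * b⁻¹ * a⁻¹ * c := by group
  have hXB : ⁅⁅X₀, B⁆, X₀⁆ = ⊥ := by
    rw [Subgroup.commutator_eq_bot_iff_le_centralizer]
    refine (Subgroup.commutator_mono hX₀B le_rfl).trans ?_
    exact Subgroup.le_centralizer_iff.mp hXc
  have hZ : ⁅X₀, X₀⁆ ≤ B ⊓ Subgroup.centralizer (B : Set G) := by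
    refine le_inf ((Subgroup.commutator_mono hX₀B hX₀B).trans hBB) ?_
    rw [← Subgroup.commutator_eq_bot_iff_le_centralizer]
    exact Subgroup.commutator_commutator_eq_bot_of_rotate hXB (by rw [Subgroup.commutator_comm B X₀]; exact hXB)
  refine ⟨hZ, fun hAc b hb hXAA => ?_⟩
  haveI := hAc
  set S := {g : G | ∃ a ∈ A, g = b⁻¹ * a * b * a⁻¹} with hS
  set X := Subgroup.closure S with hX
  have hgen : ∀ g ∈ S, g ∈ X₀ := by
    rintro g ⟨a, ha, rfl⟩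
    have := Subgroup.commutator_mem_commutator (B.inv_mem hb) ha
    rw [commutatorElement_def, inv_inv] at this
    exact this
  have hXX₀ : X ≤ X₀ := (Subgroup.closure_le X₀).mpr hgen
  have hcent : ∀ x ∈ X₀, ∀ y ∈ X₀, ∀ z ∈ B, ⁅x, y⁆ * z = z * ⁅x, y⁆ := fun x hx y hy z hz =>
    (Subgroup.mem_centralizer_iff.mp (hZ (Subgroup.commutator_mem_commutator hx hy)).2 z hz).symm
  have key : ∀ x ∈ S, ∀ y ∈ S, ⁅x, y⁆ ^ 2 = 1 := by
    rintro x ⟨a, ha, rfl⟩ y ⟨c, hc', rfl⟩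
    set x := b⁻¹ * a * b * a⁻¹ with hxdef
    set y := b⁻¹ * c * b * c⁻¹ with hydef
    have hx₀ : x ∈ X₀ := hgen _ ⟨a, ha, rfl⟩
    have hy₀ : y ∈ X₀ := hgen _ ⟨c, hc', rfl⟩
    have hxX : x ∈ X := Subgroup.subset_closure ⟨a, ha, rfl⟩
    have hyX : y ∈ X := Subgroup.subset_closure ⟨c, hc', rfl⟩
    obtain ⟨u, hu⟩ : ∃ u, u = ⁅a, y⁆ := ⟨_, rfl⟩
    obtain ⟨v, hv⟩ : ∃ v, v = ⁅c, x⁆ := ⟨_, rfl⟩
    have huX : u ∈ ⁅X, A⁆ := by rw [hu, Subgroup.commutator_comm]; exact Subgroup.commutator_mem_commutator ha hyX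
    have hvX : v ∈ ⁅X, A⁆ := by rw [hv, Subgroup.commutator_comm]; exact Subgroup.commutator_mem_commutator hc' hxX
    have hfixA : ∀ w ∈ ⁅X, A⁆, ∀ a' ∈ A, a' * w = w * a' := fun w hw a' ha' => by
      have h := Subgroup.commutator_mem_commutator hw ha'
      rw [hXAA, Subgroup.mem_bot] at h
      exact (commutatorElement_eq_one_iff_mul_comm.mp h).symm
    have hXA : ⁅X, A⁆ ≤ X₀ := Subgroup.commutator_mono (hXX₀.trans hX₀B) le_rfl
    have hu₀ : u ∈ X₀ := hXA huX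
    have hv₀ : v ∈ X₀ := hXA hvX
    have conjA : ∀ a' ∈ A, ∀ z ∈ ⁅B, B⁆, a' * z * a'⁻¹ = z := fun a' ha' z hz => by
      rw [hAfix a' ha' z hz, mul_inv_cancel_right]
    have conjX : ∀ w ∈ X₀, ∀ z ∈ ⁅B, B⁆, w * z * w⁻¹ = z := fun w hw z hz => by
      rw [← Subgroup.mem_centralizer_iff.mp (hXc hw) z hz, mul_inv_cancel_right]
    -- the basic computation: for `a' b a'⁻¹ = b x'` and `a' z' a'⁻¹ = u' z'`
    have hab : a * b * a⁻¹ = b * x := by rw [hxdef]; group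
    have hcb : c * b * c⁻¹ = b * y := by rw [hydef]; group
    have hay : a * y * a⁻¹ = u * y := by rw [hu, commutatorElement_def]; group
    have hcx : c * x * c⁻¹ = v * x := by rw [hv, commutatorElement_def]; group
    have hP : ∀ (t w z : G), t ∈ A → w ∈ X₀ → z ∈ ⁅X, A⁆ → t * b * t⁻¹ = b * w → w * z = z * w := by
      intro t w z ht hw hz htb
      have hz₀ := hXA hz
      have h1 := conjA t ht ⁅b, z⁆ (Subgroup.commutator_mem_commutator hb (hX₀B hz₀))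
      have htz : t * z * t⁻¹ = z := by rw [hfixA z hz t ht, mul_inv_cancel_right]
      have h2 : ⁅b * w, z⁆ = ⁅b, z⁆ := by
        calc ⁅b * w, z⁆ = ⁅t * b * t⁻¹, t * z * t⁻¹⁆ := by rw [htb, htz]
          _ = t * ⁅b, z⁆ * t⁻¹ := by rw [commutatorElement_def, commutatorElement_def]; group
          _ = ⁅b, z⁆ := h1
      have h3 : ⁅b * w, z⁆ = (b * ⁅w, z⁆ * b⁻¹) * ⁅b, z⁆ := by
        rw [commutatorElement_def, commutatorElement_def, commutatorElement_def]; group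
      rw [h3, ← hcent w hw z hz₀ b hb, mul_inv_cancel_right, mul_eq_right] at h2
      exact commutatorElement_eq_one_iff_mul_comm.mp h2
    have hxu : x * u = u * x := hP a x u ha hx₀ huX hab
    have hyv : y * v = v * y := hP c y v hc' hy₀ hvX hcb
    have hQ : ∀ (t x y u : G), t ∈ A → x ∈ X₀ → y ∈ X₀ → u ∈ X₀ → x * u = u * x → t * b * t⁻¹ = b * x →
        t * y * t⁻¹ = u * y → ⁅x, y⁆ * ⁅b, u⁆ = 1 := by
      intro t x y u ht hx hy hu' hcomm htb hty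
      have h1 := conjA t ht ⁅b, y⁆ (Subgroup.commutator_mem_commutator hb (hX₀B hy))
      have h2 : ⁅b * x, u * y⁆ = ⁅b, y⁆ := by
        calc ⁅b * x, u * y⁆ = ⁅t * b * t⁻¹, t * y * t⁻¹⁆ := by rw [htb, hty]
          _ = t * ⁅b, y⁆ * t⁻¹ := by rw [commutatorElement_def, commutatorElement_def]; group
          _ = ⁅b, y⁆ := h1
      have hK := hcent x hx y hy
      obtain ⟨K, hKdef⟩ : ∃ K, K = ⁅x, y⁆ := ⟨_, rfl⟩
      rw [← hKdef] at hK
      have hbyB : ⁅b, y⁆ ∈ ⁅B, B⁆ := Subgroup.commutator_mem_commutator hb (hX₀B hy)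
      have hbyu : u * ⁅b, y⁆ * u⁻¹ = ⁅b, y⁆ := conjX u hu' _ hbyB
      have h3 : ⁅b * x, u * y⁆ = K * ⁅b, u⁆ * ⁅b, y⁆ := by
        calc ⁅b * x, u * y⁆ = b * ((x * u) * y * x⁻¹) * b⁻¹ * (u * y)⁻¹ := by rw [commutatorElement_def]; group
          _ = b * (u * (x * y * x⁻¹ * y⁻¹) * y) * b⁻¹ * (u * y)⁻¹ := by rw [hcomm]; group
          _ = b * ((u * K) * y) * b⁻¹ * (u * y)⁻¹ := by rw [hKdef, commutatorElement_def x y]
          _ = b * ((K * u) * y) * b⁻¹ * (u * y)⁻¹ := by rw [← hK u (hX₀B hu')]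
          _ = (b * K) * u * y * b⁻¹ * (u * y)⁻¹ := by group
          _ = (K * b) * u * y * b⁻¹ * (u * y)⁻¹ := by rw [← hK b hb]
          _ = K * (b * u * b⁻¹ * u⁻¹) * (u * (b * y * b⁻¹ * y⁻¹) * u⁻¹) := by group
          _ = K * ⁅b, u⁆ * ⁅b, y⁆ := by rw [← commutatorElement_def b u, ← commutatorElement_def b y, hbyu]
      rw [h2] at h3
      rw [← hKdef]
      exact mul_eq_right.mp h3.symm
    have e1 := hQ a x y u ha hx₀ hy₀ hu₀ hxu hab hay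
    have e2 := hQ c y x v hc' hy₀ hx₀ hv₀ hyv hcb hcx
    have hsym : x * (u * y) = y * (v * x) := by
      rw [← hay, ← hcx]
      calc x * (a * y * a⁻¹) = b⁻¹ * ((a * c) * b * (a * c)⁻¹) := by rw [hxdef, hydef]; group
        _ = b⁻¹ * ((c * a) * b * (c * a)⁻¹) := by rw [setLike_mul_comm ha hc']
        _ = y * (c * x * c⁻¹) := by rw [hxdef, hydef]; group
    have hvu : v = u * ⁅x, y⁆ := by
      have h : v * (y * x) = u * (x * y) := by
        calc v * (y * x) = y * (v * x) := by rw [← mul_assoc, ← hyv, mul_assoc]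
          _ = x * (u * y) := hsym.symm
          _ = u * (x * y) := by rw [← mul_assoc, hxu, mul_assoc]
      calc v = v * (y * x) * (y * x)⁻¹ := by group
        _ = u * (x * y) * (y * x)⁻¹ := by rw [h]
        _ = u * ⁅x, y⁆ := by rw [commutatorElement_def]; group
    have hbv : ⁅b, v⁆ = ⁅b, u⁆ := by
      rw [hvu]
      calc ⁅b, u * ⁅x, y⁆⁆ = b * u * (⁅x, y⁆ * b⁻¹) * ⁅x, y⁆⁻¹ * u⁻¹ := by rw [commutatorElement_def b]; group
        _ = b * u * (b⁻¹ * ⁅x, y⁆) * ⁅x, y⁆⁻¹ * u⁻¹ := by rw [hcent x hx₀ y hy₀ b⁻¹ (B.inv_mem hb)]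
        _ = ⁅b, u⁆ := by rw [commutatorElement_def b]; group
    rw [hbv, ← commutatorElement_inv x y] at e2
    have h4 : ⁅x, y⁆ = ⁅x, y⁆⁻¹ := mul_right_cancel (e1.trans e2.symm)
    rw [pow_two]
    nth_rw 1 [h4]
    exact inv_mul_cancel _
  intro w hw
  have hstep : ∀ x₁ x₂ y : G, x₁ ∈ X₀ → x₂ ∈ X₀ → y ∈ X₀ → ⁅x₁ * x₂, y⁆ = ⁅x₂, y⁆ * ⁅x₁, y⁆ := by
    intro x₁ x₂ y h₁ h₂ hy
    have e : ⁅x₁ * x₂, y⁆ = (x₁ * ⁅x₂, y⁆ * x₁⁻¹) * ⁅x₁, y⁆ := by
      rw [commutatorElement_def, commutatorElement_def, commutatorElement_def]; group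
    rw [e, ← hcent x₂ h₂ y hy x₁ (hX₀B h₁), mul_inv_cancel_right]
  have hsq : ∀ g h : G, g ∈ ⁅X₀, X₀⁆ → h ∈ ⁅X₀, X₀⁆ → g ^ 2 = 1 → h ^ 2 = 1 → (g * h) ^ 2 = 1 := by
    intro g h hg hh g2 h2
    have : Commute g h := (Subgroup.mem_centralizer_iff.mp (hZ hh).2 g (hZ hg).1)
    rw [this.mul_pow, g2, h2, one_mul]
  have hall : ∀ y ∈ S, ∀ x ∈ X, ⁅x, y⁆ ^ 2 = 1 := by
    intro y hy x hx
    induction hx using Subgroup.closure_induction with
    | mem z hz => exact key z hz y hy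
    | one => rw [commutatorElement_one_left, one_pow]
    | mul x₁ x₂ h₁ h₂ i₁ i₂ =>
      rw [hstep x₁ x₂ y (hXX₀ h₁) (hXX₀ h₂) (hgen y hy)]
      exact hsq _ _ (Subgroup.commutator_mem_commutator (hXX₀ h₂) (hgen y hy)) (Subgroup.commutator_mem_commutator (hXX₀ h₁) (hgen y hy)) i₂ i₁
    | inv x₁ h₁ i₁ =>
      have := hstep x₁ x₁⁻¹ y (hXX₀ h₁) (X₀.inv_mem (hXX₀ h₁)) (hgen y hy)
      rw [mul_inv_cancel, commutatorElement_one_left] at this
      rw [eq_inv_of_mul_eq_one_left this.symm, inv_pow, i₁, inv_one]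
  have hall2 : ∀ x ∈ X, ∀ y ∈ X, ⁅y, x⁆ ^ 2 = 1 := by
    intro x hx y hy
    induction hy using Subgroup.closure_induction with
    | mem z hz => rw [← commutatorElement_inv, inv_pow, hall z hz x hx, inv_one]
    | one => rw [commutatorElement_one_left, one_pow]
    | mul x₁ x₂ h₁ h₂ i₁ i₂ =>
      rw [hstep x₁ x₂ x (hXX₀ h₁) (hXX₀ h₂) (hXX₀ hx)]
      exact hsq _ _ (Subgroup.commutator_mem_commutator (hXX₀ h₂) (hXX₀ hx)) (Subgroup.commutator_mem_commutator (hXX₀ h₁) (hXX₀ hx)) i₂ i₁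
    | inv x₁ h₁ i₁ =>
      have := hstep x₁ x₁⁻¹ x (hXX₀ h₁) (X₀.inv_mem (hXX₀ h₁)) (hXX₀ hx)
      rw [mul_inv_cancel, commutatorElement_one_left] at this
      rw [eq_inv_of_mul_eq_one_left this.symm, inv_pow, i₁, inv_one]
  have hE : ∀ g ∈ ⁅X, X⁆, g ∈ ⁅X₀, X₀⁆ ∧ g ^ 2 = 1 := by
    intro g hg
    refine ⟨Subgroup.commutator_mono hXX₀ hXX₀ hg, ?_⟩
    rw [Subgroup.commutator_def] at hg
    induction hg using Subgroup.closure_induction with
    | mem z hz => obtain ⟨x, hx, y, hy, rfl⟩ := hz; exact hall2 y hy x hx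
    | one => rw [one_pow]
    | mul x₁ x₂ h₁ h₂ i₁ i₂ =>
      rw [← Subgroup.commutator_def] at h₁ h₂
      exact hsq _ _ (Subgroup.commutator_mono hXX₀ hXX₀ h₁) (Subgroup.commutator_mono hXX₀ hXX₀ h₂) i₁ i₂
    | inv x₁ h₁ i₁ => rw [inv_pow, i₁, inv_one]
  exact (hE w hw).2

end Cfsg.Agent.S0648
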