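import Cfsg.Statements.S0649


set_option autoImplicit false
open Cfsg
open scoped commutatorElement

namespace Cfsg.Agent.S0649

/-- In the Glauberman replacement situation, if B does not normalize A then some element of B normalizes N_S(A) without normalizing A. -/
theorem result {S : Type*} [Group S] [Finite S] {p : ℕ} [Fact p.Prime] (hS : IsPGroup p S) (B : Subgroup S) [B.Normal] (hB2 : p = 2 → IsMulCommutative B) (A : Subgroup S) (hA : IsMulCommutative A) (hBA : ⁅B, B⁆ ≤ A) (hnot : ¬ B ≤ Subgroup.normalizer (A : Set S)) : ∃ b ∈ B, b ∈ Subgroup.normalizer ((Subgroup.normalizer (A : Set S)) : Set S) ∧ b ∉ Subgroup.normalizer (A : Set S) := by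
  haveI := hS.isNilpotent
  set N := Subgroup.normalizer (A : Set S) with hN
  set K := B ⊔ N with hK
  have hlt : N < K := lt_of_le_of_ne le_sup_right fun h => hnot (h ▸ le_sup_left)
  have hne : (N.subgroupOf K) ≠ ⊤ := fun h => (not_le_of_gt hlt) (Subgroup.subgroupOf_eq_top.mp h)
  obtain ⟨y, hyN, hyn⟩ := SetLike.exists_of_lt (Group.normalizerCondition_of_isNilpotent (G := ↥K) _ hne.lt_top)
  have hy : (y : S) ∈ Subgroup.normalizer (N : Set S) := by
    rw [Subgroup.mem_normalizer_iff]
    intro x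
    constructor
    · intro hx
      exact (Subgroup.mem_normalizer_iff.mp hyN ⟨x, hlt.le hx⟩).mp hx
    · intro hx
      have hxK : x ∈ K := by
        rw [show x = (y : S)⁻¹ * ((y : S) * x * (y : S)⁻¹) * y by group]
        exact K.mul_mem (K.mul_mem (K.inv_mem y.2) (hlt.le hx)) y.2
      exact (Subgroup.mem_normalizer_iff.mp hyN ⟨x, hxK⟩).mpr hx
  obtain ⟨b, hb, n, hn, he⟩ := Subgroup.mem_sup_of_normal_left.mp y.2
  refine ⟨b, hb, ?_, fun hbN => hyn ?_⟩
  · rw [show b = (y : S) * n⁻¹ by rw [← he]; group]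
    exact Subgroup.mul_mem _ hy (Subgroup.inv_mem _ (Subgroup.le_normalizer hn))
  · show (y : S) ∈ N
    rw [← he]; exact N.mul_mem hbN hn

end Cfsg.Agent.S0649
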