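import Cfsg.Statements.S0655
import Cfsg.Agent.PLocal.MaxElem

set_option autoImplicit false
open Cfsg

namespace Cfsg.Agent.S0655

/-- In a p-group the intersection of all elementary abelian subgroups of largest order is the subgroup generated by the elements of order dividing p in the centre (equivalently the centralizer) of the elementary-version Thompson subgroup. -/
theorem result {S : Type*} [Group S] [Finite S] {p : ℕ} [Fact p.Prime] (hS : IsPGroup p S) : sInf (Cfsg.maxElementaryAbelianSubgroups p S) = Cfsg.omegaCenterThompson p S ∧ Cfsg.omegaCenterThompson p S = Cfsg.omegaOne p (Subgroup.centralizer (Cfsg.thompsonSubgroup p S : Set S)) := by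
  obtain ⟨A, hA⟩ := PLocal.exists_maxElementaryAbelian p S
  have h1 : sInf (Cfsg.maxElementaryAbelianSubgroups p S) ≤ Cfsg.omegaCenterThompson p S := by
    intro x hx
    rw [Subgroup.mem_sInf] at hx
    refine PLocal.mem_omegaOne ⟨(le_sSup hA : A ≤ Cfsg.thompsonSubgroup p S) (hx A hA), ?_⟩ (hA.1.2 x (hx A hA))
    have : Cfsg.thompsonSubgroup p S ≤ Subgroup.centralizer ({x} : Set S) := sSup_le fun B hB b hb =>
      Subgroup.mem_centralizer_singleton_iff.mpr (congrArg Subtype.val (hB.1.1.is_comm.comm ⟨b, hb⟩ ⟨x, hx B hB⟩))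
    exact Subgroup.mem_centralizer_iff.mpr fun b hb => Subgroup.mem_centralizer_singleton_iff.mp (this hb)
  have h2 : Cfsg.omegaOne p (Subgroup.centralizer (Cfsg.thompsonSubgroup p S : Set S)) ≤
      sInf (Cfsg.maxElementaryAbelianSubgroups p S) := by
    refine le_sInf fun B hB => (Subgroup.closure_le B).mpr fun x ⟨hx, hxp⟩ => ?_
    exact MaxElem.mem_of_max hB (Subgroup.centralizer_le (le_sSup hB : B ≤ Cfsg.thompsonSubgroup p S) hx) hxp
  have h3 : Cfsg.omegaCenterThompson p S ≤ Cfsg.omegaOne p (Subgroup.centralizer (Cfsg.thompsonSubgroup p S : Set S)) :=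
    PLocal.omegaOne_mono inf_le_right
  exact ⟨le_antisymm h1 (h3.trans h2), le_antisymm h3 (h2.trans h1)⟩

end Cfsg.Agent.S0655
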