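import Cfsg.Statements.S1249
import Cfsg.Agent.TwoFus.Basic

set_option autoImplicit false
open Cfsg

namespace Cfsg.Agent.S1249

/-- Let P and Q be Sylow p-subgroups of the finite group G both containing the subgroup A. If A is strongly closed in P, then A is strongly closed in Q. -/
theorem result {G : Type*} [Group G] [Finite G] {p : ℕ} [Fact p.Prime] (P Q : Sylow p G) (A : Subgroup G) (hAQ : A ≤ Q) (hA : Cfsg.IsStronglyClosed A (P : Subgroup G)) : Cfsg.IsStronglyClosed A (Q : Subgroup G) := by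
  obtain ⟨hAP, hcl⟩ := hA
  obtain ⟨h, hQ⟩ := TwoFus.exists_sylow_conjMap P Q
  have hin : ∀ a ∈ A, h⁻¹ * a * h ∈ A := by
    intro a ha
    have hP : h⁻¹ * a * h ∈ (P : Subgroup G) := TwoFus.mem_conjMap.1 (hQ ▸ hAQ ha)
    simpa using hcl a ha h⁻¹ (by simpa using hP)
  have heq : A.map (MulAut.conj h⁻¹).toMonoidHom = A := by
    refine Subgroup.eq_of_le_of_card_ge ?_ (TwoFus.card_conjMap _ A).ge
    rintro _ ⟨a, ha, rfl⟩
    simpa using hin a ha
  refine ⟨hAQ, fun x hx g hg => ?_⟩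
  have hP : h⁻¹ * (g * x * g⁻¹) * h ∈ (P : Subgroup G) := TwoFus.mem_conjMap.1 (hQ ▸ hg)
  have hA' := hcl x hx (h⁻¹ * g) (by simpa [mul_assoc] using hP)
  rw [← heq, TwoFus.mem_conjMap] at hA'
  simpa [mul_assoc] using hA'

end Cfsg.Agent.S1249
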