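import Cfsg.Statements.S1250
import Cfsg.Agent.TwoFus.Basic

set_option autoImplicit false
open Cfsg

namespace Cfsg.Agent.S1250

/-- Let S be a Sylow p-subgroup of the finite group G, A ≤ S strongly closed in S, and N a normal subgroup. Then the image of A in G ⧸ N is strongly closed in the image of S (which is a Sylow p-subgroup of G ⧸ N). -/
theorem result {G : Type*} [Group G] [Finite G] {p : ℕ} [Fact p.Prime] (S : Sylow p G) (A : Subgroup G) (hA : Cfsg.IsStronglyClosed A (S : Subgroup G)) (N : Subgroup G) [N.Normal] : Cfsg.IsStronglyClosed (A.map (QuotientGroup.mk' N)) ((S : Subgroup G).map (QuotientGroup.mk' N)) := by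
  obtain ⟨hAS, hcl⟩ := hA
  refine ⟨Subgroup.map_mono hAS, ?_⟩
  rintro _ ⟨x, hx, rfl⟩ g hg
  obtain ⟨g, rfl⟩ := QuotientGroup.mk'_surjective N g
  rw [← map_inv, ← map_mul, ← map_mul] at hg ⊢
  set y := g * x * g⁻¹ with hy
  set M : Subgroup G := (S : Subgroup G) ⊔ N with hM
  have hyM : y ∈ M := by
    have h : y ∈ ((S : Subgroup G).map (QuotientGroup.mk' N)).comap (QuotientGroup.mk' N) := hg
    rwa [Subgroup.comap_map_eq, QuotientGroup.ker_mk'] at h
  have hSM : (S : Subgroup G) ≤ M := le_sup_left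
  have hyp : IsPGroup p ↥(Subgroup.zpowers y) := by
    refine (S.isPGroup'.map (MulAut.conj g).toMonoidHom).to_le ?_
    rw [Subgroup.zpowers_le]
    exact TwoFus.conj_mem_conjMap (hAS hx)
  obtain ⟨m, hm⟩ := TwoFus.exists_conjMap_le (S.subtype hSM)
    (hyp.of_equiv (Subgroup.subgroupOfEquivOfLe (Subgroup.zpowers_le.2 hyM)).symm)
  have hyy : (⟨y, hyM⟩ : ↥M) ∈ (Subgroup.zpowers y).subgroupOf M := Subgroup.mem_zpowers y
  have h1 := TwoFus.mem_conjMap.1 (hm hyy)
  rw [Sylow.coe_subtype, Subgroup.mem_subgroupOf] at h1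
  simp only [Subgroup.coe_mul, Subgroup.coe_inv] at h1
  obtain ⟨n, hn, s, hs, hns⟩ : ∃ n ∈ N, ∃ s ∈ (S : Subgroup G), n * s = (m : G) := by
    have h : (m : G) ∈ N ⊔ (S : Subgroup G) := (le_of_eq (sup_comm _ _) : M ≤ N ⊔ (S : Subgroup G)) m.2
    rw [← SetLike.mem_coe, Subgroup.normal_mul] at h
    exact h
  have h2 : n⁻¹ * y * n ∈ (S : Subgroup G) := by
    rw [← hns] at h1
    have := (S : Subgroup G).mul_mem ((S : Subgroup G).mul_mem hs h1) ((S : Subgroup G).inv_mem hs)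
    simpa [mul_assoc] using this
  have h3 := hcl x hx (n⁻¹ * g) (by simpa [hy, mul_assoc] using h2)
  refine ⟨n⁻¹ * g * x * (n⁻¹ * g)⁻¹, h3, ?_⟩
  have hn1 : (n : G ⧸ N) = 1 := (QuotientGroup.eq_one_iff n).2 hn
  simp [hn1, hy, mul_assoc]

end Cfsg.Agent.S1250
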