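import Cfsg.Statements.S1292
import Cfsg.Agent.Layer.CharP
import Cfsg.Agent.CharTwo.Normalizer

set_option autoImplicit false
open Cfsg

namespace Cfsg.Agent.S1292

/-- Let G be a finite group such that F*(C_G(t)) = O_2(C_G(t)) for every involution t. Then F*(N_G(T)) = O_2(N_G(T)) for every nontrivial 2-subgroup T of G. -/
theorem result {G : Type*} [Group G] [Finite G] (h : ∀ t : G, orderOf t = 2 → Cfsg.generalizedFittingSubgroup ↥(Subgroup.centralizer ({t} : Set G)) = Cfsg.pCore 2 ↥(Subgroup.centralizer ({t} : Set G))) (T : Subgroup G) (hT : IsPGroup 2 ↥T) (hT1 : T ≠ ⊥) : Cfsg.generalizedFittingSubgroup ↥(Subgroup.normalizer (T : Set G)) = Cfsg.pCore 2 ↥(Subgroup.normalizer (T : Set G)) := by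
  haveI : Fact (Nat.Prime 2) := ⟨Nat.prime_two⟩
  haveI : Nontrivial ↥T := (Subgroup.nontrivial_iff_ne_bot T).mpr hT1
  obtain ⟨n, hn, hcard⟩ := hT.nontrivial_iff_card.mp inferInstance
  obtain ⟨t, ht⟩ := exists_prime_orderOf_dvd_card' 2 (show 2 ∣ Nat.card ↥T by rw [hcard]; exact dvd_pow_self 2 hn.ne')
  refine (Layer.fstar_eq_pCore_iff).mpr ?_
  exact CharTwo.normalizer_charTwo_ge (Layer.fstar_eq_pCore_iff.mp (h t (by rw [Subgroup.orderOf_coe]; exact ht))) t.2 hT

end Cfsg.Agent.S1292
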