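import Cfsg.Statements.S1293
import Cfsg.Agent.PSolv.Balance
import Cfsg.Agent.PSolv.PComponent

set_option autoImplicit false
open Cfsg

namespace Cfsg.Agent.S1293

/-- Let G be finite with L_{p'}(G) = 1, and H = N_G(P) for a nontrivial p-subgroup P. Then L_{p'}(H) = 1 and O_{p'}(H) ≤ O_{p'}(G). -/
theorem result {G : Type*} [Group G] [Finite G] (p : ℕ) [Fact p.Prime] (hL : Cfsg.pLayer p G = ⊥) (P : Subgroup G) (hP : IsPGroup p ↥P) (hP1 : P ≠ ⊥) : Cfsg.pLayer p ↥(Subgroup.normalizer (P : Set G)) = ⊥ ∧ (Cfsg.pPrimeCore p ↥(Subgroup.normalizer (P : Set G))).map (Subgroup.normalizer (P : Set G)).subtype ≤ Cfsg.pPrimeCore p G := by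
  have iff : ∀ (Y : Type _) [Group Y] [Finite Y],
      PSolv.SelfCentralizingCore p (Y ⧸ Cfsg.pPrimeCore p Y) ↔ Cfsg.pLayer p Y = ⊥ := by
    intro Y _ _
    have hF : Cfsg.fittingSubgroup (Y ⧸ Cfsg.pPrimeCore p Y) = Cfsg.pCore p (Y ⧸ Cfsg.pPrimeCore p Y) :=
      Solv.fitting_eq_pCore (Solv.pPrimeCore_quotient p)
    rw [PSolv.SelfCentralizingCore, ← hF, Layer.centralizer_fitting_le_iff]
    constructor
    · intro h
      rw [eq_bot_iff]
      exact sSup_le fun K hK => absurd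
        (le_bot_iff.mp ((Layer.component_le_layer hK.2.1).trans h.le)) (Layer.component_ne_bot hK.2.1)
    · intro h
      rw [← PSolv.map_pLayer, h, Subgroup.map_bot]
  have hG := (iff G).mpr hL
  refine ⟨(iff _).mp (PSolv.isPConstrained_iff.mp (PSolv.isPConstrained_local hG hP
    (Subgroup.centralizer_le_normalizer _) le_rfl (Or.inl Subgroup.le_normalizer))), ?_⟩
  rw [PSolv.pPrimeCore_local hG hP (Subgroup.centralizer_le_normalizer _) le_rfl (Or.inl Subgroup.le_normalizer)]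
  exact inf_le_left

end Cfsg.Agent.S1293
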