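import Cfsg.Statements.S1556
import Cfsg.Agent.M24.Trans

set_option autoImplicit false
open scoped Pointwise
open Cfsg

namespace Cfsg.Agent.S1556

/-- layer data -/
def cs0L0P0 : List (List ℕ) := [[0, 1]]

/-- layer data -/
def cs0L1P0 : List (List ℕ) := [[0, 1], [0, 1]]

/-- layer data -/
def cs0L2P0 : List (List ℕ) := [[1], [0, 1], [0], [0, 1]]

/-- layer data -/
def cs0L3P0 : List (List ℕ) := [[0, 1], [0, 1], [1], [1], [0, 1], []]

/-- layer data -/
def cs0L4P0 : List (List ℕ) := [[0, 1], [1], [], [0], [0], [], [1], [0]]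

/-- layer data -/
def cs0L5P0 : List (List ℕ) := [[], [1], [1], [], [], [], []]

/-- An orbit certificate. -/
def cs0 : Cfsg.Agent.M24.Cert where
  fx := [5279]
  gens := [653317593776397181797303339686439015, 559090151205167606595056223618336130]
  x0 := 11952160
  sp := [cs0L0P0, cs0L1P0, cs0L2P0, cs0L3P0, cs0L4P0, cs0L5P0]

/-- layer data -/
def cs2L0P0 : List (List ℕ) := [[0, 1, 2]]

/-- layer data -/
def cs2L1P0 : List (List ℕ) := [[1, 2], [0, 1, 2], [1, 2]]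

/-- layer data -/
def cs2L2P0 : List (List ℕ) := [[0, 1, 2], [0, 1, 2], [1, 2], [0, 1, 2], [0, 1, 2], [0, 1, 2], [0, 1, 2]]

/-- layer data -/
def cs2L3P0 : List (List ℕ) := [[1, 2], [0, 1, 2], [0, 1, 2], [1, 2], [1, 2], [0, 1, 2], [0, 1, 2], [0, 1, 2], [1, 2], [0, 2], [0, 1, 2], [1, 2], [0, 1, 2], [0, 1, 2], [1, 2], [0, 1, 2], [0, 1, 2], [1, 2], [0], [0, 1, 2]]

/-- layer data -/
def cs2L4P0 : List (List ℕ) := [[0, 2], [0, 1, 2], [1, 2], [0, 1, 2], [0, 1, 2], [1, 2], [0, 1, 2], [0, 1], [0, 1, 2], [0, 1, 2], [0, 1], [0, 1, 2], [1, 2], [0, 1, 2], [0, 2], [1, 2], [0, 1, 2], [0, 2], [2], [0, 1, 2], [1, 2], [0, 1, 2], [0, 2], [1, 2], [0, 1, 2], [1, 2], [0, 1, 2], [1, 2], [0, 1, 2], [0, 1, 2], [], [0, 1, 2], [1, 2], [2], [], [1, 2], [1, 2], [1, 2], [1, 2], [0, 1, 2], [0, 1, 2], [1, 2], [], [0, 1, 2], [0], [1, 2], [], [2], [1, 2], [2]]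

/-- layer data -/
def cs2L5P0 : List (List ℕ) := [[2], [0, 2], [2], [0, 1], [0, 1, 2], [1, 2], [1, 2], [1], [1, 2], [0, 2], [1], [1, 2], [0, 1], [1], [2], [], [0, 2], [], [1, 2], [1, 2], [1], [1, 2], [1, 2], [1, 2], [0, 1, 2], [0], [1, 2], [0, 2], [1, 2], [0, 1, 2], [1, 2], [1, 2], [1, 2], [1], [0, 1, 2], [2], [1, 2], [2], [0, 2], [0, 1], [1, 2], [1], [0, 1, 2], [1, 2], [0], [0, 1, 2], [2], [0, 1, 2], [], [1], [2], [1, 2], [], [1, 2], [1, 2], [0, 1, 2], [0], [0, 1], [1, 2], [1], [0, 1], [2], [0, 2], [2], [2], [2], [0], [], [1, 2], [1, 2], [2], [1, 2], [], [0, 1], [1, 2], [1, 2], [2], [1, 2], [], [1, 2], [1, 2], [1], [0, 1, 2], [1], [2], [2], [1], [0], [2], [0, 1], [1, 2], [1, 2], [], [], [], [2], [2], [], [1, 2], [2], [0], [0], [], [2], [], [1]]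

/-- layer data -/
def cs2L6P0 : List (List ℕ) := [[0, 2], [], [0, 1], [], [], [1, 2], [], [1], [2], [0, 1], [2], [2], [], [1], [2], [0, 2], [], [2], [0, 1, 2], [0, 2], [1], [], [0, 1], [2], [0], [], [1], [], [1, 2], [2], [], [1], [], [0, 1], [1], [0, 2], [0, 1, 2], [0], [2], [0], [], [1], [], [1], [2], [], [], [], [], [0], [], [], [1], [0], [1], [], [], [1], [1], [], [], [], [], [0], [0], [], [1], [], [], [1], [2], [0, 1], [1], [], [1], [0], [], [2], [], [], [0], [0, 2], [], [2], [], [], [], [], [0], [], [2], [], [], [], [2], [0, 1], [1, 2], [], [], [2], [], [], [], [], [], [], [0], [], [0, 1], [], [], [0], [], [2], [], [], [], [0], [], [], [], [], [0], [], [0], [], [1], [1]]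

/-- layer data -/
def cs2L6P1 : List (List ℕ) := [[], [], [], [], [], [], [], [1], [1], [], [], [1], [0, 2], [], [], [], [], [], [], [2], [0], [], [], [], [2], [], [], []]

/-- layer data -/
def cs2L7P0 : List (List ℕ) := [[], [], [], [], [], [], [], [0], [], [], [], [], [], [], [], [], [], [], [], [], [], [], [], [], [0], [2], [], [2], [2], [], [], [], [], [], [], [], [], [], [], [], [], [], [], [], [], [], [], [], [], [1], [], [], [], [], [], [1], [1], [2], [0], [], [], [], [], [], [], [], [], [], [], [], [], [1], [0], [], [], [], [], [], [], [], [], [], [], [], [], [], [], [], [], [], [], [], []]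

/-- An orbit certificate. -/
def cs2 : Cfsg.Agent.M24.Cert where
  fx := [5279]
  gens := [813188657873780865613354720972253219, 839455041894986219762852759760866375, 776468145241182005402746936340094028]
  x0 := 13062145
  sp := [cs2L0P0, cs2L1P0, cs2L2P0, cs2L3P0, cs2L4P0, cs2L5P0, cs2L6P0 ++ cs2L6P1, cs2L7P0]

/-- layer data -/
def cs4L0P0 : List (List ℕ) := [[0, 1, 2, 3]]

/-- layer data -/
def cs4L1P0 : List (List ℕ) := [[0, 1, 2, 3], [0, 1, 2, 3], [0, 1, 2, 3], [0, 1, 2, 3]]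

/-- layer data -/
def cs4L2P0 : List (List ℕ) := [[0, 1, 2, 3], [0, 1, 2, 3], [0, 1, 2, 3], [0, 2, 3], [0, 1, 3], [0, 1, 2, 3], [0, 2, 3], [0, 2, 3], [2, 3], [0, 1, 2, 3], [0, 2, 3], [0, 1, 2, 3], [0, 1, 2], [0, 1, 2, 3], [0, 1, 2, 3], [0, 1, 2, 3]]

/-- layer data -/
def cs4L3P0 : List (List ℕ) := [[0, 1, 2, 3], [0, 2, 3], [0, 1, 2, 3], [0, 1, 2], [0, 1, 2], [0, 1, 2, 3], [0, 1, 2, 3], [0, 1, 3], [1, 3], [0, 1, 3], [1], [2, 3], [0, 2], [2, 3], [1, 2, 3], [0, 1, 2, 3], [1, 2], [1, 3], [1, 2], [3], [0, 2, 3], [1, 2, 3], [1, 2, 3], [0, 1, 3], [0, 1, 2], [3], [0, 2, 3], [0, 2], [1, 2], [0, 2, 3], [0, 3], [], [0, 2, 3], [0, 1, 3], [0, 1, 3], [0, 2], [2, 3], [0, 3], [0, 2], [1], [2], [1, 2], [1, 3], [1], [0, 3], [0, 2], [0, 3], [0, 1], [3], [0, 2], [1, 3], [0, 2, 3], [0, 1], [0, 3], [3], [0, 2]]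

/-- layer data -/
def cs4L4P0 : List (List ℕ) := [[], [0, 1, 2], [], [1, 2], [3], [3], [0, 1], [0, 2], [1, 2], [1, 2], [0], [2], [2, 3], [0, 3], [], [2], [0, 1, 2], [], [1, 3], [1, 3], [1], [3], [], [], [2], [], [1], [0, 1, 2], [3], [], [0, 3], [], [], [1], [2], [3], [0, 2], [1], [], [3], [], [], [], [2], [], [3], [], [], [], [], [2], [3], [1, 2], [], [], [], [], [0, 3], [], [], [0, 1], [], [], [], [], [], [0], [0], [3], [], [], [], [], [], [3], [], [2], [], [], [2], [], [3], [], [2], [], [], [], [], [2], [3], [], [], [], [], [3], [], [1], [], [], [], [], [3], [2], [], [], [], [], [], [], [], [], [], [], [], [3], [3], [], [], [], [], [], [], [], [3], [], [], [], []]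

/-- layer data -/
def cs4L4P1 : List (List ℕ) := [[]]

/-- layer data -/
def cs4L5P0 : List (List ℕ) := [[], [], [], [], [], [], [], [], [], [], [], [], [], [], [], [], [], [], [], [], [], [], [], [], [], [], [], [0], [], [], [], [], [], [], [], [], [], [], [], [], [], [], [], [], [], [], [], [], [], [], [], [], [], [], [], [], [], [], [], [], [], [], [], [], [], [], [], [], [], [], [], [], []]

/-- An orbit certificate. -/
def cs4 : Cfsg.Agent.M24.Cert where
  fx := [5279]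
  gens := [234111918219196288203094230699321408, 806862761991683037700838975990794561, 478388141947729137614790994345132266, 810253684163071799268031616300220801]
  x0 := 5902343
  sp := [cs4L0P0, cs4L1P0, cs4L2P0, cs4L3P0, cs4L4P0 ++ cs4L4P1, cs4L5P0]

/-- An orbit certificate. -/
def cs8 : Cfsg.Agent.M24.Cert where
  fx := [5279]
  gens := [925063330559709128708623573402757187]
  x0 := 5279
  sp := []

/-- Certificates by key. -/
def cs : List (ℕ × Cfsg.Agent.M24.Cert) := [(0, cs0), (2, cs2), (4, cs4), (8, cs8)]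

theorem cs_ok : Cfsg.Agent.M24.keyCheck [Cfsg.Agent.M24.oct0] Cfsg.Agent.M24.octL (fun m => Cfsg.Agent.M24.pc (Cfsg.Agent.M24.oct0 &&& m)) cs = true := by
  decide +kernel

/-- Two octads meeting a fixed octad in equally many points are in the same orbit of its stabiliser. -/
theorem result (o o' o'' : Finset Cfsg.GolayPt) (ho : o ∈ Cfsg.octads) (ho' : o' ∈ Cfsg.octads) (ho'' : o'' ∈ Cfsg.octads) (h : (o ∩ o').card = (o ∩ o'').card) : ∃ g : Equiv.Perm Cfsg.GolayPt, g ∈ Cfsg.M24 ∧ g • o = o ∧ g • o' = o'' := by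
  obtain ⟨g, hg, rfl⟩ := Cfsg.Agent.M24.exists_map_octad ho
  obtain ⟨m, hm, rfl⟩ := Cfsg.Agent.M24.exists_octad hg ho'
  obtain ⟨n, hn, rfl⟩ := Cfsg.Agent.M24.exists_octad hg ho''
  rw [Cfsg.Agent.M24.card_smul_inter, Cfsg.Agent.M24.card_smul_inter] at h
  obtain ⟨u, hu, e⟩ := Cfsg.Agent.M24.map_of_keyCheck cs_ok hm hn h
  exact ⟨g * u * g⁻¹, Cfsg.M24.mul_mem (Cfsg.M24.mul_mem hg hu.1) (Cfsg.M24.inv_mem hg),
    Cfsg.Agent.M24.conj_smul (hu.2 _ List.mem_cons_self), Cfsg.Agent.M24.conj_smul e⟩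

end Cfsg.Agent.S1556
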