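import Cfsg.Statements.S1561
import Cfsg.Agent.M24.Trans

set_option autoImplicit false
open scoped Pointwise
open Cfsg

namespace Cfsg.Agent.S1561

/-- An orbit certificate. -/
def cs0 : Cfsg.Agent.M24.Cert where
  fx := [340831]
  gens := [235655895564416226236819613634733330]
  x0 := 16436384
  sp := []

/-- layer data -/
def cs4L0P0 : List (List ℕ) := [[0, 1]]

/-- layer data -/
def cs4L1P0 : List (List ℕ) := [[0, 1], [0, 1]]

/-- layer data -/
def cs4L2P0 : List (List ℕ) := [[0, 1], [0, 1], [0, 1], [0, 1]]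

/-- layer data -/
def cs4L3P0 : List (List ℕ) := [[0, 1], [0, 1], [0, 1], [0, 1], [0, 1], [0, 1], [0, 1], [0, 1]]

/-- layer data -/
def cs4L4P0 : List (List ℕ) := [[0, 1], [0, 1], [1], [0, 1], [0, 1], [0, 1], [0, 1], [0, 1], [0, 1], [0, 1], [0, 1], [0, 1], [0, 1], [0, 1], [0, 1], [0, 1]]

/-- layer data -/
def cs4L5P0 : List (List ℕ) := [[0, 1], [0, 1], [0, 1], [0, 1], [0, 1], [0, 1], [0, 1], [0, 1], [0, 1], [0, 1], [0, 1], [0, 1], [0, 1], [0, 1], [0, 1], [0, 1], [0], [1], [0, 1], [0, 1], [0, 1], [0, 1], [0, 1], [1], [0, 1], [0, 1], [0, 1], [0, 1], [0, 1], [0, 1], [0, 1]]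

/-- layer data -/
def cs4L6P0 : List (List ℕ) := [[0, 1], [0, 1], [0, 1], [0, 1], [0, 1], [1], [0, 1], [0, 1], [0, 1], [0, 1], [0, 1], [1], [0, 1], [1], [0, 1], [0, 1], [0, 1], [0], [0, 1], [1], [0, 1], [], [0], [0, 1], [0, 1], [0, 1], [0, 1], [0, 1], [1], [0, 1], [0, 1], [0, 1], [1], [0, 1], [0, 1], [0, 1], [1], [0, 1], [1], [0, 1], [0], [0], [0, 1], [0], [0], [], [0, 1], [0, 1], [0, 1], [0, 1], [1], [0, 1], [0, 1], [0, 1], [0, 1], [0, 1], [1], [1], [1]]

/-- layer data -/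
def cs4L7P0 : List (List ℕ) := [[1], [0, 1], [0], [0, 1], [0, 1], [0, 1], [], [0], [1], [0, 1], [0], [0, 1], [0, 1], [0, 1], [1], [0, 1], [1], [1], [], [0, 1], [1], [0, 1], [1], [0, 1], [0, 1], [1], [0, 1], [0], [0, 1], [0, 1], [0, 1], [0, 1], [0, 1], [1], [1], [], [0, 1], [0], [0, 1], [0, 1], [0], [0, 1], [0], [0], [0], [0], [0, 1], [1], [0], [0, 1], [0, 1], [1], [1], [1], [], [0, 1], [0, 1], [], [1], [0, 1], [0], [], [0, 1], [], [0, 1], [0, 1], [0, 1], [0, 1], [0], [0], [0, 1], [], [0, 1], [], [1], [1], [], [0], [], [0, 1], [1], [0], [0, 1], [0, 1], [1], [0], [1], [1], [0, 1], [], [], [0], [], [1], [1], [0, 1]]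

/-- layer data -/
def cs4L8P0 : List (List ℕ) := [[0, 1], [0], [], [0, 1], [0, 1], [0, 1], [1], [1], [0, 1], [0], [0, 1], [0, 1], [], [0], [0], [0], [1], [1], [], [1], [0], [], [0, 1], [1], [0], [1], [], [0], [], [0], [1], [], [0], [], [], [1], [1], [], [1], [1], [0, 1], [1], [1], [0], [1], [1], [0, 1], [0, 1], [0], [1], [0], [0], [], [0, 1], [0, 1], [0, 1], [0, 1], [0, 1], [0, 1], [0], [], [0, 1], [], [1], [0, 1], [1], [], [1], [], [0], [0], [0, 1], [1], [], [1], [1], [1], [], [0], [0], [], [0], [], [], [1], [], [1], [], [], [], [], [1], [1], [0], [1], [0], [1], [1], [0], [0], [0], [0], [1], [0], [], [1], [0, 1], [1], [], [1], [], [], [0], [], [], [0], [1], [], [], [1], [], [0, 1], [0]]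

/-- layer data -/
def cs4L9P0 : List (List ℕ) := [[], [0, 1], [], [0, 1], [], [], [], [1], [], [], [1], [], [1], [1], [1], [1], [0, 1], [1], [0], [0], [], [], [], [], [], [1], [1], [], [], [], [1], [], [], [], [], [0], [], [], [], [1], [], [], [], [], [1], [], [], [], [0], [], [], [1], [], [1], [0], [], [1], [1], [1], [], [], [], [], [0], [], [], [], [0], [], [1], [], [], [], [], [], [], [], [], [1], [1], [], [], [], [], [], [1], [], [], [], [], [], [0], [], [], [], [], [1], [], [], [], [1], [], [], [1], [], [], [], [0], [], [], []]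

/-- layer data -/
def cs4L10P0 : List (List ℕ) := [[], [], [0, 1], [], [], [1], [0], [], [], [], [], [], [], [], [], [], [0], [], [], [], [], [], [], [], [], [], [], [], [], [], [], [], [], [], [], [], [], [], []]

/-- An orbit certificate. -/
def cs4 : Cfsg.Agent.M24.Cert where
  fx := [340831]
  gens := [921289609968317951188127797665104164, 309563738065669228108184706514993254]
  x0 := 16748578
  sp := [cs4L0P0, cs4L1P0, cs4L2P0, cs4L3P0, cs4L4P0, cs4L5P0, cs4L6P0, cs4L7P0, cs4L8P0, cs4L9P0, cs4L10P0]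

/-- layer data -/
def cs6L0P0 : List (List ℕ) := [[0, 1, 2]]

/-- layer data -/
def cs6L1P0 : List (List ℕ) := [[0, 1, 2], [0, 1, 2], [0, 1, 2]]

/-- layer data -/
def cs6L2P0 : List (List ℕ) := [[0, 1, 2], [0, 1, 2], [0, 1, 2], [0, 1, 2], [0, 1, 2], [0, 1, 2], [0, 1, 2], [0, 1, 2], [0, 1, 2]]

/-- layer data -/
def cs6L3P0 : List (List ℕ) := [[0, 1, 2], [0, 1, 2], [0, 1, 2], [0, 1, 2], [0, 1, 2], [0, 1, 2], [0, 1, 2], [0, 1, 2], [0, 1, 2], [0, 1, 2], [0, 1, 2], [0, 1, 2], [0, 1, 2], [0, 1, 2], [0, 1, 2], [0, 1, 2], [0, 1, 2], [0, 1, 2], [0, 1, 2], [0, 1, 2], [0, 1, 2], [0, 1, 2], [0, 1, 2], [0, 1, 2], [0, 1, 2], [0, 1, 2], [0, 1, 2]]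

/-- layer data -/
def cs6L4P0 : List (List ℕ) := [[0, 1, 2], [0, 1, 2], [0, 1, 2], [0, 1, 2], [0, 1, 2], [0, 1, 2], [0, 1, 2], [0, 1, 2], [0, 1, 2], [0, 2], [1, 2], [0, 1, 2], [0, 1], [0, 1, 2], [0, 1, 2], [0, 1, 2], [0, 1, 2], [0, 1, 2], [0, 1, 2], [0, 1], [0, 1, 2], [0, 1, 2], [0, 1, 2], [0, 1, 2], [0, 1], [0, 1, 2], [0, 1, 2], [0, 1, 2], [0, 1, 2], [0, 1, 2], [0, 2], [0, 1, 2], [0, 1, 2], [0, 1, 2], [0, 1, 2], [0, 1, 2], [0, 1, 2], [0, 1, 2], [0, 2], [0], [0, 1, 2], [0, 1, 2], [0, 1], [0], [0, 1, 2], [0, 1, 2], [0, 1, 2], [1, 2], [0, 1, 2], [1, 2], [0, 1, 2], [0, 1, 2], [0], [0, 1, 2], [0, 1, 2], [0, 1, 2], [0, 2], [1, 2], [0, 1, 2], [0, 1, 2], [0, 1, 2], [0, 1, 2], [1, 2], [0, 1, 2], [0, 1, 2], [0, 1, 2], [0, 2], [0, 1, 2], [2], [0, 2], [1, 2], [0, 1, 2], [1, 2], [0, 1, 2], [0, 1, 2], [1, 2], [0, 1], [0, 1, 2], [0, 2], [0, 2], [0, 1]]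

/-- layer data -/
def cs6L5P0 : List (List ℕ) := [[1, 2], [0], [0, 1, 2], [0, 1], [0, 1, 2], [0, 2], [0, 1, 2], [0, 2], [0, 1, 2], [0, 1, 2], [0, 1, 2], [0, 1, 2], [0, 1, 2], [1, 2], [0, 1], [0, 1], [0, 1, 2], [0, 1, 2], [0, 1, 2], [1, 2], [0, 1, 2], [0, 2], [0, 1, 2], [0, 1, 2], [0, 1, 2], [0, 1, 2], [0], [1], [0, 1, 2], [1, 2], [0, 1, 2], [0, 1, 2], [0, 1, 2], [0, 2], [2], [0, 1], [0, 1, 2], [0], [0, 2], [0, 1, 2], [0, 2], [0, 1], [0, 1, 2], [0, 2], [0, 1, 2], [0, 1, 2], [0, 1, 2], [0, 1, 2], [1], [0, 2], [0, 1, 2], [0, 1], [0, 1, 2], [0, 1, 2], [1, 2], [0, 1, 2], [1], [0, 1, 2], [0, 1, 2], [1, 2], [0, 1, 2], [1], [0, 1], [0, 2], [1, 2], [0], [0, 1], [0, 1, 2], [0, 2], [0], [0, 1, 2], [0, 1, 2], [0, 1, 2], [0, 1, 2], [0, 1, 2], [0, 1], [0, 2], [0, 1, 2], [0], [1, 2], [1, 2], [0, 2], [0, 1, 2], [1, 2], [0, 1, 2], [0, 1, 2], [1, 2], [0, 1, 2], [0, 1, 2], [0, 1, 2], [0, 1, 2], [0], [1, 2], [0, 1, 2], [1], [0, 2],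 [0, 1], [1], [0], [0, 1, 2], [0, 1, 2], [0, 1, 2], [0, 1, 2], [0, 1, 2], [2], [0, 2], [1, 2], [0, 1, 2], [0, 1], [1, 2], [0, 1, 2], [0, 1, 2], [1, 2], [0, 1, 2], [0, 1], [0], [0, 1, 2], [0, 2], [0], [1, 2], [1], [2], [0, 1, 2], [1, 2], [0, 2], [1, 2], [1], [0, 2]]

/-- layer data -/
def cs6L5P1 : List (List ℕ) := [[0, 1], [0, 1, 2], [1], [0, 1], [1, 2], [], [0, 1, 2], [0, 1, 2], [0, 1], [1, 2], [0, 1, 2], [0, 1, 2], [0, 1, 2], [0, 1], [1, 2], [1, 2], [1, 2], [0, 1], [0, 1, 2], [1, 2], [0, 2], [1, 2], [0], [0, 1, 2], [0, 1], [1], [0, 1], [0, 1], [1], [0, 1], [0, 1, 2], [0, 1, 2], [0, 1, 2], [2], [0, 2], [0], [0, 1, 2], [0, 1, 2], [0, 1], [0, 1, 2], [0, 1, 2], [0, 1, 2], [0, 1], [0], [0, 1, 2], [0, 2], [0, 2], [0, 1, 2], [0, 1], [0, 1], [0, 1], [1], [0, 1, 2], [0, 1], [0, 2], [0, 2], [2], [1, 2], [2], [1, 2], [0, 2], [1, 2], [0], [0], [1], [1], [1, 2], [2], [], [1, 2], [0, 1], [1, 2], [0, 1, 2], [0, 1, 2], [0, 1],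 [0, 2], [0, 2], [2], [0, 2], [0, 1, 2], [0, 2], [0, 2], [0, 2], [2], [1]]

/-- layer data -/
def cs6L6P0 : List (List ℕ) := [[0, 1], [0, 1], [1, 2], [0, 2], [0, 1, 2], [1], [0, 1, 2], [0, 1, 2], [0, 1, 2], [0, 1, 2], [0], [0, 2], [2], [0], [2], [0, 1, 2], [1, 2], [2], [0, 2], [1, 2], [2], [1, 2], [0], [0, 1, 2], [0], [0, 1, 2], [0, 1, 2], [1, 2], [0, 1, 2], [0, 1], [0, 2], [1, 2], [0, 1, 2], [0], [], [0, 1], [2], [0], [], [1, 2], [2], [1, 2], [0, 1], [0], [0, 1], [0, 2], [0, 2], [], [2], [0, 2], [0, 2], [2], [1], [0, 2], [2], [2], [0, 1, 2], [1, 2], [0], [], [], [0, 1], [0, 1, 2], [1], [0, 1], [0], [0, 1, 2], [1, 2], [0, 2], [0, 1], [1], [2], [1], [1], [2], [1, 2], [0], [0, 1, 2], [0, 2], [0, 1, 2], [0, 1], [0, 1], [0], [0, 2], [2], [0, 1], [0, 2], [1], [1, 2], [0, 1, 2], [0, 2], [1, 2], [0, 1, 2], [1], [2], [0, 2], [], [], [0, 2], [2], [1], [0, 1], [0], [2], [0], [0], [0, 1], [1], [0, 2], [0], [0, 2], [0, 1], [1],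 [0, 1, 2], [1, 2], [0, 1, 2], [0], [1, 2], [], [1, 2], [0], [0], [], [], [0, 1, 2], [0], [1], [1, 2]]

/-- layer data -/
def cs6L6P1 : List (List ℕ) := [[0, 1], [1], [], [1, 2], [0, 2], [], [2], [2], [1, 2], [0], [1], [2], [1], [1], [0, 1, 2], [0, 2], [0, 1, 2], [0], [0, 2], [0, 2], [1], [0, 1, 2], [0, 1, 2], [], [0], [1], [1, 2], [0, 1, 2], [0, 1], [], [0], [], [0, 2], [1], [2], [], [0, 1], [], [1], [1, 2], [0, 1, 2], [1], [0, 1], [2], [0], [2], [1], [], [1], [2], [0, 1], [1, 2], [0, 1, 2], [0, 2], [1, 2], [], [2], [0, 1, 2], [0, 2], [], [1], [2], [1], [], [1, 2], [2], [0], [], [0, 1, 2], [1, 2], [2], [0, 1, 2], [0, 1, 2], [0, 2], [1, 2], [2], [], [2], [1], [0], [], [], [2], [1], [], [1, 2], [0, 1], [0], [1], [], [], [1], [0, 2], [2], [0, 2], [1, 2], [0, 2], [1, 2], [1, 2], [0], [1, 2], [0, 2], [2], [], [1], [0, 1, 2], [1], [], [2], [0, 2], [2], [], [0, 1], [1], [2], [0], [1, 2], [1, 2], [0, 1, 2], [], [0], [2],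 [0, 2], [0, 1, 2], [], [], [], []]

/-- layer data -/
def cs6L6P2 : List (List ℕ) := [[1, 2], [0, 2], [2], [0], [1], [], [1], [0, 1], [1], [2], [0], [2], [], [0], [], [1], [], [], [0], [], [1, 2], [2], [1], [0, 1, 2], [0], [0], [2], [0, 1, 2], [1], [], [1, 2], [], [0, 1], [], [0, 1], [1], [0, 2], [1, 2], [1], [0], [1, 2], [], [1, 2], [], [], [2], [], [], [0, 1], [], [0], [], [], [0, 2], [], [0], [1, 2], [], [], [0], [], [], [2], [1], [1, 2], [2], [0, 2], [0], [], [0, 1, 2], [1, 2], [0, 1, 2], [0, 2], [], [1, 2], [], [2], [1], [], [1], [0, 2], [2], [1, 2], [], [], [1, 2], [1, 2], [0], [1], [0, 2], [], [1], [0], [], [0, 2], [2], [1], [], [0], [2], [2], [], [0, 1], [2], [1], [1, 2], [1, 2], [1, 2], [2], [0, 1, 2], [2], [], [1], [0], [1], [0], [1, 2], [0, 2], [], [1, 2], [], [], [2], [2], [], [0], [1], [2]]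

/-- layer data -/
def cs6L6P3 : List (List ℕ) := [[0, 2], [1], [], [1], [0, 1, 2], [0, 1, 2], [], [1, 2], [0, 2], [0], [1, 2], [], [0, 2], [0, 1, 2], [], [2], [], [0, 1], [1, 2], [0], [0, 1, 2], [0, 1], [0], [0], [], [1, 2], [1], [], [], [], [], [0], [0, 2], [0], [], [2], [1], [2], [], [1], [1], [0, 1], [0], [], [0, 1], [1, 2], [1], [], [1], [], [0], [], [], [1], [], [], [1], [], [2], [2], [0, 1], [0, 1, 2], [], [1], [2], [0, 1], [], [0, 2], [0], [0, 2], [], [0], [0], [1], [], [], [0, 2], [], [1], [1], []]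

/-- layer data -/
def cs6L7P0 : List (List ℕ) := [[0, 2], [0, 1], [], [], [], [0, 1], [], [2], [0, 1], [2], [0], [], [], [], [0, 1, 2], [2], [2], [2], [], [], [0, 1], [], [], [], [], [2], [0], [], [0], [], [], [2], [], [0, 1, 2], [0], [], [], [], [], [0], [1], [], [], [1], [], [], [0], [0], [], [0], [1, 2], [1], [], [0], [0, 1], [], [2], [0, 1], [2], [1], [], [], [2], [0], [], [0, 1], [], [], [1], [], [0, 2], [2], [2], [2], [2], [], [], [1], [], [2], [], [0], [1], [], [], [], [], [], [0], [0, 1], [], [], [0], [2], [1, 2], [0, 1], [2], [], [], [], [0], [], [1], [], [], [], [1], [], [], [1], [0], [], [], [0], [], [], [0, 1], [0], [], [], [2], [], [], [1], [2], [], [], [0]]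

/-- layer data -/
def cs6L7P1 : List (List ℕ) := [[], [], [], [0], [], [2], [0], [], [0], [1, 2], [], [], [], [], [], [1], [2], [], [], [], [], [1], [0], [], [], [], [0, 2], [], [0], [], [], [2], [2], [0, 1], [2], [2], [], [], [], [], [0], [], [0], [0], [], [], [], [], [], [], [2], [], [], [], [2], [], [], [], [1], [0], [], [], [0], [], [0], [], [], [], [], [1], [1, 2], [2], [0], [], [1], [], [], [], [], [], [], [], [0], [], [], [0], [1, 2], [], [], [], [], [2], [], [2], [], [0], [1, 2], [], [2], [], [0], [], [0], [], [], [2], [2], [], [], [2], [0, 2], [0], [2], [], [], [0, 1], [], [], [0, 1], [], [0], [], [], [], [2], [], [], []]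

/-- layer data -/
def cs6L7P2 : List (List ℕ) := [[], [], [], [], [], [2], [], [], [], [], [0], [], [], [1], [2], [], [2], [], [], [], [1], [], [], [], [], [], [], [0], [], [], [], [], [0, 2], [], [], [], [], [], [2], [], [], [1], [], [0], [1], [], [1], [], [], [], [1], [], [], [1], [], [2], [0], [1], [], [], [], [], [], [0], [], [], [], [], [], [], [2], [2], [], [], [], [], [], [], [], [], [], [], [], [0], [], [], [2], [], [], [], [], [], [], [], [0], [0, 1], [], [0], [], [], [], [], [1], [1], [], [], [1], [], [], [], [], [], [0], [], [], [], [], [], [], [2], [], [], [], [], [], [0], [], []]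

/-- layer data -/
def cs6L7P3 : List (List ℕ) := [[], [], [], [], [], [], [], [], [], [], [], [], [], [], [], [], [], [1], [], [], [], [], [], [], [], [], [], [], [], [], [], [], [], [], [], [], [], [], [], [0], [], [], [], [], [], [], [], [], [], [], [], [], [], [], [], [], [], [0], [0], [], [], [], [1], [], [], [], [1], [], [2], [], [], [], [0], [], [], [], [], [], [], [], [], [], [], [], [], [], [], [], [2], [2], [], [], [], [], [], [], [], [], [], [], [], [], [], [], [], [2], [], [], [], [], [], [], [], [], [], [], [], [], [], [], [], [], [0], [], [], [], [], []]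

/-- layer data -/
def cs6L7P4 : List (List ℕ) := [[], [], [], [], [], [], [], [], [], [], [], [], [], [], [], [], [], [], [], [], [2], [], [], [], [], [], [], [], [], [], [], [], [], [], [], [], [], [], [], [], [1], [], [], [], [], [], [], [], [], [], [], [], [], [], [], [], [], [], [], [], [], [], [], [1], [], [], [], [], [], [], [], [], [], [], [], [], [], [], [], [0]]

/-- layer data -/
def cs6L8P0 : List (List ℕ) := [[], [], [], [], [], [], [], [], [], [], [], [], [], [], [], [], [], [], [], [], [], [], [], [], [], [], [], [], [], [], [], [], [], [], [], [], [], [], [], [], [], [0], [], [], [], [], [], [], [], [], [], [], [], [], [], [], [], [], [], [], [], [], [], [], [], [], [], [], [1], [], [], [], [], [], [], [], [], [], [], [], [], [], [], [], [], [], [], [], [], [], [], [], [], [], [], [], [], [], [], [], [], [], [], [], [], [], [], [], [], [], [], [], [], [], [], [], [], [], [], [], [], [], [], [], [],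 [], [], []]

/-- layer data -/
def cs6L8P1 : List (List ℕ) := [[], [], [], [], [], [], [], [], [], [], [], [], [], [], [], [], [], [], [], [], [], [], [], [], [], [], [], [], [], [], [], [], [], [], [], [], [], [], [], [], [], [], [], [], [], [], [], [], [], [], [], [], [], [], [], [], [], [], [], [], [], [], []]

/-- An orbit certificate. -/
def cs6 : Cfsg.Agent.M24.Cert where
  fx := [340831]
  gens := [316387184676531548464486460620285121, 858730249433827197445402613581783340, 901084476905370055822152444479310028]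
  x0 := 8245261
  sp := [cs6L0P0, cs6L1P0, cs6L2P0, cs6L3P0, cs6L4P0, cs6L5P0 ++ cs6L5P1, cs6L6P0 ++ cs6L6P1 ++ cs6L6P2 ++ cs6L6P3, cs6L7P0 ++ cs6L7P1 ++ cs6L7P2 ++ cs6L7P3 ++ cs6L7P4, cs6L8P0 ++ cs6L8P1]

/-- layer data -/
def cs8L0P0 : List (List ℕ) := [[0, 1]]

/-- layer data -/
def cs8L1P0 : List (List ℕ) := [[0, 1], [0, 1]]

/-- layer data -/
def cs8L2P0 : List (List ℕ) := [[0, 1], [0, 1], [0, 1], [0, 1]]

/-- layer data -/
def cs8L3P0 : List (List ℕ) := [[0, 1], [0, 1], [0, 1], [0, 1], [0, 1], [0, 1], [0, 1], [0]]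

/-- layer data -/
def cs8L4P0 : List (List ℕ) := [[1], [0, 1], [0, 1], [0, 1], [0, 1], [0, 1], [0, 1], [0, 1], [0, 1], [0, 1], [0, 1], [0, 1], [0, 1], [0, 1], [0, 1]]

/-- layer data -/
def cs8L5P0 : List (List ℕ) := [[0, 1], [0, 1], [0, 1], [0, 1], [0, 1], [1], [0, 1], [0], [0, 1], [0, 1], [0, 1], [0, 1], [0, 1], [0, 1], [0], [1], [0, 1], [0, 1], [0, 1], [0], [0, 1], [1], [0, 1], [0, 1], [0, 1], [0], [1], [0, 1], [0, 1]]

/-- layer data -/
def cs8L6P0 : List (List ℕ) := [[0, 1], [0], [0, 1], [0, 1], [0, 1], [0, 1], [0, 1], [0, 1], [0, 1], [0], [0, 1], [0, 1], [0, 1], [1], [0], [0, 1], [0, 1], [0], [0], [0, 1], [0, 1], [1], [0, 1], [0], [0, 1], [1], [], [0, 1], [0, 1], [0, 1], [0, 1], [0], [0, 1], [1], [0], [0, 1], [1], [0, 1], [1], [1], [1], [0, 1], [0, 1], [0, 1], [0, 1], [0, 1], [0, 1], [0, 1], [1], [0]]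

/-- layer data -/
def cs8L7P0 : List (List ℕ) := [[], [1], [0, 1], [0], [0, 1], [0, 1], [0, 1], [0], [], [1], [0, 1], [], [0, 1], [], [0, 1], [0, 1], [0], [0, 1], [0, 1], [0, 1], [0, 1], [0], [0, 1], [], [0, 1], [0, 1], [0, 1], [0, 1], [0], [0, 1], [1], [1], [0, 1], [0, 1], [1], [0, 1], [0, 1], [1], [0, 1], [1], [0, 1], [1], [1], [0], [0, 1], [0, 1], [0], [0], [1], [0, 1], [0, 1], [0], [0], [0], [1], [1], [0], [0, 1], [0, 1], [1], [], [0], [0, 1], [0, 1], [0], [0], [0, 1], [0, 1], [1], [0], [0, 1], [0, 1], [0], [0, 1], [1], [0, 1], [1], [], [0, 1], []]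

/-- layer data -/
def cs8L8P0 : List (List ℕ) := [[0, 1], [1], [0, 1], [1], [0], [0], [1], [0, 1], [0], [0, 1], [0, 1], [1], [0], [1], [0, 1], [0], [0], [1], [1], [1], [0, 1], [0, 1], [0], [0], [1], [0, 1], [0, 1], [1], [1], [1], [1], [1], [0, 1], [], [0, 1], [0, 1], [0, 1], [1], [0], [0, 1], [1], [1], [], [0, 1], [0], [0, 1], [0], [1], [0], [0, 1], [0], [1], [1], [], [], [1], [1], [0], [1], [1], [1], [1], [], [0, 1], [1], [0, 1], [0, 1], [1], [0], [0], [1], [0, 1], [0], [1], [1], [], [1], [], [0], [0, 1], [], [0, 1], [0, 1], [0, 1], [], [0], [0, 1], [], [0], [0], [], [], [1], [], [], [0], [1], [0, 1], [1], [], [], [1], [0, 1], [0, 1], [], [0, 1], [1], [], [], [], [1]]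

/-- layer data -/
def cs8L9P0 : List (List ℕ) := [[0], [1], [], [1], [1], [0], [], [], [], [], [0], [], [1], [1], [], [], [0, 1], [1], [], [1], [1], [0], [], [], [], [0, 1], [0], [0, 1], [], [], [], [], [], [0], [1], [], [], [], [], [], [], [], [1], [0], [1], [0, 1], [0], [0, 1], [1], [1], [], [], [1], [1], [1], [], [], [1], [0], [], [], [], [0, 1], [], [], [1], [0, 1], [], [1], [1], [1], [1], [], [], [], [], [], [], [], [], [], [1], [0, 1], [], [1], [], [0], [], [], [1], [], [], [], [], [], [0], [0], [], [], [], [0], [], [], [], [0], [], [0, 1], [0], [1], [0], [], [], [], [], [], [], [], [], [], [], [0], []]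

/-- layer data -/
def cs8L10P0 : List (List ℕ) := [[], [1], [], [], [], [], [0], [], [], [], [], [], [], [1], [1], [], [0, 1], [], [], [], [], [], [], [], [1], [], [], [0], [1], [], [], [], [0], [], [], [], [], [], [], [], [], [], [], [], [], [], [], [], [1], [], [1], [], [], [], [], [], [], [], [], [], []]

/-- An orbit certificate. -/
def cs8 : Cfsg.Agent.M24.Cert where
  fx := [340831]
  gens := [804211032412337677898713451812887042, 932239800417432279653775280842159168]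
  x0 := 11472927
  sp := [cs8L0P0, cs8L1P0, cs8L2P0, cs8L3P0, cs8L4P0, cs8L5P0, cs8L6P0, cs8L7P0, cs8L8P0, cs8L9P0, cs8L10P0]

/-- An orbit certificate. -/
def cs12 : Cfsg.Agent.M24.Cert where
  fx := [340831]
  gens := [856342550436710451478418887909392800]
  x0 := 340831
  sp := []

/-- Certificates by key. -/
def cs : List (ℕ × Cfsg.Agent.M24.Cert) := [(0, cs0), (4, cs4), (6, cs6), (8, cs8), (12, cs12)]

theorem cs_ok : Cfsg.Agent.M24.keyCheck [Cfsg.Agent.M24.dod0] Cfsg.Agent.M24.dodL (fun m => Cfsg.Agent.M24.pc (Cfsg.Agent.M24.dod0 &&& m)) cs = true := by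
  decide +kernel

/-- Two dodecads meeting a fixed dodecad in equally many points lie in one orbit of its stabiliser. -/
theorem result (d d' d'' : Finset Cfsg.GolayPt) (hd : d ∈ Cfsg.dodecads) (hd' : d' ∈ Cfsg.dodecads) (hd'' : d'' ∈ Cfsg.dodecads) (h : (d ∩ d').card = (d ∩ d'').card) : ∃ g : Equiv.Perm Cfsg.GolayPt, g ∈ Cfsg.M24 ∧ g • d = d ∧ g • d' = d'' := by
  obtain ⟨g, hg, rfl⟩ := Cfsg.Agent.M24.exists_map_dodecad hd
  obtain ⟨m, hm, rfl⟩ := Cfsg.Agent.M24.exists_dodecad hg hd'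
  obtain ⟨n, hn, rfl⟩ := Cfsg.Agent.M24.exists_dodecad hg hd''
  rw [Cfsg.Agent.M24.card_smul_inter, Cfsg.Agent.M24.card_smul_inter] at h
  obtain ⟨u, hu, e⟩ := Cfsg.Agent.M24.map_of_keyCheck cs_ok hm hn h
  exact ⟨g * u * g⁻¹, Cfsg.M24.mul_mem (Cfsg.M24.mul_mem hg hu.1) (Cfsg.M24.inv_mem hg),
    Cfsg.Agent.M24.conj_smul (hu.2 _ List.mem_cons_self), Cfsg.Agent.M24.conj_smul e⟩

end Cfsg.Agent.S1561
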