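import Cfsg.Statements.S1605
import Cfsg.Agent.M24.OctPts

set_option autoImplicit false
open scoped Pointwise
open Cfsg

namespace Cfsg.Agent.S1605

/-- layer data -/
def cs2L0P0 : List (List ℕ) := [[0, 1]]

/-- layer data -/
def cs2L1P0 : List (List ℕ) := [[0, 1], [0, 1]]

/-- layer data -/
def cs2L2P0 : List (List ℕ) := [[0, 1], [0, 1], [0, 1], [0, 1]]

/-- layer data -/
def cs2L3P0 : List (List ℕ) := [[0, 1], [0], [0, 1], [], [0, 1], [0, 1], [0, 1], [0, 1]]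

/-- layer data -/
def cs2L4P0 : List (List ℕ) := [[0, 1], [0, 1], [0, 1], [0, 1], [0, 1], [0, 1], [0], [1], [], [0, 1], [0, 1], [0, 1], []]

/-- layer data -/
def cs2L5P0 : List (List ℕ) := [[1], [], [1], [], [1], [1], [0], [0], [0, 1], [], [1], [0, 1], [1], [0], [], [], [0, 1], [], [], []]

/-- layer data -/
def cs2L6P0 : List (List ℕ) := [[0], [0], [], [], [1], [], [0, 1], [], [0], [], [], [], [], [], [1]]

/-- An orbit certificate. -/
def cs2 : Cfsg.Agent.M24.Cert where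
  fx := [5279, 1, 32]
  gens := [819353944583928567047168438421399616, 353814499327271323404192631485468992]
  x0 := 13062145
  sp := [cs2L0P0, cs2L1P0, cs2L2P0, cs2L3P0, cs2L4P0, cs2L5P0, cs2L6P0]

/-- layer data -/
def cs4L0P0 : List (List ℕ) := [[0, 1]]

/-- layer data -/
def cs4L1P0 : List (List ℕ) := [[0, 1], [0, 1]]

/-- layer data -/
def cs4L2P0 : List (List ℕ) := [[0, 1], [0, 1], [0], [0]]

/-- layer data -/
def cs4L3P0 : List (List ℕ) := [[1], [0, 1], [1], [0], [0, 1], [1]]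

/-- layer data -/
def cs4L4P0 : List (List ℕ) := [[0, 1], [0, 1], [], [1], [0, 1], [1], [], [0, 1]]

/-- layer data -/
def cs4L5P0 : List (List ℕ) := [[0, 1], [0], [0, 1], [0, 1], [0], [0, 1], [0, 1], [1], [0, 1], [0]]

/-- layer data -/
def cs4L6P0 : List (List ℕ) := [[0], [0], [0, 1], [1], [0, 1], [], [0], [0], [], [0, 1], [0, 1], [], [0], [1], [0, 1], [1]]

/-- layer data -/
def cs4L7P0 : List (List ℕ) := [[], [0, 1], [1], [0, 1], [0, 1], [], [], [0, 1], [0], [0, 1], [0], [0, 1], [0], [], [1], [0, 1], [0], [0]]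

/-- layer data -/
def cs4L8P0 : List (List ℕ) := [[0], [1], [1], [0], [], [], [0], [0, 1], [0], [], [0], [1], [0], [1], [0, 1], [0], [0], [0], [], [], []]

/-- layer data -/
def cs4L9P0 : List (List ℕ) := [[], [0], [], [0], [], [], [], [], [], [], [], [], [], [], [], [], []]

/-- An orbit certificate. -/
def cs4 : Cfsg.Agent.M24.Cert where
  fx := [5279, 1, 32]
  gens := [731087405897883762962929126208543872, 484856637363484057187421982397009024]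
  x0 := 5902343
  sp := [cs4L0P0, cs4L1P0, cs4L2P0, cs4L3P0, cs4L4P0, cs4L5P0, cs4L6P0, cs4L7P0, cs4L8P0, cs4L9P0]

/-- An orbit certificate. -/
def cs8 : Cfsg.Agent.M24.Cert where
  fx := [5279, 1, 32]
  gens := [893860109575824423949391876680910144]
  x0 := 5279
  sp := []

/-- Certificates by key. -/
def cs : List (ℕ × Cfsg.Agent.M24.Cert) := [(2, cs2), (4, cs4), (8, cs8)]

theorem cs_ok : Cfsg.Agent.M24.keyCheck [Cfsg.Agent.M24.oct0, 1, 32] (Cfsg.Agent.M24.octL.filter fun m => m.testBit 0 && !(m.testBit 5))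
    (fun m => Cfsg.Agent.M24.pc (Cfsg.Agent.M24.oct0 &&& m)) cs = true := by
  decide +kernel

/-- The two-point stabiliser acts on the 176 octads through the first point avoiding the second with rank 3 and subdegrees 1, 70, 105 (intersections 8, 2, 4). -/
theorem result (p q : Cfsg.GolayPt) (hpq : p ≠ q) : {x : Finset Cfsg.GolayPt | (x ∈ Cfsg.octads ∧ p ∈ x ∧ q ∉ x)}.ncard = 176 ∧ (∀ o o' : Finset Cfsg.GolayPt, (o ∈ Cfsg.octads ∧ p ∈ o ∧ q ∉ o) → (o' ∈ Cfsg.octads ∧ p ∈ o' ∧ q ∉ o') → ∃ g : Equiv.Perm Cfsg.GolayPt, g ∈ Cfsg.M24 ∧ g p = p ∧ g q = q ∧ g • o = o') ∧ ∀ o : Finset Cfsg.GolayPt, (o ∈ Cfsg.octads ∧ p ∈ o ∧ q ∉ o) → {x : Finset Cfsg.GolayPt | (x ∈ Cfsg.octads ∧ p ∈ x ∧ q ∉ x) ∧ (o ∩ x).card = 2}.ncard = 70 ∧ {x : Finset Cfsg.GolayPt | (x ∈ Cfsg.octads ∧ p ∈ x ∧ q ∉ x) ∧ (o ∩ x).card = 4}.ncard = 105 ∧ ∀ o' o'' : Finset Cfsg.GolayPt, (o' ∈ Cfsg.octads ∧ p ∈ o' ∧ q ∉ o')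 → (o'' ∈ Cfsg.octads ∧ p ∈ o'' ∧ q ∉ o'') → (o ∩ o').card = (o ∩ o'').card → ∃ g : Equiv.Perm Cfsg.GolayPt, g ∈ Cfsg.M24 ∧ g p = p ∧ g q = q ∧ g • o = o ∧ g • o' = o'' := by
  classical
  refine ⟨?_, ?_, ?_⟩
  · obtain ⟨g, hg, hgs⟩ := Cfsg.Agent.M24.exists_map5_two (p := p) (q := q) hpq
    obtain ⟨rfl, rfl⟩ := hgs
    exact Cfsg.Agent.M24.ncard_octads_smul hg _ (fun m => m.testBit 0 && !(m.testBit 5)) 176
      (fun m _ => by simp [Cfsg.Agent.M24.mem_smul_toSet g (show 0 < 24 by norm_num),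
        Cfsg.Agent.M24.mem_smul_toSet g (show 5 < 24 by norm_num)]) (by decide +kernel)
  · rintro o o' ⟨ho, hpo, hqo⟩ ⟨ho', hpo', hqo'⟩
    obtain ⟨a, ha, rfl, hap, haq⟩ := Cfsg.Agent.M24.exists_map_octad_in_out ho hpo hqo
    obtain ⟨b, hb, rfl, hbp, hbq⟩ := Cfsg.Agent.M24.exists_map_octad_in_out ho' hpo' hqo'
    refine ⟨b * a⁻¹, Cfsg.M24.mul_mem hb (Cfsg.M24.inv_mem ha), ?_, ?_, by simp [mul_smul]⟩
    · conv_lhs => rw [← hap]
      simp [hbp]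
    · conv_lhs => rw [← haq]
      simp [hbq]
  · rintro o ⟨ho, hpo, hqo⟩
    obtain ⟨g, hg, rfl, rfl, rfl⟩ := Cfsg.Agent.M24.exists_map_octad_in_out ho hpo hqo
    refine ⟨?_, ?_, ?_⟩
    · rw [show {x : Finset Cfsg.GolayPt | (x ∈ Cfsg.octads ∧ g (Cfsg.Agent.M24.pt 0) ∈ x ∧ g (Cfsg.Agent.M24.pt 5) ∉ x) ∧ (g • Cfsg.Agent.M24.toSet Cfsg.Agent.M24.oct0 ∩ x).card = 2} = {x : Finset Cfsg.GolayPt | x ∈ Cfsg.octads ∧ (g (Cfsg.Agent.M24.pt 0) ∈ x ∧ g (Cfsg.Agent.M24.pt 5) ∉ x ∧ (g • Cfsg.Agent.M24.toSet Cfsg.Agent.M24.oct0 ∩ x).card = 2)} by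
        ext x; simp [and_assoc]]
      exact Cfsg.Agent.M24.ncard_octads_smul hg _ (fun m => m.testBit 0 && (!(m.testBit 5) && Cfsg.Agent.M24.pc (Cfsg.Agent.M24.oct0 &&& m) == 2)) 70
        (fun m _ => by simp [Cfsg.Agent.M24.card_smul_inter, Cfsg.Agent.M24.mem_smul_toSet g (show 0 < 24 by norm_num),
          Cfsg.Agent.M24.mem_smul_toSet g (show 5 < 24 by norm_num), and_assoc]) (by decide +kernel)
    · rw [show {x : Finset Cfsg.GolayPt | (x ∈ Cfsg.octads ∧ g (Cfsg.Agent.M24.pt 0) ∈ x ∧ g (Cfsg.Agent.M24.pt 5) ∉ x) ∧ (g • Cfsg.Agent.M24.toSet Cfsg.Agent.M24.oct0 ∩ x).card = 4} = {x : Finset Cfsg.GolayPt | x ∈ Cfsg.octads ∧ (g (Cfsg.Agent.M24.pt 0) ∈ x ∧ g (Cfsg.Agent.M24.pt 5) ∉ x ∧ (g • Cfsg.Agent.M24.toSet Cfsg.Agent.M24.oct0 ∩ x).card = 4)} by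
        ext x; simp [and_assoc]]
      exact Cfsg.Agent.M24.ncard_octads_smul hg _ (fun m => m.testBit 0 && (!(m.testBit 5) && Cfsg.Agent.M24.pc (Cfsg.Agent.M24.oct0 &&& m) == 4)) 105
        (fun m _ => by simp [Cfsg.Agent.M24.card_smul_inter, Cfsg.Agent.M24.mem_smul_toSet g (show 0 < 24 by norm_num),
          Cfsg.Agent.M24.mem_smul_toSet g (show 5 < 24 by norm_num), and_assoc]) (by decide +kernel)
    · rintro o' o'' ⟨ho', hpo', hqo'⟩ ⟨ho'', hpo'', hqo''⟩ h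
      obtain ⟨m, hm, rfl⟩ := Cfsg.Agent.M24.exists_octad hg ho'
      obtain ⟨n, hn, rfl⟩ := Cfsg.Agent.M24.exists_octad hg ho''
      rw [Cfsg.Agent.M24.card_smul_inter, Cfsg.Agent.M24.card_smul_inter] at h
      simp only [Cfsg.Agent.M24.mem_smul_toSet g (show 0 < 24 by norm_num),
        Cfsg.Agent.M24.mem_smul_toSet g (show 5 < 24 by norm_num)] at hpo' hqo' hpo'' hqo''
      obtain ⟨u, hu, e⟩ := Cfsg.Agent.M24.map_of_keyCheck cs_ok
        (List.mem_filter.2 ⟨hm, by simp [hpo', hqo']⟩) (List.mem_filter.2 ⟨hn, by simp [hpo'', hqo'']⟩) h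
      exact ⟨g * u * g⁻¹, Cfsg.M24.mul_mem (Cfsg.M24.mul_mem hg hu.1) (Cfsg.M24.inv_mem hg),
        Cfsg.Agent.M24.conj_apply (Cfsg.Agent.M24.fixAll_point hu (i := 0) (by norm_num) (by decide +kernel)),
        Cfsg.Agent.M24.conj_apply (Cfsg.Agent.M24.fixAll_point hu (i := 5) (by norm_num) (by decide +kernel)),
        Cfsg.Agent.M24.conj_smul (hu.2 Cfsg.Agent.M24.oct0 (by decide +kernel)), Cfsg.Agent.M24.conj_smul e⟩

end Cfsg.Agent.S1605
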