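import Cfsg.Statements.S1639
import Cfsg.Agent.M24.Trans

set_option autoImplicit false
open scoped Pointwise
open Cfsg

namespace Cfsg.Agent.S1639

/-- layer data -/
def cs4L0P0 : List (List ℕ) := [[0, 1]]

/-- layer data -/
def cs4L1P0 : List (List ℕ) := [[0, 1], [0, 1]]

/-- layer data -/
def cs4L2P0 : List (List ℕ) := [[0], [0, 1], [0, 1], [0, 1]]

/-- layer data -/
def cs4L3P0 : List (List ℕ) := [[0, 1], [0, 1], [0, 1], [0, 1], [0, 1], [0, 1], [0, 1]]

/-- layer data -/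
def cs4L4P0 : List (List ℕ) := [[0, 1], [0, 1], [0, 1], [1], [0, 1], [1], [0, 1], [0, 1], [0, 1], [0, 1], [0, 1], [1], [0], [0, 1]]

/-- layer data -/
def cs4L5P0 : List (List ℕ) := [[0, 1], [0, 1], [0, 1], [], [0, 1], [0, 1], [1], [1], [0, 1], [1], [0, 1], [0, 1], [0, 1], [0, 1], [1], [0, 1], [1], [0, 1], [1], [0, 1], [], [1], [1], [0]]

/-- layer data -/
def cs4L6P0 : List (List ℕ) := [[1], [0], [0, 1], [0, 1], [0, 1], [0], [0, 1], [0, 1], [0, 1], [0, 1], [1], [0], [0], [0, 1], [], [], [0, 1], [1], [], [0], [], [], [1], [0, 1], [1], [0, 1], [], [1], [], [0], [0], [1], [1], [1], [0, 1]]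

/-- layer data -/
def cs4L7P0 : List (List ℕ) := [[1], [0], [1], [0, 1], [0], [0, 1], [0, 1], [0], [0, 1], [], [], [0], [0], [1], [0], [], [0], [1], [], [], [0, 1], [], [], [], [0], [], [1], [], [0, 1], [], [0], [1], [1], [0], [], [], [0], [0], [], []]

/-- layer data -/
def cs4L8P0 : List (List ℕ) := [[1], [1], [0], [], [], [1], [], [], [], [], [], [1], [], [], [], [], [], [], [], [], [0], [], [], [], [], [], [], [0], [], [], []]

/-- An orbit certificate. -/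
def cs4 : Cfsg.Agent.M24.Cert where
  fx := [340831, 1]
  gens := [807693296141920342054128322739259488, 233965617530960693340585979012129152]
  x0 := 15974505
  sp := [cs4L0P0, cs4L1P0, cs4L2P0, cs4L3P0, cs4L4P0, cs4L5P0, cs4L6P0, cs4L7P0, cs4L8P0]

/-- layer data -/
def cs6L0P0 : List (List ℕ) := [[0, 1, 2]]

/-- layer data -/
def cs6L1P0 : List (List ℕ) := [[0, 1, 2], [0, 1, 2], [0, 1, 2]]

/-- layer data -/
def cs6L2P0 : List (List ℕ) := [[0, 1, 2], [0, 1, 2], [0, 1, 2], [0, 2], [0, 2], [0, 1, 2], [0, 1, 2], [0, 1, 2], [1]]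

/-- layer data -/
def cs6L3P0 : List (List ℕ) := [[0, 1, 2], [0, 1, 2], [0, 1, 2], [0, 2], [2], [0, 1, 2], [0, 1, 2], [0, 1, 2], [0, 1], [2], [0, 1, 2], [0, 2], [0, 1, 2], [0, 1, 2], [0, 1, 2], [0, 1], [1, 2], [0, 1], [0, 1, 2], [0, 2], [0, 2], [0, 1, 2], [0, 1, 2]]

/-- layer data -/
def cs6L4P0 : List (List ℕ) := [[0, 1, 2], [0, 1, 2], [0, 1, 2], [2], [2], [0, 1, 2], [0, 1, 2], [0, 1, 2], [0, 1], [2], [0, 2], [0, 1, 2], [0, 1, 2], [0, 1, 2], [1], [1, 2], [0, 1, 2], [0, 1, 2], [2], [2], [1, 2], [0, 1, 2], [0, 1, 2], [0, 1, 2], [0, 1, 2], [0, 1, 2], [0, 1], [2], [0, 1, 2], [0, 1, 2], [0, 1, 2], [0, 1], [1, 2], [0, 1, 2], [0, 1, 2], [0, 2], [0, 2], [1, 2], [0, 1, 2], [0, 1, 2], [0, 1, 2], [1, 2], [2], [2], [0, 1], [0, 1, 2], [0], [2], [0, 1, 2], [0, 2], [0, 1], [0], [0, 2], [0, 1], [2], [0, 2], [0, 1, 2]]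

/-- layer data -/
def cs6L5P0 : List (List ℕ) := [[2], [2], [0, 1, 2], [2], [], [0, 1, 2], [0, 1, 2], [0, 1, 2], [0], [0, 1, 2], [0, 1], [0, 1, 2], [0, 1, 2], [0, 1], [1, 2], [1, 2], [2], [0, 2], [0, 2], [2], [0, 1, 2], [0, 1, 2], [0, 1, 2], [1, 2], [0, 1], [0, 1], [1, 2], [0, 1], [2], [0, 2], [0, 1, 2], [2], [2], [0, 2], [2], [0, 1, 2], [0, 1, 2], [], [2], [0, 1, 2], [0], [0, 1, 2], [0, 1], [0, 1, 2], [0, 1, 2], [0, 2], [0, 1], [1, 2], [1, 2], [0, 1, 2], [0], [0, 2], [], [2], [0], [0, 1], [1, 2], [0, 1, 2], [0, 1, 2], [0, 2], [0, 2], [1, 2], [2], [], [0, 1], [0, 2], [1, 2], [0], [0], [2], [0, 1], [0], [2], [0, 1, 2], [1, 2], [0], [0, 2], [0, 2], [0], [2], [0, 1], [0], [0, 1, 2], [0, 1], [2], [0, 1, 2], [0], [0, 2], [2], [1], [1], [1, 2], [0, 1, 2], [0], [0], [0, 1, 2], [], [], [2], [0, 1, 2], [0], [], [0], [0, 1, 2], [0, 1, 2], [0, 2], [0, 2], [0, 1], [0, 2], [0, 1], [0, 2], [0, 1, 2], [0], [2], [0, 2], [], [],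 [1], [0, 2], [0, 1, 2], [1, 2], [0, 1], [0], [2], [0, 2], [0, 1], [0], [1]]

/-- layer data -/
def cs6L6P0 : List (List ℕ) := [[0], [0, 1], [1], [1, 2], [0, 1], [0, 1], [0], [1, 2], [], [], [1, 2], [], [0, 2], [0], [0, 1, 2], [], [], [0, 2], [0, 1], [], [0, 1], [2], [2], [2], [2], [2], [1, 2], [], [2], [2], [0, 1], [2], [1], [0, 1], [2], [2], [2], [2], [0, 1], [], [1, 2], [1, 2], [0], [0], [], [1], [], [0, 1], [2], [0, 1, 2], [0, 2], [], [1], [1], [0], [0, 1], [], [2], [0, 1, 2], [], [], [0], [1, 2], [0], [1, 2], [0], [], [0], [0, 1, 2], [2], [2], [1, 2], [0, 1, 2], [0, 1], [], [0, 2], [0, 1], [0, 2], [], [0, 1, 2], [2], [], [2], [0, 1, 2], [0, 2], [1, 2], [], [0, 1], [0, 1], [2], [0], [2], [1, 2], [0, 1], [0, 1, 2], [2], [], [2], [0, 1, 2], [0, 1], [1], [0], [], [2], [0, 1, 2], [], [], [], [], [2], [], [], [], [0], [], [2], [], [], [0, 2], [], [0, 2], [], [], [], [0], [2], [2], [0, 2]]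

/-- layer data -/
def cs6L6P1 : List (List ℕ) := [[], [0, 2], [], [], [1], [0], [0], [], [0, 2], [0, 1, 2], [0, 2], [], [], [1, 2], [2], [], [2], [], [0], [], [0], [0, 1], [0], [0], [2], [], [0, 1], [0], [1], [1], [0, 1], [0, 1], [1], [2], [0], [0], [1, 2], [2], [], [2], [], [0], [0, 1], [], [], [], [1], [2], [], [0, 1], [2], [], [0, 1], [2], [0, 1], [0, 2], [0, 1], [], [], [2], [0], [2], [0], [2], [], [], [2], [], [1], [0, 2], [], [2], [], [], [0], [2], [0, 2], [1], [], [0], [], [2], [], [], [2], [1], [2], [0], [0], [], [], [0, 1], [2], [0], [2], [1], [0, 2], [1]]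

/-- layer data -/
def cs6L7P0 : List (List ℕ) := [[], [], [], [2], [], [0, 1], [2], [], [], [], [], [], [2], [], [0], [], [], [2], [], [2], [], [2], [1], [], [2], [2], [], [], [0], [], [0, 1], [1], [], [], [0, 1], [], [1, 2], [1], [1, 2], [0, 2], [], [0], [0, 2], [1], [0, 1, 2], [1], [], [2], [], [1], [1], [0], [], [2], [2], [2], [2], [1], [], [], [1], [], [1], [2], [2], [], [2], [], [0, 1], [0], [], [0], [], [], [2], [0], [], [], [], [], [], [], [0], [], [0], [], [], [], [2], [], [0, 2], [0], [], [0], [], [], [], [], [], [], [2], [0], [1], [], [], [], [2], [2], [], [], [], [1], [], [2], [0, 2], [], [], [2], [], [], [], [], [0], [2], [0, 2], [0, 2], [1], [2]]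

/-- layer data -/
def cs6L7P1 : List (List ℕ) := [[], [], [], [], [1], [2], [1], [], [], [0], [1], [], [], [], [], [0, 1], [], [1, 2], [], [], [0], [], [1], [], [2], [], [], [], [], [], [], [], [], [2], [], [], [], [], [], [], [], [], [2], [0], [1, 2], [], [], [0], [1, 2], [], [], [], [], [], [], [], [], [], [], [], [1], [], [], [], [], [], [], [], [], [], [], [], [], [2], [], [], [2], [], [], [], [], [], [], [], [], [], [], [], [], [], [], [], [], [], [], [], [], [], [1], [], [0], [], [], [2], [], [], [], [], []]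

/-- layer data -/
def cs6L8P0 : List (List ℕ) := [[], [], [], [], [], [], [], [], [], [], [], [], [], [], [], [], [2], [], [], [], [], [], [], [], [], [], [], [0], [], [], [], [1], [], [], [], [], [], [], [], [], [], [], [], [], [], [], [], [], [], [], [], [], [], [], [], [], [], [], [], [2], [], [], [], [], [], [], [], [], [], [], [], [], [], [], [], [], [], [], [], [], [], [], [], [], [], [], [], [], [], [], [], [], [], [], [], [], [], [], [], [], [], [], [], []]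

/-- An orbit certificate. -/
def cs6 : Cfsg.Agent.M24.Cert where
  fx := [340831, 1]
  gens := [430462100341731878499088338262566016, 633121045508979692864658499695952064, 444255066258492725059224347437270304]
  x0 := 8245261
  sp := [cs6L0P0, cs6L1P0, cs6L2P0, cs6L3P0, cs6L4P0, cs6L5P0, cs6L6P0 ++ cs6L6P1, cs6L7P0 ++ cs6L7P1, cs6L8P0]

/-- layer data -/
def cs8L0P0 : List (List ℕ) := [[0]]

/-- layer data -/
def cs8L1P0 : List (List ℕ) := [[0, 1]]

/-- layer data -/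
def cs8L2P0 : List (List ℕ) := [[0, 1], [0, 1]]

/-- layer data -/
def cs8L3P0 : List (List ℕ) := [[0, 1], [0, 1], [0, 1], [0, 1]]

/-- layer data -/
def cs8L4P0 : List (List ℕ) := [[0, 1], [0], [0, 1], [0, 1], [0, 1], [0, 1], [0, 1], [0, 1]]

/-- layer data -/
def cs8L5P0 : List (List ℕ) := [[0, 1], [1], [0, 1], [0, 1], [0, 1], [0, 1], [0], [0, 1], [1], [0, 1], [0, 1], [0, 1], [1], [0, 1], [0, 1]]

/-- layer data -/
def cs8L6P0 : List (List ℕ) := [[0, 1], [0], [0, 1], [0, 1], [0, 1], [0, 1], [], [0, 1], [0, 1], [0, 1], [0, 1], [0, 1], [0, 1], [0, 1], [0, 1], [0, 1], [0, 1], [0, 1], [0, 1], [1], [1], [0, 1], [0], [0, 1], [0, 1], [0, 1]]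

/-- layer data -/
def cs8L7P0 : List (List ℕ) := [[1], [1], [0, 1], [0, 1], [0, 1], [0, 1], [1], [0, 1], [0, 1], [1], [], [0, 1], [0], [1], [0, 1], [0, 1], [0], [1], [0, 1], [0], [1], [], [], [0, 1], [0, 1], [0, 1], [1], [0, 1], [1], [0, 1], [0, 1], [0, 1], [0, 1], [1], [0, 1], [0, 1], [0, 1], [0, 1], [0, 1], [0, 1], [0, 1], [0, 1], [1], [0, 1], [1], [0]]

/-- layer data -/
def cs8L8P0 : List (List ℕ) := [[0, 1], [], [0], [1], [0, 1], [0], [], [], [1], [], [0, 1], [0, 1], [1], [0, 1], [], [1], [0], [0, 1], [], [0, 1], [0, 1], [0, 1], [], [0, 1], [1], [0, 1], [0, 1], [0, 1], [1], [0, 1], [1], [0], [1], [], [1], [], [1], [0], [1], [0, 1], [0, 1], [], [0, 1], [0], [0, 1], [], [0], [0, 1], [0], [0, 1], [0, 1], [0], [1], [1], [0, 1], [0, 1], [0], [0, 1], [], [1], [0], [0, 1], [1], [], [], [0], [], [0, 1], [0, 1], [0, 1]]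

/-- layer data -/
def cs8L9P0 : List (List ℕ) := [[0, 1], [], [], [1], [], [0], [1], [], [], [1], [0], [], [], [0], [0, 1], [0, 1], [0, 1], [], [0, 1], [0], [], [0], [1], [], [0, 1], [], [0, 1], [1], [], [1], [0, 1], [0, 1], [0, 1], [0], [0], [0, 1], [1], [], [0], [], [], [0], [1], [], [], [1], [0, 1], [], [], [], [0], [], [], [], [], [0, 1], [], [], [], [], [], [], [0], [0], [], [0], [], [1], [1], [], [], [], [], [], [], [], [], [], [], [], [1], [1], []]

/-- layer data -/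
def cs8L10P0 : List (List ℕ) := [[], [], [], [1], [], [], [], [1], [0], [0, 1], [], [], [0, 1], [], [1], [], [], [0], [], [], [], [], [], [], [0], [], [0], [], [0], [], [], [], [1], [], [], [1], [], [0], [], [0], [], [], [1], [], [1], [0], [], [], [], [0], [], []]

/-- layer data -/
def cs8L11P0 : List (List ℕ) := [[], [], [], [], [], [], [], [], [], [0], [], [], [], [0], [], [], [], [], [], []]

/-- An orbit certificate. -/
def cs8 : Cfsg.Agent.M24.Cert where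
  fx := [340831, 1]
  gens := [596518939254747320199154813170303040, 648641021518065722691854023741620256]
  x0 := 11472927
  sp := [cs8L0P0, cs8L1P0, cs8L2P0, cs8L3P0, cs8L4P0, cs8L5P0, cs8L6P0, cs8L7P0, cs8L8P0, cs8L9P0, cs8L10P0, cs8L11P0]

/-- An orbit certificate. -/
def cs12 : Cfsg.Agent.M24.Cert where
  fx := [340831, 1]
  gens := [236957771687269146347065145612050720]
  x0 := 340831
  sp := []

/-- Certificates by key. -/
def cs : List (ℕ × Cfsg.Agent.M24.Cert) := [(4, cs4), (6, cs6), (8, cs8), (12, cs12)]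

theorem cs_ok : Cfsg.Agent.M24.keyCheck [Cfsg.Agent.M24.dod0, 1] (Cfsg.Agent.M24.dodL.filter fun m => m.testBit 0)
    (fun m => Cfsg.Agent.M24.pc (Cfsg.Agent.M24.dod0 &&& m)) cs = true := by
  decide +kernel

/-- The point stabiliser acts on the 1288 dodecads through the point with rank 4 and subdegrees 1, 165, 330, 792, distinguished by intersection 4, 8, 6 with the fixed dodecad. -/
theorem result (x : Cfsg.GolayPt) (d : Finset Cfsg.GolayPt) (hd : d ∈ Cfsg.dodecads) (hx : x ∈ d) : {d' : Finset Cfsg.GolayPt | d' ∈ Cfsg.dodecads ∧ x ∈ d' ∧ (d ∩ d').card = 4}.ncard = 165 ∧ {d' : Finset Cfsg.GolayPt | d' ∈ Cfsg.dodecads ∧ x ∈ d' ∧ (d ∩ d').card = 8}.ncard = 330 ∧ {d' : Finset Cfsg.GolayPt | d' ∈ Cfsg.dodecads ∧ x ∈ d' ∧ (d ∩ d').card = 6}.ncard = 792 ∧ ∀ d' d'' : Finset Cfsg.GolayPt, d' ∈ Cfsg.dodecads → d'' ∈ Cfsg.dodecads → x ∈ d' → x ∈ d'' → (d ∩ d').card = (d ∩ d'').card → ∃ g : Equiv.Perm Cfsg.GolayPt, g ∈ Cfsg.M24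 ∧ g x = x ∧ g • d = d ∧ g • d' = d'' := by
  obtain ⟨g, hg, rfl, rfl⟩ := Cfsg.Agent.M24.exists_map_dodecad_pt_mem hd hx
  refine ⟨?_, ?_, ?_, ?_⟩
  · exact Cfsg.Agent.M24.ncard_dodecads_smul hg _ (fun m => m.testBit 0 && Cfsg.Agent.M24.pc (Cfsg.Agent.M24.dod0 &&& m) == 4) 165
      (fun m _ => by simp [Cfsg.Agent.M24.card_smul_inter, Cfsg.Agent.M24.mem_smul_toSet g (show 0 < 24 by norm_num)]) (by decide +kernel)
  · exact Cfsg.Agent.M24.ncard_dodecads_smul hg _ (fun m => m.testBit 0 && Cfsg.Agent.M24.pc (Cfsg.Agent.M24.dod0 &&& m) == 8) 330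
      (fun m _ => by simp [Cfsg.Agent.M24.card_smul_inter, Cfsg.Agent.M24.mem_smul_toSet g (show 0 < 24 by norm_num)]) (by decide +kernel)
  · exact Cfsg.Agent.M24.ncard_dodecads_smul hg _ (fun m => m.testBit 0 && Cfsg.Agent.M24.pc (Cfsg.Agent.M24.dod0 &&& m) == 6) 792
      (fun m _ => by simp [Cfsg.Agent.M24.card_smul_inter, Cfsg.Agent.M24.mem_smul_toSet g (show 0 < 24 by norm_num)]) (by decide +kernel)
  · intro p q hp hq hxp hxq h
    obtain ⟨m, hm, rfl⟩ := Cfsg.Agent.M24.exists_dodecad hg hp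
    obtain ⟨n, hn, rfl⟩ := Cfsg.Agent.M24.exists_dodecad hg hq
    rw [Cfsg.Agent.M24.card_smul_inter, Cfsg.Agent.M24.card_smul_inter] at h
    rw [Cfsg.Agent.M24.mem_smul_toSet g (show 0 < 24 by norm_num)] at hxp hxq
    obtain ⟨u, hu, e⟩ := Cfsg.Agent.M24.map_of_keyCheck cs_ok
      (a := m) (b := n) (List.mem_filter.2 ⟨hm, by simpa using hxp⟩)
      (List.mem_filter.2 ⟨hn, by simpa using hxq⟩) h
    exact ⟨g * u * g⁻¹, Cfsg.M24.mul_mem (Cfsg.M24.mul_mem hg hu.1) (Cfsg.M24.inv_mem hg),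
      Cfsg.Agent.M24.conj_apply (Cfsg.Agent.M24.fixAll_point hu (by norm_num) (by decide +kernel)),
      Cfsg.Agent.M24.conj_smul (hu.2 Cfsg.Agent.M24.dod0 (by decide +kernel)), Cfsg.Agent.M24.conj_smul e⟩

end Cfsg.Agent.S1639
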