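import Cfsg.Statements.S1921
import Mathlib.Algebra.BigOperators.Group.Finset.Basic
import Mathlib.GroupTheory.GroupAction.Quotient
import Cfsg.Agent.Layer.Basic

set_option autoImplicit false
open Cfsg
open scoped commutatorElement Pointwise

namespace Cfsg.Agent.S1921

/-- Let a be an involution of a finite group H and L a component of H with a L a⁻¹ ≠ L; put M = ⟨L, aLa⁻¹⟩ and let J be the subgroup generated by the elements x · a x a⁻¹ with x ∈ L (the diagonal). Then every element of M outside J·Z(M) generates M together with J. -/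
theorem result {H : Type*} [Group H] [Finite H] (a : H) (ha : orderOf a = 2) (L : Subgroup H) (hL : Cfsg.IsComponent L)
    (hLa : L.map (MulAut.conj a).toMonoidHom ≠ L) (x : H) (hxM : x ∈ L ⊔ L.map (MulAut.conj a).toMonoidHom)
    (hxJ : x ∉ Subgroup.closure {y : H | ∃ l ∈ L, y = l * (a * l * a⁻¹)} ⊔
      ((L ⊔ L.map (MulAut.conj a).toMonoidHom) ⊓ Subgroup.centralizer ((L ⊔ L.map (MulAut.conj a).toMonoidHom : Subgroup H) : Set H))) :
    Subgroup.closure {y : H | ∃ l ∈ L, y = l * (a * l * a⁻¹)} ⊔ Subgroup.zpowers x = L ⊔ L.map (MulAut.conj a).toMonoidHom := by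
  set a' := a
  have haa : a * a = 1 := by rw [← sq, ← ha, pow_orderOf_eq_one]
  have hainv : a⁻¹ = a := inv_eq_of_mul_eq_one_right haa
  set L' := L.map (MulAut.conj a).toMonoidHom with hL'
  set J := Subgroup.closure {y : H | ∃ l ∈ L, y = l * (a * l * a⁻¹)} with hJ
  set M := L ⊔ L' with hM
  have hL'c : Cfsg.IsComponent L' := Layer.isComponent_map_equiv (MulAut.conj a) hL
  have hcomm : ∀ u ∈ L, ∀ v ∈ L', u * v = v * u := by
    have h := Layer.components_commute hL hL'c fun h => hLa h.symm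
    intro u hu v hv
    have := Subgroup.commutator_mem_commutator hu hv
    rw [h, Subgroup.mem_bot] at this
    exact commutatorElement_eq_one_iff_mul_comm.mp this
  have hsplit : ∀ y ∈ M, ∃ l ∈ L, ∃ m ∈ L, y = l * (a * m * a⁻¹) := by
    intro y hy
    have hn : L' ≤ Subgroup.normalizer (L : Set H) := fun v hv => Subgroup.centralizer_le_normalizer _
      (Subgroup.mem_centralizer_iff.mpr fun u hu => hcomm u hu v hv)
    rw [← SetLike.mem_coe, hM, Subgroup.coe_mul_of_right_le_normalizer_left L L' hn] at hy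
    obtain ⟨l, hl, _, ⟨m, hm, rfl⟩, rfl⟩ := hy
    exact ⟨l, hl, m, hm, rfl⟩
  have hJM : J ≤ M := (Subgroup.closure_le M).mpr (by
    rintro _ ⟨l, hl, rfl⟩
    exact M.mul_mem (Subgroup.mem_sup_left hl) (Subgroup.mem_sup_right ⟨l, hl, rfl⟩))
  set K := J ⊔ Subgroup.zpowers x with hK
  refine le_antisymm (sup_le hJM (Subgroup.zpowers_le.mpr hxM)) ?_
  obtain ⟨l, hl, m, hm, hxe⟩ := hsplit x hxM
  have hjm : m * (a * m * a⁻¹) ∈ J := Subgroup.subset_closure ⟨m, hm, rfl⟩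
  set k := l * m⁻¹ with hk
  have hkL : k ∈ L := L.mul_mem hl (L.inv_mem hm)
  have hxk : x = k * (m * (a * m * a⁻¹)) := by rw [hxe, hk]; group
  have hkK : k ∈ K := by
    rw [show k = x * (m * (a * m * a⁻¹))⁻¹ by rw [hxk]; group]
    exact K.mul_mem (Subgroup.mem_sup_right (Subgroup.mem_zpowers x)) (K.inv_mem (Subgroup.mem_sup_left hjm))
  have hknc : ¬ ∀ u ∈ L, u * k = k * u := by
    intro hc
    apply hxJ
    rw [hxk]
    refine Subgroup.mul_mem _ (Subgroup.mem_sup_right ⟨Subgroup.mem_sup_left hkL, Subgroup.mem_centralizer_iff.mpr fun y hy => ?_⟩) (Subgroup.mem_sup_left hjm)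
    obtain ⟨l₁, hl₁, m₁, hm₁, rfl⟩ := hsplit y hy
    rw [mul_assoc, ← hcomm k hkL (a * m₁ * a⁻¹) ⟨m₁, hm₁, rfl⟩, ← mul_assoc, hc l₁ hl₁, mul_assoc]
  have hnorm : ((K ⊓ L).subgroupOf L).Normal := by
    refine ⟨fun z hz u => ?_⟩
    have hzK : (z : H) ∈ K ∧ (z : H) ∈ L := hz
    refine ⟨?_, (u * z * u⁻¹).2⟩
    have hju : (u : H) * (a * u * a⁻¹) ∈ K := Subgroup.mem_sup_left (Subgroup.subset_closure ⟨u, u.2, rfl⟩)
    have e : (u : H) * (a * u * a⁻¹) * z * ((u : H) * (a * u * a⁻¹))⁻¹ = (u : H) * z * (u : H)⁻¹ := by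
      rw [mul_assoc (u : H) (a * u * a⁻¹) z, ← hcomm z hzK.2 (a * u * a⁻¹) ⟨u, u.2, rfl⟩]
      group
    show (u : H) * z * (u : H)⁻¹ ∈ K
    rw [← e]
    exact K.mul_mem (K.mul_mem hju hzK.1) (K.inv_mem hju)
  have hLK : L ≤ K := by
    rcases Layer.eq_top_or_le_center hL.2 hnorm with h | h
    · exact (Subgroup.subgroupOf_eq_top.mp h).trans inf_le_left
    · exact absurd (fun u hu => congrArg Subtype.val
        (Subgroup.mem_center_iff.mp (h (show (⟨k, hkL⟩ : ↥L) ∈ (K ⊓ L).subgroupOf L from ⟨hkK, hkL⟩)) ⟨u, hu⟩)) hknc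
  refine sup_le hLK ?_
  rintro _ ⟨u, hu, rfl⟩
  show a * u * a⁻¹ ∈ K
  rw [show a * u * a⁻¹ = u⁻¹ * (u * (a * u * a⁻¹)) by group]
  exact K.mul_mem (K.inv_mem (hLK hu)) (Subgroup.mem_sup_left (Subgroup.subset_closure ⟨u, hu, rfl⟩))

end Cfsg.Agent.S1921
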