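import Cfsg.Statements.S1947
import Cfsg.Agent.S0071
import Cfsg.Agent.Coprime.OmegaTwo

set_option autoImplicit false
open Cfsg

namespace Cfsg.Agent.S1947

/-- Let G be a finite group and p a prime. If every element of G of order dividing p (dividing 4 when p = 2) lies in some fixed term Z_n(G) of the upper central series, then G has a normal p-complement. -/
theorem result {G : Type*} [Group G] [Finite G] {p : ℕ} [Fact p.Prime] (n : ℕ)
    (h : ∀ a : G, (a ^ p = 1 ∨ (p = 2 ∧ a ^ 4 = 1)) → a ∈ Subgroup.upperCentralSeries G n) : Cfsg.HasNormalPComplement p G := by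
  obtain ⟨P⟩ : Nonempty (Sylow p G) := inferInstance
  suffices hs : ∃ N : Subgroup G, N.Normal ∧ N.IsComplement' (P : Subgroup G) by
    obtain ⟨N, hN, hc⟩ := hs
    exact ⟨P, N, hN, hc⟩
  refine (S0071.result P).mpr fun Q hQ g hg hgo => ?_
  have hQp : IsPGroup p ↥Q := P.isPGroup'.to_le hQ
  have hfix : ∀ (m : ℕ) (y : G), y ∈ Q → y ∈ Subgroup.upperCentralSeries G m → g * y = y * g := by
    intro m
    induction m with
    | zero =>
      intro y _ hy
      rw [Subgroup.upperCentralSeries_zero, Subgroup.mem_bot] at hy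
      rw [hy, mul_one, one_mul]
    | succ m ih =>
      intro y hy hm
      have hw : y⁻¹ * (g * y * g⁻¹) ∈ Q := Q.mul_mem (Q.inv_mem hy) ((Subgroup.mem_normalizer_iff.mp hg y).mp hy)
      have hwm : y⁻¹ * (g * y * g⁻¹) ∈ Subgroup.upperCentralSeries G m := by
        have h1 := Subgroup.mem_upperCentralSeries_succ_iff.mp (Subgroup.inv_mem _ hm) g
        simpa [commutatorElement_def, mul_assoc] using h1
      have h1 := CoprimeAct.eq_one_of_commutes_commutator hQp hgo hw (ih _ hw hwm)
      calc g * y = y * (y⁻¹ * (g * y * g⁻¹)) * g := by group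
        _ = y * g := by rw [h1, mul_one]
  rw [Subgroup.mem_centralizer_iff]
  intro y hy
  by_cases hp2 : p = 2
  · subst hp2
    exact Subgroup.mem_centralizer_singleton_iff.mp (CoprimeAct.le_centralizer_of_omega_two hQp hg hgo
      (fun z hz hz4 => hfix n z hz (h z (Or.inr ⟨rfl, hz4⟩))) hy)
  · exact Subgroup.mem_centralizer_singleton_iff.mp (CoprimeAct.le_centralizer_of_omega hp2 hQp hg hgo
      (fun z hz hzp => hfix n z hz (h z (Or.inl hzp))) hy)

end Cfsg.Agent.S1947
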