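import Cfsg.Statements.S2061
import Cfsg.Agent.M24.OutM12
import Cfsg.Agent.M24.SporEq

set_option autoImplicit false
open Cfsg

namespace Cfsg.Agent.S2061
open scoped Pointwise

/-- The outer automorphism group of the Mathieu group M₁₂ (the stabiliser of a dodecad in the automorphism group of the length-24 binary code) has order 2. -/
theorem result : Nat.card (Cfsg.Out ↥Cfsg.Spor.M12) = 2 := by
  rw [Cfsg.Agent.M24.spor_M12_eq]
  show Nat.card (Cfsg.Out ↥(Cfsg.Agent.M24.fixAll Cfsg.Agent.M24.OutM12.dat.fx)) = 2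
  refine le_antisymm Cfsg.Agent.M24.OutM12.card_out_le' ?_
  have hs : Cfsg.Agent.M24.autB 5528487427817607917436210307912887 = true := by decide +kernel
  have hb : Cfsg.Agent.M24.autB (Cfsg.Agent.M24.OutM12.dat.bp.getD 1 0) = true ∧ Cfsg.Agent.M24.autB (Cfsg.Agent.M24.OutM12.dat.bp.getD 2 0) = true := by decide +kernel
  have hbfix : ∀ m ∈ Cfsg.Agent.M24.OutM12.dat.fx, Cfsg.Agent.M24.pimg (Cfsg.Agent.M24.OutM12.dat.bp.getD 1 0) m = m := by decide +kernel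
  have hrel : Cfsg.Agent.M24.commB 5528487427817607917436210307912887 (Cfsg.Agent.M24.OutM12.dat.bp.getD 1 0) (Cfsg.Agent.M24.OutM12.dat.bp.getD 2 0) 5528487427817607917436210307912887 = true := by decide +kernel
  have htw : Cfsg.Agent.M24.twOk Cfsg.Agent.M24.OutM12.dat.fx (Cfsg.Agent.M24.OutM12.dat.bp.getD 1 0) (Cfsg.Agent.M24.OutM12.dat.bp.getD 2 0) Cfsg.Agent.M24.OutM12.dat.R Cfsg.Agent.M24.OutM12.dat.W Cfsg.Agent.M24.OutM12.dat.ST [] = true := by decide +kernel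
  refine Cfsg.Agent.M24.two_le_card_out (σ := Cfsg.Agent.M24.toPerm 5528487427817607917436210307912887) (fun g hg => ?_)
    (a := Cfsg.Agent.M24.toPerm (Cfsg.Agent.M24.OutM12.dat.bp.getD 1 0)) (a2 := Cfsg.Agent.M24.toPerm (Cfsg.Agent.M24.OutM12.dat.bp.getD 2 0))
    ⟨Cfsg.Agent.M24.toPerm_mem hb.1, fun m hm => by
      rw [← Cfsg.Agent.M24.toSet_pimg (Cfsg.Agent.M24.autB_ok hb.1), hbfix m hm]⟩
    (Cfsg.Agent.M24.commB_mul (Cfsg.Agent.M24.autB_ok hs) (Cfsg.Agent.M24.autB_ok hb.1) (Cfsg.Agent.M24.autB_ok hb.2) (Cfsg.Agent.M24.autB_ok hs) hrel) ?_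
  · refine ⟨Cfsg.M24.mul_mem (Cfsg.M24.mul_mem (Cfsg.Agent.M24.toPerm_mem hs) hg.1)
      (Cfsg.M24.inv_mem (Cfsg.Agent.M24.toPerm_mem hs)), ?_⟩
    intro m hm
    obtain rfl : m = Cfsg.Agent.M24.dod0 := List.mem_singleton.1 hm
    have e : Cfsg.Agent.M24.pimg 5528487427817607917436210307912887 (Cfsg.Agent.M24.dod0 ^^^ 16777215) = Cfsg.Agent.M24.dod0 := by decide +kernel
    have hn : g • Cfsg.Agent.M24.toSet (Cfsg.Agent.M24.dod0 ^^^ 16777215) = Cfsg.Agent.M24.toSet (Cfsg.Agent.M24.dod0 ^^^ 16777215) :=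
      Cfsg.Agent.M24.smul_toSet_of_testBit fun x => by
        rw [Nat.testBit_xor, Nat.testBit_xor, Cfsg.Agent.M24.testBit_of_fix hg hm,
          Cfsg.Agent.M24.testBit_full _ (Cfsg.Agent.M24.ix_lt _), Cfsg.Agent.M24.testBit_full _ (Cfsg.Agent.M24.ix_lt _)]
    rw [← e, Cfsg.Agent.M24.toSet_pimg (Cfsg.Agent.M24.autB_ok hs), mul_smul, mul_smul, inv_smul_smul, hn]
  · intro g hg h
    obtain ⟨u, hu, -⟩ := Cfsg.Agent.M24.tw_complete htw hg h
    simp at hu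


end Cfsg.Agent.S2061
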