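import Cfsg.Statements.S2062
import Cfsg.Agent.M24.OutM22
import Cfsg.Agent.M24.SporEq

set_option autoImplicit false
open Cfsg

namespace Cfsg.Agent.S2062
open scoped Pointwise

/-- The outer automorphism group of the Mathieu group M₂₂ (the permutations in the automorphism group of the length-24 binary code that fix each of two given points) has order 2. -/
theorem result : Nat.card (Cfsg.Out ↥Cfsg.Spor.M22) = 2 := by
  obtain ⟨c, hc⟩ := Cfsg.Agent.M24.exists_conj_M22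
  rw [Cfsg.Agent.M24.card_out_map _ Cfsg.Spor.M22.subtype Subtype.val_injective c (fun v => by
    rw [Subgroup.range_subtype]; exact hc v)]
  show Nat.card (Cfsg.Out ↥(Cfsg.Agent.M24.fixAll Cfsg.Agent.M24.OutM22.dat.fx)) = 2
  refine le_antisymm Cfsg.Agent.M24.OutM22.card_out_le' ?_
  have hs : Cfsg.Agent.M24.autB 436487266066072618838210105357732865 = true := by decide +kernel
  have hb : Cfsg.Agent.M24.autB (Cfsg.Agent.M24.OutM22.dat.bp.getD 1 0) = true ∧ Cfsg.Agent.M24.autB (Cfsg.Agent.M24.OutM22.dat.bp.getD 2 0) = true := by decide +kernel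
  have hbfix : ∀ m ∈ Cfsg.Agent.M24.OutM22.dat.fx, Cfsg.Agent.M24.pimg (Cfsg.Agent.M24.OutM22.dat.bp.getD 1 0) m = m := by decide +kernel
  have hrel : Cfsg.Agent.M24.commB 436487266066072618838210105357732865 (Cfsg.Agent.M24.OutM22.dat.bp.getD 1 0) (Cfsg.Agent.M24.OutM22.dat.bp.getD 2 0) 436487266066072618838210105357732865 = true := by decide +kernel
  have htw : Cfsg.Agent.M24.twOk Cfsg.Agent.M24.OutM22.dat.fx (Cfsg.Agent.M24.OutM22.dat.bp.getD 1 0) (Cfsg.Agent.M24.OutM22.dat.bp.getD 2 0) Cfsg.Agent.M24.OutM22.dat.R Cfsg.Agent.M24.OutM22.dat.W Cfsg.Agent.M24.OutM22.dat.ST [] = true := by decide +kernel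
  refine Cfsg.Agent.M24.two_le_card_out (σ := Cfsg.Agent.M24.toPerm 436487266066072618838210105357732865) (fun g hg => ?_)
    (a := Cfsg.Agent.M24.toPerm (Cfsg.Agent.M24.OutM22.dat.bp.getD 1 0)) (a2 := Cfsg.Agent.M24.toPerm (Cfsg.Agent.M24.OutM22.dat.bp.getD 2 0))
    ⟨Cfsg.Agent.M24.toPerm_mem hb.1, fun m hm => by
      rw [← Cfsg.Agent.M24.toSet_pimg (Cfsg.Agent.M24.autB_ok hb.1), hbfix m hm]⟩
    (Cfsg.Agent.M24.commB_mul (Cfsg.Agent.M24.autB_ok hs) (Cfsg.Agent.M24.autB_ok hb.1) (Cfsg.Agent.M24.autB_ok hb.2) (Cfsg.Agent.M24.autB_ok hs) hrel) ?_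
  · refine ⟨Cfsg.M24.mul_mem (Cfsg.M24.mul_mem (Cfsg.Agent.M24.toPerm_mem hs) hg.1)
      (Cfsg.M24.inv_mem (Cfsg.Agent.M24.toPerm_mem hs)), ?_⟩
    intro m hm
    have hex : ∀ m ∈ Cfsg.Agent.M24.OutM22.dat.fx, ∃ n ∈ Cfsg.Agent.M24.OutM22.dat.fx, Cfsg.Agent.M24.pimg 436487266066072618838210105357732865 n = m := by decide +kernel
    obtain ⟨n, hn, hnm⟩ := hex m hm
    rw [← hnm, Cfsg.Agent.M24.toSet_pimg (Cfsg.Agent.M24.autB_ok hs), mul_smul, mul_smul, inv_smul_smul, hg.2 n hn]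
  · intro g hg h
    obtain ⟨u, hu, -⟩ := Cfsg.Agent.M24.tw_complete htw hg h
    simp at hu


end Cfsg.Agent.S2062
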