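import Cfsg.Statements.S2063
import Cfsg.Agent.M24.OutM23
import Cfsg.Agent.M24.SporEq

set_option autoImplicit false
open Cfsg

namespace Cfsg.Agent.S2063

/-- The outer automorphism group of the Mathieu group M₂₃ (the stabiliser of a point in the automorphism group of the length-24 binary code) is trivial: every automorphism is inner. -/
theorem result : Nat.card (Cfsg.Out ↥Cfsg.Spor.M23) = 1 := by
  obtain ⟨g, hg⟩ := Cfsg.Agent.M24.exists_conj_M23
  rw [Cfsg.Agent.M24.card_out_map _ Cfsg.Spor.M23.subtype Subtype.val_injective g (fun v => by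
    rw [Subgroup.range_subtype]; exact hg v)]
  exact Cfsg.Agent.M24.card_out_eq_one (D := Cfsg.Agent.M24.OutM23.dat) Cfsg.Agent.M24.OutM23.card_out_le' rfl


end Cfsg.Agent.S2063
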