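import Cfsg.Statements.S2530
import Mathlib

set_option autoImplicit false
open Cfsg

namespace Cfsg.Agent.S2530

/-- The product `r (n - d) * ⋯ * r (n - 1)`. -/
def cd {W : Type*} [Monoid W] (r : ℕ → W) (n : ℕ) : ℕ → W
  | 0 => 1
  | d + 1 => r (n - (d + 1)) * cd r n d

theorem cd_comm {W : Type*} [Group W] {N : ℕ} {r : ℕ → W} (hcm : ∀ i j, i < N → j < N → i + 1 < j → Commute (r i) (r j))
    {n : ℕ} (hn : n ≤ N) : ∀ d, d ≤ n → ∀ i, i + d + 1 < n → Commute (r i) (cd r n d) := by
  intro d
  induction d with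
  | zero => intro _ i _; exact Commute.one_right _
  | succ d ih =>
    intro hd i hi
    exact (hcm i (n - (d + 1)) (by omega) (by omega) (by omega)).mul_right (ih (by omega) i (by omega))

theorem cd_shift {W : Type*} [Group W] {N : ℕ} {r : ℕ → W} (hcm : ∀ i j, i < N → j < N → i + 1 < j → Commute (r i) (r j))
    (hbr : ∀ i, i + 1 < N → r (i + 1) * r i * r (i + 1) = r i * r (i + 1) * r i)
    {n : ℕ} (hn : n ≤ N) : ∀ d, d ≤ n → ∀ i, i < n → n < i + d → r i * cd r n d = cd r n d * r (i - 1) := by
  intro d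
  induction d with
  | zero => intro _ i h1 h2; omega
  | succ d ih =>
    intro hd i hi hlt
    show r i * (r (n - (d + 1)) * cd r n d) = r (n - (d + 1)) * cd r n d * r (i - 1)
    rcases Nat.lt_or_ge (n - (d + 1) + 1) i with h | h
    · rw [← mul_assoc, ((hcm (n - (d + 1)) i (by omega) (by omega) h).symm).eq, mul_assoc,
        ih (by omega) i hi (by omega), mul_assoc]
    · obtain ⟨e, rfl⟩ : ∃ e, d = e + 1 := ⟨d - 1, by omega⟩
      have hj : i = n - (e + 1) := by omega
      have hj' : n - (e + 1 + 1) = i - 1 := by omega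
      have hc := cd_comm hcm hn e (by omega) (i - 1) (by omega)
      have hb := hbr (i - 1) (by omega)
      rw [show i - 1 + 1 = i by omega] at hb
      rw [hj']
      show r i * (r (i - 1) * (r (n - (e + 1)) * cd r n e)) = r (i - 1) * (r (n - (e + 1)) * cd r n e) * r (i - 1)
      rw [← hj]
      calc r i * (r (i - 1) * (r i * cd r n e)) = (r i * r (i - 1) * r i) * cd r n e := by simp only [mul_assoc]
        _ = (r (i - 1) * r i) * (r (i - 1) * cd r n e) := by rw [hb]; simp only [mul_assoc]
        _ = (r (i - 1) * r i) * (cd r n e * r (i - 1)) := by rw [hc.eq]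
        _ = _ := by simp only [mul_assoc]

theorem cox_bound {W : Type*} [Group W] {N : ℕ} {r : ℕ → W} (hsq : ∀ i, i < N → r i * r i = 1)
    (hcm : ∀ i j, i < N → j < N → i + 1 < j → Commute (r i) (r j))
    (hbr : ∀ i, i + 1 < N → r (i + 1) * r i * r (i + 1) = r i * r (i + 1) * r i) :
    ∀ n, n ≤ N → ∃ T : Finset W, ((Subgroup.closure (r '' Set.Iio n) : Subgroup W) : Set W) ⊆ T ∧ T.card ≤ (n + 1).factorial := by
  classical
  intro n
  induction n with
  | zero =>
    intro _
    refine ⟨{1}, ?_, by simp⟩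
    simp [Subgroup.closure_empty]
  | succ n ih =>
    intro hn
    obtain ⟨T, hT, hTc⟩ := ih (by omega)
    set H := Subgroup.closure (r '' Set.Iio n) with hH
    have hrH : ∀ i, i < n → r i ∈ H := fun i hi => Subgroup.subset_closure ⟨i, hi, rfl⟩
    refine ⟨(Finset.range (n + 2) ×ˢ T).image (fun p => cd r (n + 1) p.1 * p.2), ?_, ?_⟩
    · have step : ∀ i, i < n + 1 → ∀ d h, d ≤ n + 1 → h ∈ H → ∃ d' h', d' ≤ n + 1 ∧ h' ∈ H ∧
          r i * (cd r (n + 1) d * h) = cd r (n + 1) d' * h' := by
        intro i hi d h hd hh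
        rcases Nat.lt_trichotomy (i + d + 1) (n + 1) with h1 | h1 | h1
        · refine ⟨d, r i * h, hd, H.mul_mem (hrH i (by omega)) hh, ?_⟩
          rw [← mul_assoc, (cd_comm hcm hn d hd i h1).eq, mul_assoc]
        · refine ⟨d + 1, h, by omega, hh, ?_⟩
          show _ = r (n + 1 - (d + 1)) * cd r (n + 1) d * h
          rw [show n + 1 - (d + 1) = i by omega, mul_assoc]
        · rcases Nat.lt_or_ge (n + 1) (i + d) with h2 | h2
          · refine ⟨d, r (i - 1) * h, hd, H.mul_mem (hrH _ (by omega)) hh, ?_⟩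
            rw [← mul_assoc, cd_shift hcm hbr hn d hd i hi h2, mul_assoc]
          · obtain ⟨e, rfl⟩ : ∃ e, d = e + 1 := ⟨d - 1, by omega⟩
            refine ⟨e, h, by omega, hh, ?_⟩
            show r i * (r (n + 1 - (e + 1)) * cd r (n + 1) e * h) = _
            rw [show n + 1 - (e + 1) = i by omega, ← mul_assoc, ← mul_assoc, hsq i (by omega), one_mul]
      intro x hx
      suffices hs : ∃ d h, d ≤ n + 1 ∧ h ∈ H ∧ x = cd r (n + 1) d * h by
        obtain ⟨d, h, hd, hh, rfl⟩ := hs
        simp only [Finset.coe_image, Set.mem_image, Finset.mem_coe, Finset.mem_product, Finset.mem_range]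
        exact ⟨(d, h), ⟨by omega, hT hh⟩, rfl⟩
      induction hx using Subgroup.closure_induction_left with
      | one => exact ⟨0, 1, by omega, H.one_mem, by simp [cd]⟩
      | mul_left z hz y hy ihy =>
        obtain ⟨i, hi, rfl⟩ := hz
        obtain ⟨d, h, hd, hh, rfl⟩ := ihy
        exact step i hi d h hd hh
      | inv_mul_cancel z hz y hy ihy =>
        obtain ⟨i, hi, rfl⟩ := hz
        obtain ⟨d, h, hd, hh, rfl⟩ := ihy
        rw [inv_eq_of_mul_eq_one_left (hsq i (lt_of_lt_of_le hi hn))]
        exact step i hi d h hd hh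
    · refine Finset.card_image_le.trans ?_
      rw [Finset.card_product, Finset.card_range, Nat.factorial_succ (n + 1)]
      exact Nat.mul_le_mul_left _ hTc

theorem swaps_liftable (n : ℕ) : (CoxeterMatrix.A n).IsLiftable fun i : Fin n => Equiv.swap i.castSucc i.succ := by
  intro i j
  have hM : (CoxeterMatrix.A n) i j = if i = j then 1 else (if (j : ℕ) + 1 = i ∨ (i : ℕ) + 1 = j then 3 else 2) := rfl
  rw [hM]
  by_cases hij : i = j
  · subst hij
    rw [if_pos rfl, pow_one, Equiv.swap_mul_self]
  rw [if_neg hij]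
  have three : ∀ a b c : Fin (n + 1), a ≠ b → a ≠ c → b ≠ c → (Equiv.swap a b * Equiv.swap b c) ^ 3 = 1 := by
    intro a b c hab hac hbc
    have h3 : Equiv.Perm.IsThreeCycle (Equiv.swap b a * Equiv.swap b c) :=
      Equiv.Perm.isThreeCycle_swap_mul_swap_same hab.symm hbc hac
    rw [Equiv.swap_comm a b, ← h3.orderOf, pow_orderOf_eq_one]
  split_ifs with h
  · rcases h with h | h
    · show (Equiv.swap i.castSucc i.succ * Equiv.swap j.castSucc j.succ) ^ 3 = 1
      have e : i.castSucc = j.succ := Fin.ext (by simp [← h])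
      have hinv : Equiv.swap i.castSucc i.succ * Equiv.swap j.castSucc j.succ =
          (Equiv.swap j.castSucc j.succ * Equiv.swap j.succ i.succ)⁻¹ := by
        rw [mul_inv_rev, Equiv.swap_inv, Equiv.swap_inv, e]
      rw [hinv, inv_pow, three _ _ _ (fun he => by simp [Fin.ext_iff] at he) (fun he => by simp [Fin.ext_iff] at he; omega)
        (fun he => by simp [Fin.ext_iff] at he; omega), inv_one]
    · have e : j.castSucc = i.succ := Fin.ext (by simp [← h])
      show (Equiv.swap i.castSucc i.succ * Equiv.swap j.castSucc j.succ) ^ 3 = 1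
      rw [e]
      exact three _ _ _ (fun he => by simp [Fin.ext_iff] at he) (fun he => by simp [Fin.ext_iff] at he; omega)
        (fun he => by simp [Fin.ext_iff] at he; omega)
  · have hd : Equiv.Perm.Disjoint (Equiv.swap i.castSucc i.succ) (Equiv.swap j.castSucc j.succ) := by
      intro x
      have hv : (i : ℕ) ≠ j := fun he => hij (Fin.ext he)
      by_cases hx : x = i.castSucc ∨ x = i.succ
      · right
        refine Equiv.swap_apply_of_ne_of_ne ?_ ?_ <;> rintro rfl <;> simp [Fin.ext_iff] at hx <;> omega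
      · left
        push Not at hx
        exact Equiv.swap_apply_of_ne_of_ne hx.1 hx.2
    rw [(hd.commute).mul_pow, pow_two, pow_two, Equiv.swap_mul_self, Equiv.swap_mul_self, one_mul]



/-- The Coxeter presentation of the symmetric group: for every n, the symmetric group on n+1 letters is the Coxeter group of type A_n with the adjacent transpositions (i, i+1) as simple reflections; that is, it is presented by generators r_1, …, r_n subject to r_i² = 1, (r_i r_j)² = 1 for |i − j| > 1 and (r_i r_{i+1})³ = 1, with r_i mapping to (i, i+1). -/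
theorem result (n : ℕ) :
    ∃ cs : CoxeterSystem (CoxeterMatrix.A n) (Equiv.Perm (Fin (n + 1))), ∀ i : Fin n, cs.simple i = Equiv.swap i.castSucc i.succ := by
  classical
  set M := CoxeterMatrix.A n
  let cs0 := M.toCoxeterSystem
  let φ : M.Group →* Equiv.Perm (Fin (n + 1)) := cs0.lift ⟨_, swaps_liftable n⟩
  have hφ : ∀ i, φ (cs0.simple i) = Equiv.swap i.castSucc i.succ := fun i => cs0.lift_apply_simple (swaps_liftable n) i
  have hsurj : Function.Surjective φ := by
    intro g
    have hg : g ∈ Submonoid.closure (Set.range fun i : Fin n => Equiv.swap i.castSucc i.succ) := by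
      rw [Equiv.Perm.mclosure_swap_castSucc_succ]; trivial
    exact (Submonoid.closure_le (S := MonoidHom.mrange φ)).mpr (by rintro _ ⟨i, rfl⟩; exact ⟨_, hφ i⟩) hg
  let r : ℕ → M.Group := fun i => if h : i < n then cs0.simple ⟨i, h⟩ else 1
  have hr : ∀ i (h : i < n), r i = cs0.simple ⟨i, h⟩ := fun i h => dif_pos h
  obtain ⟨T, hT, hTc⟩ := cox_bound (r := r) (N := n) (fun i hi => by rw [hr i hi]; exact cs0.simple_mul_simple_self _)
    (fun i j hi hj hij => by
      rw [hr i hi, hr j hj]
      have h2 := cs0.simple_mul_simple_pow ⟨i, hi⟩ ⟨j, hj⟩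
      have hMij : M ⟨i, hi⟩ ⟨j, hj⟩ = 2 := by
        show (if (⟨i, hi⟩ : Fin n) = ⟨j, hj⟩ then 1 else (if j + 1 = i ∨ i + 1 = j then 3 else 2)) = 2
        rw [if_neg (by simp [Fin.ext_iff]; omega), if_neg (by omega)]
      rw [hMij, pow_two] at h2
      have h3 := eq_inv_of_mul_eq_one_left h2
      rw [mul_inv_rev, cs0.inv_simple, cs0.inv_simple] at h3
      exact h3)
    (fun i hi => by
      rw [hr i (by omega), hr (i + 1) hi]
      have h2 := cs0.simple_mul_simple_pow ⟨i + 1, hi⟩ ⟨i, by omega⟩
      have hMij : M ⟨i + 1, hi⟩ ⟨i, by omega⟩ = 3 := by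
        show (if (⟨i + 1, hi⟩ : Fin n) = ⟨i, _⟩ then 1 else (if i + 1 = i + 1 ∨ i + 1 + 1 = i then 3 else 2)) = 3
        rw [if_neg (by simp [Fin.ext_iff]), if_pos (Or.inl rfl)]
      rw [hMij] at h2
      simp only [pow_succ, pow_zero, one_mul, mul_assoc] at h2
      have h3 := congrArg (fun z => z * (cs0.simple ⟨i, by omega⟩ * (cs0.simple ⟨i + 1, hi⟩ * cs0.simple ⟨i, by omega⟩))) h2
      simp only [mul_assoc, one_mul, cs0.simple_mul_simple_cancel_left, cs0.simple_mul_simple_self, mul_one] at h3
      simp only [mul_assoc]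
      exact h3) n le_rfl
  have htop : Subgroup.closure (r '' Set.Iio n) = ⊤ := by
    rw [eq_top_iff, ← cs0.subgroup_closure_range_simple]
    refine Subgroup.closure_mono ?_
    rintro _ ⟨i, rfl⟩
    exact ⟨i, i.2, hr i i.2⟩
  rw [htop] at hT
  have hfin : Set.Finite (Set.univ : Set M.Group) := T.finite_toSet.subset hT
  haveI : Finite M.Group := Set.finite_univ_iff.mp hfin
  have hcard : Nat.card M.Group ≤ Nat.card (Equiv.Perm (Fin (n + 1))) := by
    rw [Nat.card_perm, Nat.card_fin]
    refine le_trans ?_ hTc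
    rw [← Set.ncard_univ, ← Set.ncard_coe_finset]
    exact Set.ncard_le_ncard hT T.finite_toSet
  have hbij : Function.Bijective φ := ⟨(Function.Surjective.bijective_of_nat_card_le hsurj hcard).1, hsurj⟩
  refine ⟨⟨(MulEquiv.ofBijective φ hbij).symm⟩, fun i => ?_⟩
  show (MulEquiv.ofBijective φ hbij).symm.symm (PresentedGroup.of i) = _
  have hs : (PresentedGroup.of i : M.Group) = cs0.simple i := rfl
  exact (congrArg (fun z => (MulEquiv.ofBijective φ hbij) z) hs).trans (hφ i)

end Cfsg.Agent.S2530
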