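import Cfsg.Statements.S2812
import Cfsg.Agent.Layer.Decomp
import Cfsg.Agent.Coprime.Basic
import Cfsg.Agent.PSolv.Basic
import Cfsg.Agent.Solv.Cores

set_option autoImplicit false
open Cfsg
open scoped commutatorElement

namespace Cfsg.Agent.S2812

/-- Let H be a subgroup of the finite group G with O_p(H) = 1, Y a p-subgroup of G normalizing H, and L a subgroup of the generalized Fitting subgroup F*(H) that is subnormal in H and normalized by Y. Then L = [L, Y]·C_L(Y) and [L, Y] = [L, Y, Y]. -/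
theorem result {G : Type*} [Group G] [Finite G] {p : ℕ} [Fact p.Prime] (H : Subgroup G) (hO : Cfsg.pCore p ↥H = ⊥) (Y : Subgroup G) (hY : IsPGroup p ↥Y) (hYH : Y ≤ Subgroup.normalizer (H : Set G)) (L : Subgroup G) (hLF : L ≤ (Cfsg.generalizedFittingSubgroup ↥H).map H.subtype) (hLsn : (L.subgroupOf H).IsSubnormal) (hYL : Y ≤ Subgroup.normalizer (L : Set G)) : ⁅L, Y⁆ ⊔ (L ⊓ Subgroup.centralizer (Y : Set G)) = L ∧ ⁅L, Y⁆ = ⁅⁅L, Y⁆, Y⁆ := by
  classical
  have hp : p.Prime := Fact.out
  have hFS : ∀ (Γ : Type _) [Group Γ] [Finite Γ], Cfsg.generalizedFittingSubgroup Γ = ⊤ → ∀ B : Subgroup Γ, B.IsSubnormal →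
      Cfsg.generalizedFittingSubgroup ↥B = ⊤ := by
    intro Γ _ _ hΓ B hB
    induction hB with
    | top =>
      rw [← Layer.map_generalizedFittingSubgroup Subgroup.topEquiv.symm, hΓ]
      exact Subgroup.map_top_of_surjective _ Subgroup.topEquiv.symm.surjective
    | step M K hMK _ hn ih =>
      haveI := hn
      have h := Layer.generalizedFitting_inf_normal (M.subgroupOf K)
      rw [ih, top_inf_eq] at h
      have h' : Cfsg.generalizedFittingSubgroup ↥(M.subgroupOf K) = ⊤ := by
        apply Subgroup.map_injective (M.subgroupOf K).subtype_injective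
        rw [← h, ← MonoidHom.range_eq_map, Subgroup.range_subtype]
      rw [← Layer.map_generalizedFittingSubgroup (Subgroup.subgroupOfEquivOfLe hMK), h']
      exact Subgroup.map_top_of_surjective _ (Subgroup.subgroupOfEquivOfLe hMK).surjective
  have hLH : L ≤ H := hLF.trans (Subgroup.map_subtype_le _)
  set L' := L.subgroupOf H with hL'
  set F' := Cfsg.generalizedFittingSubgroup ↥H with hF'
  haveI : F'.Normal := by
    haveI : (Cfsg.fittingSubgroup ↥H).Normal := inferInstance
    haveI : (Cfsg.layer ↥H).Normal := inferInstance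
    rw [hF']
    exact Subgroup.sup_normal _ _
  have hL'F : L' ≤ F' := by
    intro x hx
    obtain ⟨y, hy, he⟩ := hLF hx
    rwa [Subtype.ext he] at hy
  have hFF : Cfsg.generalizedFittingSubgroup ↥F' = ⊤ := by
    apply Subgroup.map_injective F'.subtype_injective
    rw [← Layer.generalizedFitting_inf_normal F', ← hF', inf_idem, ← MonoidHom.range_eq_map, Subgroup.range_subtype]
  let e : ↥(L'.subgroupOf F') ≃* ↥L := (Subgroup.subgroupOfEquivOfLe hL'F).trans (Subgroup.subgroupOfEquivOfLe hLH)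
  have hLfs : Cfsg.generalizedFittingSubgroup ↥L = ⊤ := by
    rw [← Layer.map_generalizedFittingSubgroup e, hFS ↥F' hFF _ hLsn.subgroupOf]
    exact Subgroup.map_top_of_surjective _ e.surjective
  have hLO : Cfsg.pCore p ↥L = ⊥ := by
    let e' := Subgroup.subgroupOfEquivOfLe hLH
    have h1 : ((Cfsg.pCore p ↥L).map e'.symm.toMonoidHom).map L'.subtype ≤ Cfsg.pCore p ↥H :=
      Solv.le_pCore_of_isSubnormal
        (Subgroup.IsSubnormal.trans' ((Solv.pCore_mem p).1.map e'.symm.toMonoidHom e'.symm.surjective).isSubnormal hLsn)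
        (((Solv.pCore_mem p).2.map _).map _)
    rw [hO, le_bot_iff, Subgroup.map_eq_bot_iff_of_injective _ L'.subtype_injective,
      Subgroup.map_eq_bot_iff_of_injective _ e'.symm.injective] at h1
    exact h1
  set T := ⁅L, Y⁆ with hT
  set C := L ⊓ Subgroup.centralizer (Y : Set G) with hC
  have hTL : T ≤ L := Subgroup.le_normalizer_iff_commutator_le_left.mp hYL
  have hLT : L ≤ Subgroup.normalizer (T : Set G) := Subgroup.normalizer_commutator_ge_left L Y
  set U := ⁅T, Y⁆ with hU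
  -- the Fitting part
  set F := (Cfsg.fittingSubgroup ↥L).map L.subtype with hF
  have hFp : ¬ p ∣ Nat.card ↥F := by
    rw [hF, Subgroup.card_map_of_injective L.subtype_injective]
    intro hd
    haveI : Group.IsNilpotent ↥(Cfsg.fittingSubgroup ↥L) := Solv.fittingSubgroup_isNilpotent
    obtain ⟨P⟩ : Nonempty (Sylow p ↥(Cfsg.fittingSubgroup ↥L)) := inferInstance
    haveI : (P : Subgroup ↥(Cfsg.fittingSubgroup ↥L)).Normal := P.normal_of_normalizerCondition Group.normalizerCondition_of_isNilpotent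
    haveI := P.characteristic_of_normal inferInstance
    have h1 : (P : Subgroup ↥(Cfsg.fittingSubgroup ↥L)).map (Cfsg.fittingSubgroup ↥L).subtype ≤ Cfsg.pCore p ↥L :=
      Solv.le_pCore inferInstance (P.isPGroup'.map _)
    rw [hLO, le_bot_iff, Subgroup.map_eq_bot_iff_of_injective _ (Cfsg.fittingSubgroup ↥L).subtype_injective] at h1
    exact P.ne_bot_of_dvd_card hd h1
  let φ : ∀ y ∈ Y, ↥L ≃* ↥L := fun y hy =>
    { toFun := fun l => ⟨y * l * y⁻¹, (Subgroup.mem_normalizer_iff.mp (hYL hy) l).mp l.2⟩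
      invFun := fun l => ⟨y⁻¹ * l * y, by simpa using (Subgroup.mem_normalizer_iff.mp (hYL (Y.inv_mem hy)) l).mp l.2⟩
      left_inv := fun l => Subtype.ext (by show y⁻¹ * (y * l * y⁻¹) * y = l; group)
      right_inv := fun l => Subtype.ext (by show y * (y⁻¹ * l * y) * y⁻¹ = l; group)
      map_mul' := fun l m => Subtype.ext (by
        show y * ((l : G) * m) * y⁻¹ = y * l * y⁻¹ * (y * m * y⁻¹)
        group) }
  have hYF : Y ≤ Subgroup.normalizer (F : Set G) := by
    intro y hy
    rw [Subgroup.mem_normalizer_iff_map_conj_eq]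
    refine Subgroup.eq_of_le_of_card_ge ?_ (Subgroup.card_map_of_injective (K := F) (MulAut.conj y).injective).ge
    rintro _ ⟨_, ⟨l, hl, rfl⟩, rfl⟩
    exact ⟨φ y hy l, (Layer.map_fittingSubgroup (φ y hy)).le ⟨l, hl, rfl⟩, rfl⟩
  -- the components
  have hcomp : ∀ K₀ : Subgroup ↥L, Cfsg.IsComponent K₀ → ∀ V : Subgroup G, K₀.map L.subtype ≤ Subgroup.normalizer (V : Set G) →
      (∀ k ∈ K₀.map L.subtype, ∀ y ∈ Y, ⁅k, y⁆ ∈ V) → K₀.map L.subtype ≤ C ∨ K₀.map L.subtype ≤ V := by
    intro K₀ hK₀ V hKV hkyV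
    set K := K₀.map L.subtype with hK
    by_cases hcen : ∀ y ∈ Y, ∀ k ∈ K, y * k = k * y
    · exact Or.inl (le_inf (Subgroup.map_subtype_le _) fun k hk => Subgroup.mem_centralizer_iff.mpr fun y hy => hcen y hy k hk)
    right
    push_neg at hcen
    obtain ⟨y, hy, k₁, hk₁, hne⟩ := hcen
    set K₁ := K₀.map (φ y hy).toMonoidHom with hK₁
    have hK₁c : Cfsg.IsComponent K₁ := Layer.isComponent_map_equiv (φ y hy) hK₀
    have hperf : ⁅K, K⁆ = K := by rw [hK, ← Subgroup.map_commutator, Layer.component_perfect hK₀]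
    have hmoved : ∀ k ∈ K, ∀ l ∈ K, K₁ ≠ K₀ → ⁅l, k⁆ ∈ V := by
      intro k hk l hl hne'
      have hconj : l * ⁅k, y⁆ * l⁻¹ * ⁅k, y⁆⁻¹ ∈ V :=
        V.mul_mem ((Subgroup.mem_normalizer_iff.mp (hKV hl) _).mp (hkyV k hk y hy)) (V.inv_mem (hkyV k hk y hy))
      have hcomm : l * (y * k⁻¹ * y⁻¹) = (y * k⁻¹ * y⁻¹) * l := by
        obtain ⟨k', hk', hk'e⟩ := K.inv_mem hk
        obtain ⟨l', hl', rfl⟩ := hl
        have h := Subgroup.commutator_mem_commutator hl' (show φ y hy k' ∈ K₁ from ⟨k', hk', rfl⟩)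
        rw [Layer.components_commute hK₀ hK₁c (Ne.symm hne'), Subgroup.mem_bot, commutatorElement_eq_one_iff_mul_comm] at h
        have h' := congrArg Subtype.val h
        have e1 : (k' : G) = k⁻¹ := hk'e
        rw [← e1]
        exact h'
      obtain ⟨z, hz⟩ : ∃ z, z = y * k⁻¹ * y⁻¹ := ⟨_, rfl⟩
      rw [← hz] at hcomm
      have e : l * ⁅k, y⁆ * l⁻¹ * ⁅k, y⁆⁻¹ = ⁅l, k⁆ := by
        calc l * ⁅k, y⁆ * l⁻¹ * ⁅k, y⁆⁻¹ = l * k * (z * l⁻¹) * z⁻¹ * k⁻¹ := by rw [commutatorElement_def, hz]; group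
          _ = l * k * (l⁻¹ * z) * z⁻¹ * k⁻¹ := by rw [(show Commute l z from hcomm).inv_left.eq]
          _ = ⁅l, k⁆ := by rw [commutatorElement_def]; group
      rwa [e] at hconj
    by_cases hne' : K₁ = K₀
    · have hn : ((K ⊓ V).subgroupOf K).Normal := Subgroup.normal_subgroupOf_of_le_normalizer
        ((le_inf Subgroup.le_normalizer hKV).trans Subgroup.inf_normalizer_le_normalizer_inf)
      have hKc : Cfsg.IsQuasisimple ↥K := Layer.isQuasisimple_of_mulEquiv (K₀.equivMapOfInjective _ L.subtype_injective) hK₀.2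
      rcases Layer.eq_top_or_le_center hKc hn with h | h
      · exact (Subgroup.subgroupOf_eq_top.mp h).trans inf_le_right
      · exfalso
        apply hne
        have hyK : ∀ g ∈ Subgroup.zpowers y, g ∈ Subgroup.normalizer (K : Set G) := by
          refine fun g hg => Subgroup.zpowers_le.mpr ?_ hg
          rw [Subgroup.mem_normalizer_iff_map_conj_eq]
          refine Subgroup.eq_of_le_of_card_ge ?_ (Subgroup.card_map_of_injective (K := K) (MulAut.conj y).injective).ge
          rintro _ ⟨_, ⟨l, hl, rfl⟩, rfl⟩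
          exact ⟨φ y hy l, hne'.le ⟨l, hl, rfl⟩, rfl⟩
        have h1 : ⁅⁅Subgroup.zpowers y, K⁆, K⁆ = ⊥ := by
          rw [Subgroup.commutator_eq_bot_iff_le_centralizer, Subgroup.commutator_comm, Subgroup.commutator_le]
          intro k hk g hg
          have hgY : g ∈ Y := Subgroup.zpowers_le.mpr hy hg
          have hmK : ⁅k, g⁆ ∈ K := by
            rw [commutatorElement_def, show k * g * k⁻¹ * g⁻¹ = k * (g * k⁻¹ * g⁻¹) by group]
            exact K.mul_mem hk ((Subgroup.mem_normalizer_iff.mp (hyK g hg) _).mp (K.inv_mem hk))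
          have h2 := h (show (⟨_, hmK⟩ : ↥K) ∈ (K ⊓ V).subgroupOf K from ⟨hmK, hkyV k hk g hgY⟩)
          exact Subgroup.mem_centralizer_iff.mpr fun l hl => congrArg Subtype.val (Subgroup.mem_center_iff.mp h2 ⟨l, hl⟩)
        have h2 := Layer.commutator_eq_bot_of_perfect hperf h1
        have h3 := Subgroup.commutator_mem_commutator (Subgroup.mem_zpowers y) hk₁
        rw [h2, Subgroup.mem_bot, commutatorElement_eq_one_iff_mul_comm] at h3
        exact h3
    · rw [← hperf, Subgroup.commutator_le]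
      exact fun l hl k hk => hmoved k hk l hl hne'
  have hLgen : L ≤ (Cfsg.layer ↥L).map L.subtype ⊔ F := by
    rw [hF, ← Subgroup.map_sup]
    intro x hx
    exact ⟨⟨x, hx⟩, hLfs.ge (Subgroup.mem_top _), rfl⟩
  have hlayer : ∀ W : Subgroup G, (∀ K₀ : Subgroup ↥L, Cfsg.IsComponent K₀ → K₀.map L.subtype ≤ W) → F ≤ W → L ≤ W := by
    intro W hW hFW
    refine hLgen.trans (sup_le ?_ hFW)
    rw [Subgroup.map_le_iff_le_comap]
    exact sSup_le fun K₀ hK₀ => Subgroup.map_le_iff_le_comap.mp (hW K₀ hK₀)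
  have h1 : T ⊔ C = L := by
    refine le_antisymm (sup_le hTL inf_le_left) (hlayer _ (fun K₀ hK₀ => ?_) fun x hx => ?_)
    · rcases hcomp K₀ hK₀ T ((Subgroup.map_subtype_le _).trans hLT) (fun k hk y hy =>
        Subgroup.commutator_mem_commutator (Subgroup.map_subtype_le _ hk) hy) with h | h
      · exact h.trans le_sup_right
      · exact h.trans le_sup_left
    · obtain ⟨n, hn, c, hc, rfl⟩ := CoprimeAct.exists_mul_mem_commutator_centralizer hY hFp hYF hx
      exact Subgroup.mul_mem_sup (Subgroup.commutator_mono (Subgroup.map_subtype_le _) le_rfl hn)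
        ⟨Subgroup.map_subtype_le _ hc.1, hc.2⟩
  refine ⟨h1, le_antisymm ?_ (Subgroup.le_normalizer_iff_commutator_le_left.mp (Subgroup.normalizer_commutator_ge_right L Y))⟩
  have hLU : L ≤ Subgroup.normalizer (U : Set G) := by
    rw [← h1]
    refine sup_le (Subgroup.normalizer_commutator_ge_left T Y) fun c hc => ?_
    rw [Subgroup.mem_normalizer_iff_map_conj_eq, hU, Subgroup.map_commutator]
    congr 1
    · exact Subgroup.mem_normalizer_iff_map_conj_eq.mp (hLT hc.1)
    · exact Subgroup.mem_normalizer_iff_map_conj_eq.mp (Subgroup.centralizer_le_normalizer _ hc.2)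
  let W : Subgroup G :=
    { carrier := {l | l ∈ L ∧ ∀ y ∈ Y, ⁅l, y⁆ ∈ U}
      one_mem' := ⟨L.one_mem, fun y _ => by rw [commutatorElement_one_left]; exact U.one_mem⟩
      mul_mem' := fun {a b} ha hb => ⟨L.mul_mem ha.1 hb.1, fun y hy => by
        rw [show ⁅a * b, y⁆ = a * ⁅b, y⁆ * a⁻¹ * ⁅a, y⁆ by rw [commutatorElement_def, commutatorElement_def, commutatorElement_def]; group]
        exact U.mul_mem ((Subgroup.mem_normalizer_iff.mp (hLU ha.1) _).mp (hb.2 y hy)) (ha.2 y hy)⟩
      inv_mem' := fun {a} ha => ⟨L.inv_mem ha.1, fun y hy => by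
        rw [show ⁅a⁻¹, y⁆ = a⁻¹ * ⁅a, y⁆⁻¹ * a⁻¹⁻¹ by rw [commutatorElement_def, commutatorElement_def]; group]
        exact (Subgroup.mem_normalizer_iff.mp (hLU (L.inv_mem ha.1)) _).mp (U.inv_mem (ha.2 y hy))⟩ }
  have hWU : L ≤ W := by
    refine hlayer W (fun K₀ hK₀ k hk => ⟨Subgroup.map_subtype_le _ hk, fun y hy => ?_⟩) fun x hx => ⟨Subgroup.map_subtype_le _ hx, fun y hy => ?_⟩
    · rcases hcomp K₀ hK₀ T ((Subgroup.map_subtype_le _).trans hLT) (fun k hk y hy =>
        Subgroup.commutator_mem_commutator (Subgroup.map_subtype_le _ hk) hy) with h | h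
      · rw [show ⁅k, y⁆ = 1 from commutatorElement_eq_one_iff_mul_comm.mpr (Subgroup.mem_centralizer_iff.mp (h hk).2 y hy).symm]
        exact U.one_mem
      · exact Subgroup.commutator_mem_commutator (h hk) hy
    · have hh := Subgroup.commutator_mem_commutator hx hy
      rw [← CoprimeAct.commutator_commutator_eq hY hFp hYF] at hh
      exact Subgroup.commutator_mono (Subgroup.commutator_mono (Subgroup.map_subtype_le _) le_rfl) le_rfl hh
  rw [hT, Subgroup.commutator_le]
  exact fun l hl y hy => (hWU hl).2 y hy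

end Cfsg.Agent.S2812
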