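import Cfsg.Statements.S2814
import Mathlib.Data.Set.Finite.Lemmas
import Cfsg.Agent.Transfer.Basic
import Cfsg.Agent.Solv.Subnormal

set_option autoImplicit false
open Cfsg
open scoped commutatorElement

namespace Cfsg.Agent.S2814

/-- Let A be a subgroup of the finite group H and K the subnormal closure of A (intersection of the subnormal subgroups containing A). Then K is the normal closure of A inside K and N_H(A) ≤ N_H(K); K = A·O^p(K), O^p(K) being generated by the elements of K of order prime to p; and if A is a p-group, O^p(K) = [O^p(K), A]. -/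
theorem result {H : Type*} [Group H] [Finite H] {p : ℕ} [Fact p.Prime] (A : Subgroup H) (K : Subgroup H) (hK : K = Cfsg.subnormalClosure A) : (Subgroup.normalClosure ((A.subgroupOf K : Subgroup ↥K) : Set ↥K)).map K.subtype = K ∧ Subgroup.normalizer (A : Set H) ≤ Subgroup.normalizer (K : Set H) ∧ A ⊔ (Cfsg.pResidual p ↥K).map K.subtype = K ∧ (IsPGroup p ↥A → ⁅(Cfsg.pResidual p ↥K).map K.subtype, A⁆ = (Cfsg.pResidual p ↥K).map K.subtype) := by
  classical
  have hp : p.Prime := Fact.out
  let S : Set (Subgroup H) := {L | A ≤ L ∧ L.IsSubnormal}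
  obtain ⟨K₀, hK₀, hmin⟩ := Set.exists_min_image S (fun L => Nat.card ↥L) (Set.toFinite S) ⟨⊤, le_top, Subgroup.IsSubnormal.top⟩
  have hleast : ∀ L ∈ S, K₀ ≤ L := by
    intro L hL
    have h1 : K₀ ⊓ L ∈ S := ⟨le_inf hK₀.1 hL.1, hK₀.2.inf hL.2⟩
    exact inf_eq_left.mp (Subgroup.eq_of_le_of_card_ge inf_le_left (hmin _ h1))
  have hKK : K = K₀ := by
    rw [hK]
    exact le_antisymm (sInf_le hK₀) (le_sInf hleast)
  subst hKK
  have hKsn : K.IsSubnormal := hK₀.2
  have hAK : A ≤ K := hK₀.1
  set A' := A.subgroupOf K with hA'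
  have hmapA : A'.map K.subtype = A := Subgroup.map_subgroupOf_eq_of_le hAK
  have hup : ∀ M : Subgroup ↥K, A' ≤ M → M.IsSubnormal → M = ⊤ := by
    intro M hAM hM
    have h1 : K ≤ M.map K.subtype := hleast _ ⟨hmapA ▸ Subgroup.map_mono hAM, hM.trans' hKsn⟩
    rw [eq_top_iff]
    intro x _
    obtain ⟨y, hy, he⟩ := h1 x.2
    rwa [Subtype.ext he] at hy
  set R := Cfsg.pResidual p ↥K with hR
  haveI hRn : R.Normal := by
    refine ⟨fun x hx g => ?_⟩
    have : R ≤ R.comap (MulAut.conj g).toMonoidHom := (Subgroup.closure_le _).mpr fun y hy => Subgroup.subset_closure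
      (show (orderOf (MulAut.conj g y)).Coprime p by rw [MulEquiv.orderOf_eq]; exact hy)
    exact this hx
  have hAR : A' ⊔ R = ⊤ := by
    refine hup _ le_sup_left ?_
    haveI : IsPGroup p (↥K ⧸ R) := Transfer.pResidual_quotient_isPGroup
    haveI : Group.IsNilpotent (↥K ⧸ R) := IsPGroup.isNilpotent this
    have h1 := (Solv.isSubnormal_of_isNilpotent ((A' ⊔ R).map (QuotientGroup.mk' R))).comap (QuotientGroup.mk' R)
    rwa [Subgroup.comap_map_eq_self (by rw [QuotientGroup.ker_mk']; exact le_sup_right)] at h1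
  refine ⟨?_, ?_, ?_, ?_⟩
  · rw [show Subgroup.normalClosure (A' : Set ↥K) = ⊤ from
      hup _ Subgroup.le_normalClosure Subgroup.normalClosure_normal.isSubnormal, ← MonoidHom.range_eq_map,
      Subgroup.range_subtype]
  · intro g hg
    have key : ∀ a : H, a ∈ Subgroup.normalizer (A : Set H) → K ≤ K.map (MulAut.conj a).toMonoidHom := by
      intro a ha
      refine hleast _ ⟨?_, hKsn.map (MulAut.conj a).surjective⟩
      calc A = A.map (MulAut.conj a).toMonoidHom := (Subgroup.mem_normalizer_iff_map_conj_eq.mp ha).symm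
        _ ≤ _ := Subgroup.map_mono hAK
    rw [Subgroup.mem_normalizer_iff_map_conj_eq]
    symm
    exact Subgroup.eq_of_le_of_card_ge (key g hg) (by rw [Subgroup.card_map_of_injective (MulAut.conj g).injective])
  · rw [← hmapA, ← Subgroup.map_sup, hAR, ← MonoidHom.range_eq_map, Subgroup.range_subtype]
  · intro hAp
    set C := ⁅R, A'⁆ with hC
    have hCR : C ≤ R := Subgroup.commutator_le_left R A'
    have hAC : A' ≤ Subgroup.normalizer (C : Set ↥K) := Subgroup.normalizer_commutator_ge_right R A'
    have hRC : R ≤ Subgroup.normalizer (C : Set ↥K) := Subgroup.normalizer_commutator_ge_left R A'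
    haveI hCn : C.Normal := by
      rw [← Subgroup.normalizer_eq_top_iff, eq_top_iff, ← hAR]
      exact sup_le hAC hRC
    have hACn : (A' ⊔ C).Normal := by
      rw [← Subgroup.normalizer_eq_top_iff, eq_top_iff, ← hAR]
      refine sup_le (le_sup_left.trans Subgroup.le_normalizer) fun r hr => ?_
      have key : ∀ s ∈ R, (A' ⊔ C).map (MulAut.conj s).toMonoidHom ≤ A' ⊔ C := by
        intro s hs
        rw [Subgroup.map_sup]
        refine sup_le ?_ ?_
        · rintro _ ⟨a, ha, rfl⟩
          show s * a * s⁻¹ ∈ A' ⊔ C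
          rw [show s * a * s⁻¹ = ⁅s, a⁆ * a by rw [commutatorElement_def]; group]
          exact Subgroup.mul_mem _ (Subgroup.mem_sup_right (Subgroup.commutator_mem_commutator hs ha)) (Subgroup.mem_sup_left ha)
        · rintro _ ⟨c, hc, rfl⟩
          exact Subgroup.mem_sup_right (hCn.conj_mem c hc s)
      rw [Subgroup.mem_normalizer_iff_map_conj_eq]
      exact Subgroup.eq_of_le_of_card_ge (key r hr) (by rw [Subgroup.card_map_of_injective (MulAut.conj r).injective])
    have htop : A' ⊔ C = ⊤ := hup _ le_sup_left hACn.isSubnormal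
    have hRC' : R ≤ C := by
      refine Transfer.pResidual_le_of_index hCn ?_
      have hpq : IsPGroup p (↥K ⧸ C) := by
        intro x
        obtain ⟨x, rfl⟩ := QuotientGroup.mk'_surjective C x
        obtain ⟨a, ha, c, hc, rfl⟩ := Subgroup.mem_sup_of_normal_right.mp (htop ▸ Subgroup.mem_top x)
        obtain ⟨k, hk⟩ := (hAp.comap_subtype (K := K)) ⟨a, ha⟩
        refine ⟨k, ?_⟩
        rw [map_mul, show QuotientGroup.mk' C c = 1 from (QuotientGroup.eq_one_iff c).mpr hc, mul_one, ← map_pow,
          show a ^ p ^ k = 1 from congrArg Subtype.val hk, map_one]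
      obtain ⟨k, hk⟩ := hpq.exists_card_eq
      exact ⟨k, by rw [Subgroup.index_eq_card, hk]⟩
    rw [← hmapA, ← Subgroup.map_commutator, ← hC, le_antisymm hCR hRC']

end Cfsg.Agent.S2814
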