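import Cfsg.Statements.S2829
import Cfsg.Agent.Solv.Cores
import Mathlib.Tactic.Group

set_option autoImplicit false
open Cfsg
open scoped commutatorElement

namespace Cfsg.Agent.S2829

/-- Every strongly p-irreducible finite group is p-irreducible. -/
theorem result {H : Type*} [Group H] [Finite H] {p : ℕ} [Fact p.Prime] (hH : Cfsg.IsStronglyPIrreducible p H) : Cfsg.IsPIrreducible p H := by
  refine ⟨hH.1, fun N hN hnc => hH.2 N hN fun hle => hnc fun P => ⟨fun x hx g => ?_⟩⟩
  have h1 : (Cfsg.pCore p H).subgroupOf N ≤ (P : Subgroup ↥N) :=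
    (Solv.le_pCore ((Solv.pCore_mem (G := H) p).1.subgroupOf N) ((Solv.pCore_mem (G := H) p).2.comap_subtype)).trans
      (Solv.pCore_le_sylow P)
  have h2 : ⁅g, x⁆ ∈ (P : Subgroup ↥N) :=
    h1 (hle (Subgroup.commutator_mem_commutator g.2 (Subgroup.mem_top (x : H))) :
      ⁅g, x⁆ ∈ (Cfsg.pCore p H).subgroupOf N)
  have e : g * x * g⁻¹ = ⁅g, x⁆ * x := by rw [commutatorElement_def]; group
  rw [e]
  exact (P : Subgroup ↥N).mul_mem h2 hx

end Cfsg.Agent.S2829
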