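import Cfsg.Statements.S4244
import Mathlib.GroupTheory.Index
import Mathlib.GroupTheory.IsSubnormal

set_option autoImplicit false
open Cfsg

namespace Cfsg.Agent.S4244

theorem relIndex_normal_dvd {G : Type*} [Group G] [Finite G] (N : Subgroup G) [N.Normal] (K : Subgroup G) :
    K.relIndex N ∣ K.index := by
  obtain ⟨e, he⟩ := Subgroup.relIndex_dvd_index_of_normal N K
  have h1 := Subgroup.relIndex_mul_index (H := K ⊓ N) (K := N) inf_le_right
  have h2 := Subgroup.relIndex_mul_index (H := K ⊓ N) (K := K) inf_le_left
  rw [Subgroup.inf_relIndex_right] at h1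
  rw [Subgroup.inf_relIndex_left] at h2
  refine ⟨e, ?_⟩
  have hne : N.relIndex K ≠ 0 := by
    intro h0
    rw [h0, zero_mul] at he
    exact Subgroup.index_ne_zero_of_finite he
  refine Nat.eq_of_mul_eq_mul_left (Nat.pos_of_ne_zero hne) ?_
  rw [h2, ← h1, he]; ring

/-- Let H be a subnormal subgroup of a finite group G. Then for every subgroup K of G the index of H ∩ K in H divides the index of K in G. -/
theorem result {G : Type*} [Group G] [Finite G] (H : Subgroup G) (hH : H.IsSubnormal) (K : Subgroup G) :
    (H ⊓ K).relIndex H ∣ K.index := by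
  suffices h : K.relIndex H ∣ K.index by
    rwa [inf_comm, Subgroup.inf_relIndex_right]
  induction hH with
  | top => rw [Subgroup.relIndex_top_right]
  | step H M hle _ hN ih =>
    refine dvd_trans ?_ ih
    have := @relIndex_normal_dvd ↥M _ _ (H.subgroupOf M) hN (K.subgroupOf M)
    rwa [Subgroup.relIndex_subgroupOf hle] at this

end Cfsg.Agent.S4244
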