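import Cfsg.Statements.S2831
import Cfsg.Agent.S4244
import Cfsg.Agent.Transfer.Basic

set_option autoImplicit false
open Cfsg

namespace Cfsg.Agent.S2831

/-- Let H be a finite group with Sylow p-subgroup T such that H is T-minimal (H is generated by the conjugates of T and T lies in exactly one maximal subgroup of H). Then H is p-irreducible: H is not p-closed and O^p(H) lies in every normal subgroup of H that is not p-closed. -/
theorem result {H : Type*} [Group H] [Finite H] {p : ℕ} [Fact p.Prime] (T : Sylow p H) (hmin : Cfsg.IsMinimalOver (T : Subgroup H)) : Cfsg.IsPIrreducible p H := by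
  obtain ⟨hcl, M, ⟨hM, hTM⟩, huniq⟩ := hmin
  have hp := (Fact.out : p.Prime)
  refine ⟨fun h => hM.1 (top_le_iff.mp ?_), fun N hN hnc => ?_⟩
  · rw [← hcl, @Subgroup.normalClosure_eq_self _ _ (T : Subgroup H) (h T)]
    exact hTM
  haveI := hN
  by_cases htop : (T : Subgroup H) ⊔ N = ⊤
  · refine Transfer.pResidual_le_of_index hN ?_
    obtain ⟨n, hn⟩ := T.2.exists_card_eq
    have h1 : N.index ∣ Nat.card ↥(T : Subgroup H) := by
      rw [← Subgroup.relIndex_top_right N, ← htop, Subgroup.relIndex_sup_right]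
      exact Subgroup.relIndex_dvd_card _ _
    rw [hn] at h1
    obtain ⟨k, _, hk⟩ := (Nat.dvd_prime_pow hp).mp h1
    exact ⟨k, hk⟩
  exfalso
  have hcoatom : ∀ X : Subgroup H, (T : Subgroup H) ≤ X → X ≠ ⊤ → X ≤ M := by
    intro X hX hne
    obtain ⟨M', hM', hle⟩ := (eq_top_or_exists_le_coatom X).resolve_left hne
    rw [← huniq M' ⟨hM', hX.trans hle⟩]
    exact hle
  have hNM : N ≤ M := le_sup_right.trans (hcoatom _ le_sup_left htop)
  have hnd : ¬ p ∣ ((T : Subgroup H).subgroupOf N).index := fun h =>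
    T.not_dvd_index (h.trans (S4244.relIndex_normal_dvd N (T : Subgroup H)))
  set Q : Sylow p ↥N := (T.2.comap_subtype (K := N) : IsPGroup p ↥((T : Subgroup H).subgroupOf N)).toSylow hnd with hQ
  have hQn : ¬ (Q : Subgroup ↥N).Normal := by
    intro h
    refine hnc fun P => ?_
    haveI := Sylow.unique_of_normal Q h
    rw [Subsingleton.elim P Q]; exact h
  have hmap : (Q : Subgroup ↥N).map N.subtype = (T : Subgroup H) ⊓ N := by
    exact Subgroup.subgroupOf_map_subtype _ _
  have hne : Subgroup.normalizer (((T : Subgroup H) ⊓ N : Subgroup H) : Set H) ≠ ⊤ := by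
    intro h
    refine hQn ?_
    have : ((T : Subgroup H) ⊓ N).Normal := Subgroup.normalizer_eq_top_iff.mp h
    show ((T : Subgroup H).subgroupOf N).Normal
    rw [← Subgroup.inf_subgroupOf_right]
    exact this.subgroupOf N
  have hTle : (T : Subgroup H) ≤ Subgroup.normalizer (((T : Subgroup H) ⊓ N : Subgroup H) : Set H) := by
    intro t ht
    rw [Subgroup.mem_normalizer_iff]
    intro x
    constructor
    · rintro ⟨hx, hxN⟩
      exact ⟨(T : Subgroup H).mul_mem ((T : Subgroup H).mul_mem ht hx) ((T : Subgroup H).inv_mem ht), hN.conj_mem x hxN t⟩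
    · rintro ⟨hx, hxN⟩
      refine ⟨?_, ?_⟩
      · have e : x = t⁻¹ * (t * x * t⁻¹) * t := by group
        rw [e]
        exact (T : Subgroup H).mul_mem ((T : Subgroup H).mul_mem ((T : Subgroup H).inv_mem ht) hx) ht
      · simpa [mul_assoc] using hN.conj_mem _ hxN t⁻¹
  have h2 := Sylow.normalizer_sup_eq_top Q
  rw [hmap] at h2
  exact hM.1 (top_le_iff.mp (h2 ▸ sup_le (hcoatom _ hTle hne) hNM))

end Cfsg.Agent.S2831
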