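import Cfsg.Statements.S2841
import Cfsg.Agent.PSolv.Basic

set_option autoImplicit false
open Cfsg
open scoped commutatorElement

namespace Cfsg.Agent.S2841

/-- Let Q be a nontrivial p-subgroup of the finite group H that is a weakly closed subgroup and N a normal subgroup of H. Then N = N_N(Q)·[N, Q] and [N, Q] = (Q ∩ [N, Q])·[N, Q, Q]. -/
theorem result {H : Type*} [Group H] [Finite H] {p : ℕ} [Fact p.Prime] (Q : Subgroup H) (hQp : IsPGroup p ↥Q) (hQ1 : Q ≠ ⊥) (hwc : Cfsg.IsWeaklyClosedSubgroup p Q) (N' : Subgroup H) [N'.Normal] : (∀ n : H, n ∈ N' → ∃ a ∈ N' ⊓ Subgroup.normalizer ((Q : Subgroup H) : Set H), ∃ b ∈ ⁅N', Q⁆, n = a * b) ∧ (∀ c : H, c ∈ ⁅N', Q⁆ → ∃ a ∈ Q ⊓ ⁅N', Q⁆, ∃ b ∈ ⁅⁅N', Q⁆, Q⁆, c = a * b) := by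
  obtain ⟨T, hQT, hwcT⟩ := hwc
  have hwc' : ∀ (P : Sylow p H) (g : H), Q ≤ (P : Subgroup H) → Q.map (MulAut.conj g).toMonoidHom ≤ (P : Subgroup H) →
      g ∈ Subgroup.normalizer (Q : Set H) := by
    intro P g hQP hgP
    obtain ⟨a, ha⟩ := MulAction.exists_smul_eq H P T
    have hmap : ∀ x ∈ (P : Subgroup H), a * x * a⁻¹ ∈ (T : Subgroup H) := fun x hx => by
      rw [← ha, Sylow.coe_subgroup_smul]; exact ⟨x, hx, rfl⟩
    have h1 := hwcT a (by rintro _ ⟨x, hx, rfl⟩; exact hmap x (hQP hx))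
    have h2 := hwcT (a * g) (by
      rintro _ ⟨x, hx, rfl⟩
      show a * g * x * (a * g)⁻¹ ∈ (T : Subgroup H)
      rw [show a * g * x * (a * g)⁻¹ = a * (g * x * g⁻¹) * a⁻¹ by group]
      exact hmap _ (hgP ⟨x, hx, rfl⟩))
    have e1 : a ∈ Subgroup.normalizer (Q : Set H) := Subgroup.mem_normalizer_iff_map_conj_eq.mpr h1
    have e2 : a * g ∈ Subgroup.normalizer (Q : Set H) := Subgroup.mem_normalizer_iff_map_conj_eq.mpr h2
    rw [show g = a⁻¹ * (a * g) by group]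
    exact Subgroup.mul_mem _ (Subgroup.inv_mem _ e1) e2
  set X := ⁅N', Q⁆ with hXdef
  have hNX : N' ≤ Subgroup.normalizer (X : Set H) := Subgroup.normalizer_commutator_ge_left N' Q
  have hQX : Q ≤ Subgroup.normalizer (X : Set H) := Subgroup.normalizer_commutator_ge_right N' Q
  have hXN : X ≤ N' := Subgroup.commutator_le_left N' Q
  have hnq : ∀ n ∈ N', Q.map (MulAut.conj n).toMonoidHom ≤ Q ⊔ X := by
    intro n hn
    rintro _ ⟨x, hx, rfl⟩
    show n * x * n⁻¹ ∈ Q ⊔ X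
    rw [show n * x * n⁻¹ = ⁅n, x⁆ * x by rw [commutatorElement_def]; group]
    exact Subgroup.mul_mem _ (Subgroup.mem_sup_right (Subgroup.commutator_mem_commutator hn hx)) (Subgroup.mem_sup_left hx)
  have hdec : ∀ k ∈ Q ⊔ X, ∃ q ∈ Q, ∃ c ∈ X, k = q * c := by
    intro k hk
    rw [← SetLike.mem_coe, Subgroup.coe_mul_of_left_le_normalizer_right Q X hQX] at hk
    obtain ⟨q, hq, c, hc, rfl⟩ := hk
    exact ⟨q, hq, c, hc, rfl⟩
  have hA : ∀ n ∈ N', ∃ a ∈ N' ⊓ Subgroup.normalizer (Q : Set H), ∃ b ∈ X, n = a * b := by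
    intro n hn
    have hQK : Q ≤ Q ⊔ X := le_sup_left
    obtain ⟨P₁, hP₁⟩ := (hQp.comap_subtype (K := Q ⊔ X)).exists_le_sylow
    obtain ⟨P₂, hP₂⟩ := ((hQp.map (MulAut.conj n).toMonoidHom).comap_subtype (K := Q ⊔ X)).exists_le_sylow
    obtain ⟨k, hk⟩ := MulAction.exists_smul_eq ↥(Q ⊔ X) P₂ P₁
    obtain ⟨P, hP⟩ := (P₁.isPGroup'.map (Q ⊔ X).subtype).exists_le_sylow
    have hkn : (k : H) * n ∈ Subgroup.normalizer (Q : Set H) := by
      refine hwc' P _ (fun x hx => hP ⟨⟨x, hQK hx⟩, hP₁ hx, rfl⟩) ?_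
      rintro _ ⟨x, hx, rfl⟩
      refine hP ⟨k * ⟨n * x * n⁻¹, hnq n hn ⟨x, hx, rfl⟩⟩ * k⁻¹, ?_, ?_⟩
      · rw [SetLike.mem_coe, ← hk, Sylow.coe_subgroup_smul]
        exact ⟨_, hP₂ (show n * x * n⁻¹ ∈ Q.map (MulAut.conj n).toMonoidHom from ⟨x, hx, rfl⟩), rfl⟩
      · show (k : H) * (n * x * n⁻¹) * (k : H)⁻¹ = k * n * x * (k * n)⁻¹
        group
    obtain ⟨q, hq, c, hc, hkc⟩ := hdec _ k.2
    rw [hkc] at hkn
    have ha : c * n ∈ N' ⊓ Subgroup.normalizer (Q : Set H) := by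
      refine ⟨N'.mul_mem (hXN hc) hn, ?_⟩
      rw [show c * n = q⁻¹ * (q * c * n) by group]
      exact Subgroup.mul_mem _ (Subgroup.inv_mem _ (Subgroup.le_normalizer hq)) hkn
    refine ⟨c * n, ha, (c * n)⁻¹ * c⁻¹ * (c * n), ?_, by group⟩
    have h := (Subgroup.mem_normalizer_iff.mp (hNX (N'.inv_mem ha.1)) c⁻¹).mp (X.inv_mem hc)
    rwa [inv_inv] at h
  refine ⟨fun n hn => hA n hn, fun c hc => ?_⟩
  set Y := ⁅X, Q⁆ with hY
  have hQY : Q ≤ Subgroup.normalizer (Y : Set H) := Subgroup.normalizer_commutator_ge_right X Q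
  have hXY : X ≤ Subgroup.normalizer (Y : Set H) := Subgroup.normalizer_commutator_ge_left X Q
  have hconjQ : ∀ n ∈ N', ∀ x ∈ Q, n * x * n⁻¹ ∈ Q ⊔ Y := by
    intro n hn x hx
    obtain ⟨a, ha, b, hb, rfl⟩ := hA n hn
    have h1 : b * x * b⁻¹ ∈ Q ⊔ Y := by
      rw [show b * x * b⁻¹ = ⁅b, x⁆ * x by rw [commutatorElement_def]; group]
      exact Subgroup.mul_mem _ (Subgroup.mem_sup_right (Subgroup.commutator_mem_commutator hb hx)) (Subgroup.mem_sup_left hx)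
    have e1 : Q.map (MulAut.conj a).toMonoidHom = Q := Subgroup.mem_normalizer_iff_map_conj_eq.mp ha.2
    have e2 : X.map (MulAut.conj a).toMonoidHom = X := Subgroup.mem_normalizer_iff_map_conj_eq.mp (hNX ha.1)
    have h2 : (Q ⊔ Y).map (MulAut.conj a).toMonoidHom = Q ⊔ Y := by
      rw [Subgroup.map_sup, hY, Subgroup.map_commutator, e1, e2]
    rw [show a * b * x * (a * b)⁻¹ = a * (b * x * b⁻¹) * a⁻¹ by group, ← h2]
    exact ⟨_, h1, rfl⟩
  have hle : X ≤ Q ⊔ Y := by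
    rw [hXdef, Subgroup.commutator_le]
    intro n hn x hx
    rw [commutatorElement_def]
    exact Subgroup.mul_mem _ (hconjQ n hn x hx) (Subgroup.inv_mem _ (Subgroup.mem_sup_left hx))
  have h := hle hc
  rw [← SetLike.mem_coe, Subgroup.coe_mul_of_left_le_normalizer_right Q Y hQY] at h
  obtain ⟨q, hq, y, hy, rfl⟩ := h
  have hYX : Y ≤ X := Subgroup.le_normalizer_iff_commutator_le_left.mp hQX
  refine ⟨q, ⟨hq, ?_⟩, y, hy, rfl⟩
  have := X.mul_mem hc (X.inv_mem (hYX hy))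
  simpa using this

end Cfsg.Agent.S2841
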