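import Cfsg.Statements.S2872
import Cfsg.Agent.Transfer.Basic
import Cfsg.Agent.Solv.Nilpotent

set_option autoImplicit false
open Cfsg
open Cfsg.Agent.Transfer

namespace Cfsg.Agent.S2872

/-- Let S be a Sylow 2-subgroup of the finite group G. Then G has a proper normal subgroup of 2-power index (O²(G) ≠ G), or Ω₁(Z(S)) is contained in the Frattini subgroup of S, or N_G(S) acts nontrivially on Ω₁(Z(S)) by conjugation. -/
theorem result {G : Type*} [Group G] [Finite G] (S : Sylow 2 G) : Cfsg.pResidual 2 G ≠ ⊤ ∨ Cfsg.omegaOne 2 ((S : Subgroup G) ⊓ Subgroup.centralizer ((S : Subgroup G) : Set G)) ≤ (frattini ↥(S : Subgroup G)).map (S : Subgroup G).subtype ∨ ∃ g ∈ Subgroup.normalizer ((S : Subgroup G) : Set G), ∃ z ∈ Cfsg.omegaOne 2 ((S : Subgroup G) ⊓ Subgroup.centralizer ((S : Subgroup G) : Set G)), g * z * g⁻¹ ≠ z := by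
  classical
  haveI : Fact (Nat.Prime 2) := ⟨Nat.prime_two⟩
  by_contra hcon
  push Not at hcon
  obtain ⟨hres, hΦ, hfix⟩ := hcon
  obtain ⟨z, ⟨hzSC, hz2⟩, hzΦ⟩ := Set.not_subset.mp (fun h => hΦ ((Subgroup.closure_le _).mpr h))
  obtain ⟨hzS, hzC⟩ := Subgroup.mem_inf.mp hzSC
  have hzN : ∀ g ∈ Subgroup.normalizer ((S : Subgroup G) : Set G), g * z * g⁻¹ = z := fun g hg =>
    hfix g hg z (Subgroup.subset_closure ⟨hzSC, hz2⟩)
  obtain ⟨M, hM, hzM⟩ : ∃ M : Subgroup ↥(S : Subgroup G), IsCoatom M ∧ (⟨z, hzS⟩ : ↥(S : Subgroup G)) ∉ M := by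
    by_contra hall
    push Not at hall
    refine hzΦ ⟨⟨z, hzS⟩, ?_, rfl⟩
    rw [frattini, Order.radical, SetLike.mem_coe, ← SetLike.mem_coe]
    simp only [Subgroup.coe_iInf, Set.mem_iInter, SetLike.mem_coe]
    exact fun K hK => hall K hK
  obtain ⟨hMc, hMp⟩ := Cfsg.Agent.Solv.pGroup_coatom S.isPGroup' hM
  haveI : M.Normal := Subgroup.Normal.of_commutator_le _ hMc
  have hidx : M.index = 2 := by
    refine Subgroup.index_eq_two_iff.mpr ⟨⟨z, hzS⟩, fun b => ?_⟩
    by_cases hb : b ∈ M
    · exact Or.inr ⟨hb, fun h => hzM ((Subgroup.mul_mem_cancel_left M hb).mp h)⟩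
    refine Or.inl ⟨?_, hb⟩
    have htop : M ⊔ Subgroup.zpowers ⟨z, hzS⟩ = ⊤ :=
      hM.2 _ (left_lt_sup.mpr fun h => hzM (h (Subgroup.mem_zpowers _)))
    obtain ⟨m, hm, w, hw, rfl⟩ := Subgroup.mem_sup_of_normal_left.mp (htop ▸ Subgroup.mem_top b :
      b ∈ M ⊔ Subgroup.zpowers ⟨z, hzS⟩)
    obtain ⟨i, rfl⟩ := Subgroup.mem_zpowers_iff.mp hw
    rcases Int.even_or_odd i with ⟨j, rfl⟩ | ⟨j, rfl⟩
    · refine absurd (mul_mem hm ?_) hb
      rw [← two_mul, zpow_mul]
      exact zpow_mem (by simpa using hMp ⟨z, hzS⟩) j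
    · rw [mul_assoc, ← zpow_add_one]
      refine mul_mem hm ?_
      rw [show 2 * j + 1 + 1 = 2 * (j + 1) by ring, zpow_mul]
      exact zpow_mem (by simpa using hMp ⟨z, hzS⟩) _
  let φ : ↥(S : Subgroup G) →* Multiplicative (ZMod 2) :=
    { toFun := fun x => if x ∈ M then 1 else Multiplicative.ofAdd 1
      map_one' := if_pos (one_mem _)
      map_mul' := fun a b => by
        have h := Subgroup.mul_mem_iff_of_index_two hidx (a := a) (b := b)
        have h2 : (1 : Multiplicative (ZMod 2)) = Multiplicative.ofAdd 1 * Multiplicative.ofAdd 1 := by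
          rw [← ofAdd_add, CharTwo.add_self_eq_zero, ofAdd_zero]
        by_cases ha : a ∈ M <;> by_cases hb : b ∈ M <;> simp_all }
  -- the value on a fixed coset
  let F : Set (G ⧸ (S : Subgroup G)) := {q | z • q = q}
  have hmem : ∀ g : G, (g : G ⧸ (S : Subgroup G)) ∈ F ↔ g⁻¹ * z * g ∈ (S : Subgroup G) := fun g => by
    change ((z * g : G) : G ⧸ (S : Subgroup G)) = _ ↔ _
    rw [eq_comm, QuotientGroup.eq, ← mul_assoc]
  have hval : ∀ g h : G, (g : G ⧸ (S : Subgroup G)) = h → ∀ hg : g⁻¹ * z * g ∈ (S : Subgroup G),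
      ∀ hh : h⁻¹ * z * h ∈ (S : Subgroup G), φ ⟨_, hg⟩ = φ ⟨_, hh⟩ := by
    intro g h e hg hh
    obtain ⟨s, hs, rfl⟩ : ∃ s ∈ (S : Subgroup G), h = g * s :=
      ⟨g⁻¹ * h, QuotientGroup.eq.mp e, by group⟩
    rw [show (⟨(g * s)⁻¹ * z * (g * s), hh⟩ : ↥(S : Subgroup G)) =
      ⟨s, hs⟩⁻¹ * ⟨g⁻¹ * z * g, hg⟩ * ⟨s, hs⟩ from Subtype.ext (by
        simp only [Subgroup.coe_mul, InvMemClass.coe_inv]; group), map_mul, map_mul, map_inv,
      mul_comm (φ ⟨s, hs⟩)⁻¹, inv_mul_cancel_right]
  let F1 : Set (G ⧸ (S : Subgroup G)) :=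
    {q | ∃ hq : q.out⁻¹ * z * q.out ∈ (S : Subgroup G), (⟨_, hq⟩ : ↥(S : Subgroup G)) ∉ M}
  have hF1 : ∀ g : G, (g : G ⧸ (S : Subgroup G)) ∈ F1 ↔
      ∃ hg : g⁻¹ * z * g ∈ (S : Subgroup G), φ ⟨_, hg⟩ = Multiplicative.ofAdd 1 := by
    intro g
    have hφ : ∀ x : ↥(S : Subgroup G), φ x = Multiplicative.ofAdd 1 ↔ x ∉ M := fun x => by
      change (if x ∈ M then (1 : Multiplicative (ZMod 2)) else Multiplicative.ofAdd 1) = _ ↔ _
      have h1 : (1 : Multiplicative (ZMod 2)) ≠ Multiplicative.ofAdd 1 :=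
        fun e => zero_ne_one (congrArg Multiplicative.toAdd e)
      split_ifs with h <;> simp [h, h1]
    have he := QuotientGroup.out_eq' (g : G ⧸ (S : Subgroup G))
    constructor
    · rintro ⟨hq, hqM⟩
      have hg : g⁻¹ * z * g ∈ (S : Subgroup G) := (hmem g).mp (he ▸ (hmem _).mpr hq)
      exact ⟨hg, (hval _ _ he.symm hg hq).trans ((hφ _).mpr hqM)⟩
    · rintro ⟨hg, hgv⟩
      have hq : (g : G ⧸ (S : Subgroup G)).out⁻¹ * z * (g : G ⧸ (S : Subgroup G)).out ∈
          (S : Subgroup G) := (hmem _).mp (by rw [he]; exact (hmem g).mpr hg)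
      exact ⟨hq, (hφ _).mp ((hval _ _ he hq hg).trans hgv)⟩
  -- the number of fixed cosets with value outside `M` is odd
  have hodd : ¬ 2 ∣ Nat.card F1 := by
    have hinv : ∀ s : ↥(S : Subgroup G), ∀ q ∈ F1, s • q ∈ F1 := by
      intro s q hq
      induction q using QuotientGroup.induction_on with
      | _ g =>
        change (((s : G) * g : G) : G ⧸ (S : Subgroup G)) ∈ F1
        obtain ⟨hg, hv⟩ := (hF1 g).mp hq
        have e : ((s : G) * g)⁻¹ * z * ((s : G) * g) = g⁻¹ * z * g := by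
          have hc := Subgroup.mem_centralizer_iff.mp hzC s s.2
          calc ((s : G) * g)⁻¹ * z * ((s : G) * g) = g⁻¹ * (s : G)⁻¹ * (z * s) * g := by group
            _ = g⁻¹ * z * g := by rw [← hc]; group
        refine (hF1 _).mpr ⟨e ▸ hg, ?_⟩
        rw [← hv]
        exact congrArg φ (Subtype.ext e)
    let act : SubMulAction ↥(S : Subgroup G) (G ⧸ (S : Subgroup G)) := ⟨F1, fun {s q} h => hinv s q h⟩
    have hmod := S.isPGroup'.card_modEq_card_fixedPoints act
    have hfp : Nat.card (MulAction.fixedPoints ↥(S : Subgroup G) act) =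
        ((S : Subgroup G).subgroupOf (Subgroup.normalizer ((S : Subgroup G) : Set G))).index := by
      rw [Subgroup.index_eq_card]
      have hN : ∀ n : Subgroup.normalizer ((S : Subgroup G) : Set G),
          ((n : G) : G ⧸ (S : Subgroup G)) ∈ F1 := fun n => by
        have e : (n : G)⁻¹ * z * (n : G) = z := by simpa using hzN _ (inv_mem n.2)
        refine (hF1 _).mpr ⟨e.symm ▸ hzS, ?_⟩
        rw [show (⟨(n : G)⁻¹ * z * (n : G), e.symm ▸ hzS⟩ : ↥(S : Subgroup G)) = ⟨z, hzS⟩ from
          Subtype.ext e]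
        exact if_neg hzM
      refine (Nat.card_congr (Equiv.ofBijective (Quotient.lift (fun n => (⟨⟨_, hN n⟩, ?_⟩ :
        MulAction.fixedPoints ↥(S : Subgroup G) act)) ?_) ⟨?_, ?_⟩)).symm
      · intro s
        refine Subtype.ext ?_
        change (((s : G) * (n : G) : G) : G ⧸ (S : Subgroup G)) = ((n : G) : G ⧸ (S : Subgroup G))
        rw [eq_comm, QuotientGroup.eq, ← mul_assoc]
        simpa using (Subgroup.mem_normalizer_iff.mp (inv_mem n.2) (s : G)).mp s.2
      · intro a b hab
        refine Subtype.ext (Subtype.ext (QuotientGroup.eq.mpr ?_))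
        exact Subgroup.mem_subgroupOf.mp (QuotientGroup.leftRel_apply.mp hab)
      · intro a b
        induction a using Quotient.inductionOn with
        | h a => induction b using Quotient.inductionOn with
          | h b =>
            intro h
            refine Quotient.sound (QuotientGroup.leftRel_apply.mpr (Subgroup.mem_subgroupOf.mpr ?_))
            exact QuotientGroup.eq.mp (congrArg (fun x => ((x.1 : act) : G ⧸ (S : Subgroup G))) h)
      · rintro ⟨⟨q, hq⟩, hfx⟩
        induction q using QuotientGroup.induction_on with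
        | _ g =>
          refine ⟨Quotient.mk'' ⟨g, ?_⟩, rfl⟩
          have key : ∀ s ∈ (S : Subgroup G), g⁻¹ * s * g ∈ (S : Subgroup G) := fun s hs => by
            have h := congrArg Subtype.val (hfx ⟨s, hs⟩)
            change ((s * g : G) : G ⧸ (S : Subgroup G)) = _ at h
            rw [eq_comm, QuotientGroup.eq, ← mul_assoc] at h
            exact h
          have hmap : (S : Subgroup G).map (MulAut.conj g⁻¹).toMonoidHom = (S : Subgroup G) := by
            refine Subgroup.eq_of_le_of_card_ge ?_ (le_of_eq (Nat.card_congr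
              ((S : Subgroup G).equivMapOfInjective _ (MulAut.conj g⁻¹).injective).toEquiv))
            rintro _ ⟨s, hs, rfl⟩
            simpa using key s hs
          refine inv_mem_iff.mp (Subgroup.mem_normalizer_iff.mpr fun s =>
            ⟨fun hs => by simpa using key s hs, fun hs => ?_⟩)
          rw [← hmap] at hs
          obtain ⟨t, ht, e⟩ := hs
          have : t = s := by simpa using e
          exact this ▸ ht
    intro hd
    have hcard : Nat.card act = Nat.card F1 := rfl
    rw [hfp, hcard] at hmod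
    refine S.not_dvd_index (((Nat.modEq_zero_iff_dvd.mp (hmod.symm.trans (Nat.modEq_zero_iff_dvd.mpr hd))).trans ?_))
    exact ⟨_, (Subgroup.relIndex_mul_index Subgroup.le_normalizer).symm⟩
  -- the transfer does not vanish at `z`
  haveI : Fintype F1 := Fintype.ofFinite _
  let V := MonoidHom.transfer φ
  haveI : Fintype (Quotient (MulAction.orbitRel (Subgroup.zpowers z) (G ⧸ (S : Subgroup G)))) :=
    Fintype.ofFinite _
  have hz1 : z ^ 2 = 1 := hz2
  have hVz : V z = (Multiplicative.ofAdd 1) ^ Nat.card F1 := by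
    rw [MonoidHom.transfer_eq_prod_quotient_orbitRel_zpowers_quot]
    set v : Multiplicative (ZMod 2) := Multiplicative.ofAdd 1 with hv
    have hper : ∀ q : G ⧸ (S : Subgroup G), Function.minimalPeriod (z • ·) q = if q ∈ F then 1 else 2 := by
      intro q
      split_ifs with h
      · exact Function.minimalPeriod_eq_one_iff_isFixedPt.mpr h
      · refine Function.minimalPeriod_eq_prime ?_ h
        change z • z • q = q
        rw [smul_smul, ← sq, hz1, one_smul]
    let P1 : Quotient (MulAction.orbitRel (Subgroup.zpowers z) (G ⧸ (S : Subgroup G))) → Prop :=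
      fun o => o.out ∈ F1
    have hF1F : ∀ q ∈ F1, q ∈ F := fun q ⟨hq, _⟩ => by
      have := (hmem q.out).mpr hq
      rwa [QuotientGroup.out_eq'] at this
    rw [Finset.prod_congr rfl (g := fun o => if P1 o then v else 1) (fun o _ => ?_)]
    · rw [Finset.prod_ite, Finset.prod_const, Finset.prod_const_one, mul_one]
      congr 1
      rw [Nat.card_eq_fintype_card]
      refine Finset.card_bij (fun o ho => (⟨o.out, (Finset.mem_filter.mp ho).2⟩ : F1))
        (fun _ _ => Finset.mem_univ _) ?_ ?_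
      · intro a _ b _ h
        rw [← Quotient.out_eq a, ← Quotient.out_eq b]
        exact congrArg _ (congrArg Subtype.val h)
      · intro q _
        have hq := hF1F _ q.2
        have hout : (Quotient.mk'' q.1 : Quotient (MulAction.orbitRel (Subgroup.zpowers z)
            (G ⧸ (S : Subgroup G)))).out = q.1 := by
          obtain ⟨⟨w, hw⟩, e⟩ := MulAction.orbitRel_apply.mp (Quotient.exact
            (Quotient.out_eq (Quotient.mk'' q.1 : Quotient (MulAction.orbitRel (Subgroup.zpowers z)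
            (G ⧸ (S : Subgroup G))))))
          rw [← e]
          obtain ⟨i, rfl⟩ := Subgroup.mem_zpowers_iff.mp hw
          have hstab : z ∈ MulAction.stabilizer G (q.1 : G ⧸ (S : Subgroup G)) := hq
          exact zpow_mem hstab i
        exact ⟨_, Finset.mem_filter.mpr ⟨Finset.mem_univ _, by simp only [P1, hout]; exact q.2⟩,
          Subtype.ext hout⟩
    · by_cases hoF : o.out ∈ F
      · have hs : o.out.out⁻¹ * z * o.out.out ∈ (S : Subgroup G) :=
          (hmem _).mp (by rw [QuotientGroup.out_eq']; exact hoF)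
        have e : φ ⟨o.out.out⁻¹ * z ^ Function.minimalPeriod (z • ·) o.out * o.out.out,
            QuotientGroup.out_conj_pow_minimalPeriod_mem _ z o.out⟩ = φ ⟨_, hs⟩ :=
          congrArg φ (Subtype.ext (by simp only [hper, if_pos hoF, pow_one]))
        rw [e]
        change (if (⟨_, hs⟩ : ↥(S : Subgroup G)) ∈ M then (1 : Multiplicative (ZMod 2)) else v) = _
        by_cases hm : (⟨_, hs⟩ : ↥(S : Subgroup G)) ∈ M
        · rw [if_pos hm, if_neg]; exact fun ⟨_, h⟩ => h hm
        · rw [if_neg hm, if_pos]; exact ⟨hs, hm⟩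
      · rw [if_neg (fun h => hoF (hF1F _ h))]
        refine (congrArg φ (Subtype.ext ?_)).trans φ.map_one
        simp only [hper, if_neg hoF, hz1, mul_one, inv_mul_cancel, Subgroup.coe_one]
  have hker : V.ker ≠ ⊤ := fun h => by
    have h1 : V z = 1 := MonoidHom.mem_ker.mp (h ▸ Subgroup.mem_top z)
    rw [hVz, ← ofAdd_nsmul, ofAdd_eq_one, nsmul_one, ZMod.natCast_eq_zero_iff] at h1
    exact hodd h1
  refine hker (top_le_iff.mp (hres ▸ pResidual_le_of_index inferInstance ?_))
  have hd : V.ker.index ∣ 2 ^ 1 := by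
    rw [Subgroup.index_ker]
    refine (Subgroup.card_subgroup_dvd_card _).trans ?_
    simp [Nat.card_eq_fintype_card]
  obtain ⟨i, -, hi⟩ := (Nat.dvd_prime_pow Nat.prime_two).mp hd
  exact ⟨i, hi⟩

end Cfsg.Agent.S2872
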