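import Cfsg.Statements.S2910
import Cfsg.Agent.S1947

set_option autoImplicit false
open Cfsg
open scoped commutatorElement

namespace Cfsg.Agent.S2910

/-- Let p be an odd prime dividing the order of the finite group G and P a Sylow p-subgroup of G. If Ω₁(P) (generated by the elements of order dividing p) is contained in the centre of G, then G has a normal p-complement. In particular, if G is quasisimple then Ω₁(P) is not central in G. -/
theorem result {G : Type*} [Group G] [Finite G] {p : ℕ} [Fact p.Prime] (hp : p ≠ 2) (hdiv : p ∣ Nat.card G) (P : Sylow p G) (hZ : Cfsg.omegaOne p (P : Subgroup G) ≤ Subgroup.center G) : Cfsg.HasNormalPComplement p G ∧ ¬ Cfsg.IsQuasisimple G := by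
  have hp' : p.Prime := Fact.out
  have hZ' : ∀ a : G, a ^ p = 1 → a ∈ Subgroup.center G := by
    intro a ha
    have hA : IsPGroup p ↥(Subgroup.zpowers a) := by
      rintro ⟨x, i, rfl⟩
      exact ⟨1, Subtype.ext (by
        show (a ^ i) ^ p ^ 1 = 1
        rw [pow_one, ← zpow_natCast, ← zpow_mul, mul_comm, zpow_mul, zpow_natCast, ha, one_zpow])⟩
    obtain ⟨Q, hQ⟩ := hA.exists_le_sylow
    obtain ⟨g, hg⟩ := MulAction.exists_smul_eq G Q P
    have h1 : g * a * g⁻¹ ∈ (P : Subgroup G) := by
      rw [← hg, Sylow.coe_subgroup_smul]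
      exact ⟨a, hQ (Subgroup.mem_zpowers a), rfl⟩
    have h2 : g * a * g⁻¹ ∈ Subgroup.center G := hZ (Subgroup.subset_closure ⟨h1, by rw [conj_pow, ha, mul_one, mul_inv_cancel]⟩)
    have h3 := Subgroup.Normal.conj_mem inferInstance _ h2 g⁻¹
    rwa [show g⁻¹ * (g * a * g⁻¹) * g⁻¹⁻¹ = a by group] at h3
  have hnpc : Cfsg.HasNormalPComplement p G := S1947.result 1 fun a ha => by
    rw [Subgroup.upperCentralSeries_one]
    rcases ha with ha | ⟨h2, -⟩
    · exact hZ' a ha
    · exact absurd h2 hp
  refine ⟨hnpc, fun hq => ?_⟩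
  obtain ⟨P', N, hN, hc⟩ := hnpc
  haveI := hN
  have hidx : N.index = Nat.card ↥(P' : Subgroup G) := hc.symm.index_eq_card
  have hpQ : IsPGroup p (G ⧸ N) := by
    obtain ⟨k, hk⟩ := P'.isPGroup'.exists_card_eq
    exact IsPGroup.of_card (n := k) (by rw [← Subgroup.index_eq_card, hidx, hk])
  haveI := hpQ.isNilpotent
  have hperf : Group.IsPerfect G := hq.1
  have hperfQ : Group.IsPerfect (G ⧸ N) := Group.isPerfect_def.mpr (by
    rw [eq_top_iff, ← Subgroup.map_top_of_surjective _ (QuotientGroup.mk'_surjective N),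
      ← Group.isPerfect_def.mp hperf, commutator_def, Subgroup.map_commutator,
      Subgroup.map_top_of_surjective _ (QuotientGroup.mk'_surjective N), ← commutator_def])
  have htop : N = ⊤ := by
    by_contra hne
    haveI : Nontrivial (G ⧸ N) := not_subsingleton_iff_nontrivial.mp fun hs =>
      hne (QuotientGroup.subgroup_eq_top_of_subsingleton _ hs)
    haveI := hperfQ
    exact Group.IsPerfect.not_isSolvable (G ⧸ N) inferInstance
  rw [htop, Subgroup.index_top] at hidx
  have h2 := P'.dvd_card_of_dvd_card hdiv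
  rw [← hidx] at h2
  exact hp'.not_dvd_one h2

end Cfsg.Agent.S2910
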