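import Cfsg.Statements.S2968
import Mathlib

set_option autoImplicit false
open Cfsg

namespace Cfsg.Agent.S2968

/-- Let G be a finite group, p a prime, P a Sylow p-subgroup of G and x ∈ P an element of p-power order which is isolated in G (the only conjugate of x commuting with x is x itself). Then x lies in the centre of P, and the subgroup generated by x is both strongly closed and weakly closed in P with respect to G. -/
theorem result {G : Type*} [Group G] [Finite G] {p : ℕ} [Fact p.Prime] (P : Sylow p G) (x : G) (hxP : x ∈ (P : Subgroup G)) (hx : ∃ k : ℕ, orderOf x = p ^ k) (hiso : Cfsg.IsIsolated x) : x ∈ (P : Subgroup G) ⊓ Subgroup.centralizer ((P : Subgroup G) : Set G) ∧ Cfsg.IsStronglyClosed (Subgroup.zpowers x) (P : Subgroup G) ∧ Cfsg.IsWeaklyClosed (Subgroup.zpowers x) (P : Subgroup G) := by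
  obtain ⟨k, hk⟩ := hx
  -- an isolated element is central in every Sylow subgroup containing it
  have hcentral : ∀ Q : Sylow p G, x ∈ (Q : Subgroup G) → ∀ u ∈ (Q : Subgroup G), u * x = x * u := by
    intro Q hxQ
    haveI : Group.IsNilpotent (Q : Subgroup G) := Q.2.isNilpotent
    set C := Subgroup.centralizer ({⟨x, hxQ⟩} : Set (Q : Subgroup G))
    by_contra hne
    push Not at hne
    obtain ⟨u, hu, hux⟩ := hne
    have hlt : C < ⊤ := by
      refine lt_top_iff_ne_top.2 fun htop => hux ?_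
      have := Subgroup.mem_centralizer_singleton_iff.1 (htop ▸ Subgroup.mem_top (⟨u, hu⟩ : (Q : Subgroup G)))
      exact congrArg Subtype.val this
    obtain ⟨v, hv, hvC⟩ := SetLike.exists_of_lt (Group.normalizerCondition_of_isNilpotent C hlt)
    have hxC : (⟨x, hxQ⟩ : (Q : Subgroup G)) ∈ C := Subgroup.mem_centralizer_singleton_iff.2 rfl
    have h1 := (Subgroup.mem_normalizer_iff.1 hv _).1 hxC
    rw [Subgroup.mem_centralizer_singleton_iff] at h1
    have h2 : Commute x ((v : G) * x * (v : G)⁻¹) := (congrArg Subtype.val h1).symm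
    have h3 := hiso _ h2
    apply hvC
    rw [Subgroup.mem_centralizer_singleton_iff]
    apply Subtype.ext
    show (v : G) * x = x * v
    calc (v : G) * x = ((v : G) * x * (v : G)⁻¹) * v := by group
      _ = x * v := by rw [h3]
  have hfix : ∀ (i : ℤ) (g : G), g * x ^ i * g⁻¹ ∈ (P : Subgroup G) → g * x ^ i * g⁻¹ = x ^ i := by
    intro i g hg
    set y := g * x ^ i * g⁻¹ with hy
    set D := Subgroup.centralizer ({y} : Set G)
    have hxD : x ∈ D := Subgroup.mem_centralizer_singleton_iff.2 (hcentral P hxP y hg).symm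
    have hgD : g * x * g⁻¹ ∈ D := Subgroup.mem_centralizer_singleton_iff.2 (by
      rw [hy, ← conj_zpow]
      exact ((Commute.refl (g * x * g⁻¹)).zpow_right i).eq)
    have hp1 : IsPGroup p (Subgroup.zpowers (⟨x, hxD⟩ : D)) :=
      IsPGroup.of_card (by rw [Nat.card_zpowers, ← Subgroup.orderOf_coe]; exact hk)
    have hp2 : IsPGroup p (Subgroup.zpowers (⟨_, hgD⟩ : D)) :=
      IsPGroup.of_card (by
        rw [Nat.card_zpowers, ← Subgroup.orderOf_coe]
        refine Eq.trans ?_ hk
        exact MulEquiv.orderOf_eq (MulAut.conj g) x)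
    obtain ⟨Q₁, hQ₁⟩ := hp1.exists_le_sylow
    obtain ⟨Q₂, hQ₂⟩ := hp2.exists_le_sylow
    obtain ⟨d, hd⟩ := MulAction.exists_smul_eq D Q₂ Q₁
    have hdmem : d * ⟨_, hgD⟩ * d⁻¹ ∈ (Q₁ : Subgroup D) := by
      rw [← hd, Sylow.coe_subgroup_smul]
      exact ⟨_, hQ₂ (Subgroup.mem_zpowers _), rfl⟩
    obtain ⟨Q, hQ⟩ := (Q₁.2.map D.subtype).exists_le_sylow
    have hxQ : x ∈ (Q : Subgroup G) :=
      hQ (Subgroup.mem_map.2 ⟨_, hQ₁ (Subgroup.mem_zpowers _), rfl⟩)
    have hzQ : (d : G) * (g * x * g⁻¹) * (d : G)⁻¹ ∈ (Q : Subgroup G) :=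
      hQ (Subgroup.mem_map.2 ⟨_, hdmem, rfl⟩)
    have e : (d : G) * (g * x * g⁻¹) * (d : G)⁻¹ = (d * g) * x * ((d : G) * g)⁻¹ := by group
    have h4 := hiso ((d : G) * g) (by rw [← e]; exact (hcentral Q hxQ _ hzQ).symm)
    have h5 : (d : G) * y = y * d := Subgroup.mem_centralizer_singleton_iff.1 d.2
    calc y = (d : G) * y * (d : G)⁻¹ := by rw [h5]; group
      _ = ((d : G) * g * x * ((d : G) * g)⁻¹) ^ i := by rw [conj_zpow, hy]; group
      _ = x ^ i := by rw [h4]
  refine ⟨⟨hxP, Subgroup.mem_centralizer_iff.2 fun u hu => hcentral P hxP u hu⟩,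
    ⟨Subgroup.zpowers_le.2 hxP, ?_⟩, ⟨Subgroup.zpowers_le.2 hxP, ?_⟩⟩
  · intro z hz g hg
    obtain ⟨i, rfl⟩ := Subgroup.mem_zpowers_iff.1 hz
    rw [hfix i g hg]
    exact Subgroup.zpow_mem_zpowers x i
  · intro g hg
    have : g * x * g⁻¹ = x := by
      have := hfix 1 g (by
        simpa using hg (Subgroup.mem_map_of_mem _ (Subgroup.mem_zpowers x)))
      simpa using this
    rw [MonoidHom.map_zpowers]
    congr 1

end Cfsg.Agent.S2968
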