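import Cfsg.Statements.S3554
import Cfsg.Agent.Perm5.Basic
import Mathlib.GroupTheory.Perm.Cycle.Type

set_option autoImplicit false
open Cfsg

namespace Cfsg.Agent.S3554

/-- Let G act faithfully and transitively on a finite set and suppose G has a non-trivial cyclic normal subgroup. Then some element of G of prime order fixes no point. -/
theorem result {G Ω : Type*} [Group G] [Finite G] [MulAction G Ω] [FaithfulSMul G Ω] [Finite Ω]
    (htrans : MulAction.IsPretransitive G Ω) (C : Subgroup G) (hC : C.Normal) (hC1 : C ≠ ⊥) (hcyc : IsCyclic ↥C) :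
    ∃ g : G, (orderOf g).Prime ∧ ∀ ω : Ω, g • ω ≠ ω := by
  haveI := htrans
  haveI := hC
  haveI : Nontrivial C := (Subgroup.nontrivial_iff_ne_bot C).2 hC1
  obtain ⟨p, hp, hdvd⟩ := Nat.exists_prime_and_dvd (n := Nat.card C) Finite.one_lt_card.ne'
  haveI := Fact.mk hp
  obtain ⟨x, hx⟩ := exists_prime_orderOf_dvd_card' p hdvd
  refine ⟨x, by rw [Subgroup.orderOf_coe, hx]; exact hp, fun ω hω => ?_⟩
  obtain ⟨c, hc⟩ := hcyc.exists_generator
  let M : Subgroup G := (Subgroup.zpowers x).map C.subtype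
  have hPchar : (Subgroup.zpowers x).Characteristic := by
    rw [Subgroup.characteristic_iff_map_le]
    intro φ
    obtain ⟨i, hi⟩ := Subgroup.mem_zpowers_iff.1 (hc x)
    obtain ⟨j, hj⟩ := Subgroup.mem_zpowers_iff.1 (hc (φ c))
    rintro y ⟨z, ⟨k, rfl⟩, rfl⟩
    refine ⟨j * k, ?_⟩
    show x ^ (j * k) = φ (x ^ k)
    rw [map_zpow, ← hi, map_zpow, ← hj, ← zpow_mul, ← zpow_mul, ← zpow_mul]
    congr 1
    ring
  have hMn : M.Normal := inferInstanceAs ((Subgroup.zpowers x).map C.subtype).Normal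
  have hMle : M ≤ MulAction.stabilizer G ω := by
    rintro y ⟨z, ⟨k, rfl⟩, rfl⟩
    show C.subtype (x ^ k) ∈ _
    rw [map_zpow]
    exact Subgroup.zpow_mem _ hω k
  have hb := Cfsg.Agent.Perm5.normal_le_stabilizer_eq_bot (α := Ω) hMn hMle
  have : (x : G) ∈ M := ⟨x, Subgroup.mem_zpowers x, rfl⟩
  rw [hb, Subgroup.mem_bot, ← orderOf_eq_one_iff, Subgroup.orderOf_coe, hx] at this
  exact hp.ne_one this

end Cfsg.Agent.S3554
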