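import Cfsg.Statements.S3634
import Mathlib

set_option autoImplicit false
open Cfsg

namespace Cfsg.Agent.S3634
open scoped commutatorElement

theorem exists_order_mul {G : Type*} [Group G] [Finite G] {p q : ℕ} (hp : p.Prime) (hq : q.Prime) (hpq : p ≠ q)
    {a b : G} (hab : Commute a b) (ha : p ∣ orderOf a) (hb : q ∣ orderOf b) : ∃ x : G, orderOf x = p * q := by
  refine ⟨a ^ (orderOf a / p) * b ^ (orderOf b / q), ?_⟩
  have e1 := orderOf_pow_orderOf_div (orderOf_pos a).ne' ha
  have e2 := orderOf_pow_orderOf_div (orderOf_pos b).ne' hb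
  rw [(hab.pow_pow _ _).orderOf_mul_eq_mul_orderOf_of_coprime (by
    rw [e1, e2]; exact (Nat.coprime_primes hp hq).mpr hpq), e1, e2]

theorem dvd_orderOf {G : Type*} [Group G] {p : ℕ} {P : Subgroup G} (hP : IsPGroup p P) (hp : p.Prime) {a : G}
    (ha : a ∈ P) (ha1 : a ≠ 1) : p ∣ orderOf a := by
  haveI := Fact.mk hp
  obtain ⟨k, hk⟩ := IsPGroup.iff_orderOf.mp hP ⟨a, ha⟩
  rw [Subgroup.orderOf_mk] at hk
  rw [hk]
  refine dvd_pow_self p ?_
  rintro rfl
  exact ha1 (orderOf_eq_one_iff.mp (by simpa using hk))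

theorem no_frobenius_fpf {G : Type*} [Group G] [Finite G] {p q r : ℕ} (hp : p.Prime) (hq : q.Prime) (hr : r.Prime)
    (hpq : p ≠ q) (V Q : Subgroup G) (hV : IsPGroup p V) (hQ : IsPGroup q Q) (hV1 : V ≠ ⊥) (hQ1 : Q ≠ ⊥)
    (hVc : ∀ a ∈ V, ∀ b ∈ V, a * b = b * a) (s : G) (hs : orderOf s = r)
    (hQV : ∀ u ∈ Q, ∀ v ∈ V, u * v * u⁻¹ ∈ V) (hsV : ∀ v ∈ V, s * v * s⁻¹ ∈ V) (hsQ : ∀ u ∈ Q, s * u * s⁻¹ ∈ Q)
    (h1 : ∀ v ∈ V, v ≠ 1 → ∀ u ∈ Q, u ≠ 1 → ¬ Commute v u)
    (h2 : ∀ v ∈ V, v ≠ 1 → ¬ Commute v s)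
    (h3 : ∀ u ∈ Q, u ≠ 1 → ¬ Commute u s) : False := by
  classical
  haveI := Fact.mk hp
  haveI := Fintype.ofFinite Q
  obtain ⟨v, hv⟩ := Subgroup.ne_bot_iff_exists_ne_one.mp hV1
  obtain ⟨u₀, hu₀⟩ := Subgroup.ne_bot_iff_exists_ne_one.mp hQ1
  letI : CommGroup V :=
    { (inferInstance : Group V) with mul_comm := fun a b => Subtype.ext (hVc a a.2 b b.2) }
  have hsVi : ∀ i : ℕ, ∀ v ∈ V, s ^ i * v * (s ^ i)⁻¹ ∈ V := by
    intro i
    induction i with
    | zero => intro v hv; simpa using hv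
    | succ i ih => intro v hv; simpa [pow_succ, mul_assoc] using ih _ (hsV v hv)
  have hsQi : ∀ i : ℕ, ∀ u ∈ Q, s ^ i * u * (s ^ i)⁻¹ ∈ Q := by
    intro i
    induction i with
    | zero => intro v hv; simpa using hv
    | succ i ih => intro v hv; simpa [pow_succ, mul_assoc] using ih _ (hsQ v hv)
  let cu : Q → V →* V := fun u =>
    { toFun := fun w => ⟨u * w * (u : G)⁻¹, hQV u u.2 w w.2⟩
      map_one' := Subtype.ext (by simp)
      map_mul' := fun a b => Subtype.ext (by simp [mul_assoc]) }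
  let cs : ℕ → V →* V := fun i =>
    { toFun := fun w => ⟨s ^ i * w * (s ^ i)⁻¹, hsVi i w w.2⟩
      map_one' := Subtype.ext (by simp)
      map_mul' := fun a b => Subtype.ext (by simp [mul_assoc]) }
  have hfixs : ∀ w : V, cs 1 w = w → w = 1 := by
    intro w hw
    by_contra hne
    refine h2 w w.2 (fun h => hne (Subtype.ext h)) ?_
    have : s * (w : G) * s⁻¹ = w := by simpa [cs] using congrArg Subtype.val hw
    exact (mul_inv_eq_iff_eq_mul.mp this).symm
  have hfixu : ∀ w : V, cu u₀ w = w → w = 1 := by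
    intro w hw
    by_contra hne
    refine h1 w w.2 (fun h => hne (Subtype.ext h)) u₀ u₀.2 (fun h => hu₀ (Subtype.ext h)) ?_
    have : (u₀ : G) * (w : G) * (u₀ : G)⁻¹ = w := by simpa [cu] using congrArg Subtype.val hw
    exact (mul_inv_eq_iff_eq_mul.mp this).symm
  have hS : ∀ w : V, ∏ i ∈ Finset.range r, cs i w = 1 := by
    intro w
    refine hfixs _ ?_
    rw [map_prod]
    have hstep : ∀ i, cs 1 (cs i w) = cs (i + 1) w := fun i => Subtype.ext (by
      simp [cs, pow_succ', mul_assoc])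
    simp only [hstep]
    have h1 := Finset.prod_range_succ' (fun i => cs i w) r
    rw [Finset.prod_range_succ] at h1
    have e : cs r w = cs 0 w := Subtype.ext (by simp [cs, ← hs, pow_orderOf_eq_one])
    rw [e] at h1
    exact (mul_right_cancel h1).symm
  have hQs : ∀ w : V, ∏ u : Q, cu u w = 1 := by
    intro w
    refine hfixu _ ?_
    rw [map_prod]
    exact Fintype.prod_equiv (Equiv.mulLeft u₀) _ _ fun u => Subtype.ext (by simp [cu, mul_assoc])
  have hT : ∏ u : Q, ∏ i ∈ Finset.range r, cu u (cs i (cu u⁻¹ v)) = 1 := by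
    refine Finset.prod_eq_one fun u _ => ?_
    rw [← map_prod, hS, map_one]
  rw [Finset.prod_comm, Finset.prod_eq_single 0] at hT
  · have e : ∀ u : Q, cu u (cs 0 (cu u⁻¹ v)) = v := fun u => Subtype.ext (by simp [cu, cs, mul_assoc])
    rw [Finset.prod_congr rfl fun u _ => e u, Finset.prod_const, Finset.card_univ] at hT
    have hd : orderOf v ∣ Fintype.card Q := orderOf_dvd_of_pow_eq_one hT
    have hvd : p ∣ orderOf v := by
      rw [← Subgroup.orderOf_coe]
      exact dvd_orderOf hV hp v.2 (fun h => hv (Subtype.ext h))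
    haveI := Fact.mk hq
    obtain ⟨k, hk⟩ := hQ.exists_card_eq
    rw [← Nat.card_eq_fintype_card, hk] at hd
    exact hpq ((Nat.prime_dvd_prime_iff_eq hp hq).mp (hp.dvd_of_dvd_pow (hvd.trans hd)))
  · intro i hi hi0
    let f : Q → Q := fun u => ⟨u * (s ^ i * (u : G)⁻¹ * (s ^ i)⁻¹), Q.mul_mem u.2 (hsQi i _ (Q.inv_mem u.2))⟩
    have hf : Function.Injective f := by
      intro a b hab
      have hab' := congrArg Subtype.val hab
      simp only [f] at hab'
      have hc : Commute ((b : G)⁻¹ * a) (s ^ i) := by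
        show _ = _
        have h' := congrArg (fun z => (b : G)⁻¹ * z * (s ^ i * (a : G))) hab'
        simpa [mul_assoc] using h'
      by_contra hne
      obtain ⟨m, hm⟩ := exists_pow_eq_self_of_coprime (x := s) (n := i) (by
        rw [hs]
        exact (hr.coprime_iff_not_dvd.mpr fun hd =>
          hi0 (Nat.eq_zero_of_dvd_of_lt hd (Finset.mem_range.mp hi))).symm)
      refine h3 ((b : G)⁻¹ * a) (Q.mul_mem (Q.inv_mem b.2) a.2) ?_ ?_
      · intro h
        exact hne (Subtype.ext (inv_mul_eq_one.mp h).symm)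
      · have := hc.pow_right m
        rwa [hm] at this
    have hfb : Function.Bijective f := Finite.injective_iff_bijective.mp hf
    rw [← hQs (cs i v)]
    exact Fintype.prod_bijective f hfb _ _ fun u => Subtype.ext (by simp [cu, cs, f, mul_assoc])
  · intro h
    exact absurd (Finset.mem_range.mpr hr.pos) h



/-- Let G be a finite group with normal subgroups K ≤ M, and let p, q, r be distinct primes with p dividing the order of K, q dividing the order of M/K and r dividing the order of G/M. Then p, q, r are not pairwise non-adjacent in the prime graph of G: G has an element of order pq, pr or qr. -/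
theorem result {G : Type*} [Group G] [Finite G] (K M : Subgroup G) [K.Normal] [M.Normal] (hKM : K ≤ M)
    (p q r : ℕ) (hp : p.Prime) (hq : q.Prime) (hr : r.Prime) (hpq : p ≠ q) (hpr : p ≠ r) (hqr : q ≠ r)
    (hpK : p ∣ Nat.card ↥K) (hqM : q ∣ Nat.card ↥M / Nat.card ↥K) (hrG : r ∣ Nat.card G / Nat.card ↥M) :
    (∃ x : G, orderOf x = p * q) ∨ (∃ x : G, orderOf x = p * r) ∨ (∃ x : G, orderOf x = q * r) := by
  classical
  by_contra hcon
  push Not at hcon
  obtain ⟨n1, n2, n3⟩ := hcon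
  haveI := Fact.mk hp
  haveI := Fact.mk hq
  haveI := Fact.mk hr
  obtain ⟨P⟩ : Nonempty (Sylow p K) := inferInstance
  set P' : Subgroup G := (P : Subgroup K).map K.subtype with hP'
  set N := Subgroup.normalizer (P' : Set G) with hN
  have hsup : N ⊔ K = ⊤ := Sylow.normalizer_sup_eq_top P
  have hsupM : N ⊔ M = ⊤ := top_le_iff.mp (hsup ▸ sup_le_sup_left hKM N)
  -- the order of `M / K` divides that of `M ⊓ N`
  set L := M ⊓ N with hL
  have hqL : q ∣ Nat.card L := by
    have e1 : Nat.card M / Nat.card K = K.relIndex M := by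
      rw [← (K.subgroupOf M).index_mul_card, Nat.card_congr (Subgroup.subgroupOfEquivOfLe hKM).toEquiv,
        Nat.mul_div_cancel _ Nat.card_pos]
      rfl
    have hLK : L ⊔ K = M := by
      refine le_antisymm (sup_le inf_le_left hKM) fun m hm => ?_
      have : m ∈ N ⊔ K := hsup ▸ Subgroup.mem_top m
      obtain ⟨a, ha, b, hb, rfl⟩ := Subgroup.mem_sup_of_normal_right.mp this
      refine Subgroup.mul_mem_sup ⟨?_, ha⟩ hb
      simpa using M.mul_mem hm (M.inv_mem (hKM hb))
    have e2 : K.relIndex M = K.relIndex L := by rw [← hLK, Subgroup.relIndex_sup_right]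
    rw [e1, e2] at hqM
    exact hqM.trans (Subgroup.relIndex_dvd_card K L)
  obtain ⟨Q⟩ : Nonempty (Sylow q (L.subgroupOf N)) := inferInstance
  haveI : (L.subgroupOf N).Normal := by
    rw [hL, Subgroup.inf_subgroupOf_right]; exact Subgroup.normal_subgroupOf
  set Q' : Subgroup N := (Q : Subgroup (L.subgroupOf N)).map (L.subgroupOf N).subtype with hQ'
  set R := Subgroup.normalizer (Q' : Set N) with hR
  have hsup2 : R ⊔ L.subgroupOf N = ⊤ := Sylow.normalizer_sup_eq_top Q
  set R' : Subgroup G := R.map N.subtype with hR'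
  have hsup3 : R' ⊔ M = ⊤ := by
    refine top_le_iff.mp (hsupM ▸ sup_le (fun x hx => ?_) le_sup_right)
    have : (⟨x, hx⟩ : N) ∈ R ⊔ L.subgroupOf N := hsup2 ▸ Subgroup.mem_top _
    obtain ⟨a, ha, b, hb, hab⟩ := Subgroup.mem_sup_of_normal_right.mp this
    have := congrArg Subtype.val hab
    replace this : (a : G) * (b : G) = x := this
    rw [← this]
    exact Subgroup.mul_mem_sup ⟨a, ha, rfl⟩ hb.1
  have hrR : r ∣ Nat.card R' := by
    have e1 : Nat.card G / Nat.card M = M.index := by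
      rw [← M.index_mul_card, Nat.mul_div_cancel _ Nat.card_pos]
    have e2 : M.index = M.relIndex R' := by
      rw [← Subgroup.relIndex_top_right, ← hsup3, Subgroup.relIndex_sup_right]
    rw [e1, e2] at hrG
    exact hrG.trans (Subgroup.relIndex_dvd_card M R')
  obtain ⟨s, hs⟩ := exists_prime_orderOf_dvd_card' r hrR
  obtain ⟨sN, hsR, hsN⟩ := s.2
  have hP1 : P' ≠ ⊥ := by
    rw [hP', Ne, Subgroup.map_eq_bot_iff_of_injective _ K.subtype_injective]
    exact P.ne_bot_of_dvd_card hpK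
  haveI : Nontrivial P' := (Subgroup.nontrivial_iff_ne_bot P').mpr hP1
  have hPp : IsPGroup p P' := P.2.map _
  set V : Subgroup G := (Subgroup.center P').map P'.subtype with hV
  have hV1 : V ≠ ⊥ := by
    rw [hV, Ne, Subgroup.map_eq_bot_iff_of_injective _ P'.subtype_injective]
    exact (Subgroup.nontrivial_iff_ne_bot _).mp hPp.center_nontrivial
  have hVn : ∀ g ∈ N, ∀ v ∈ V, g * v * g⁻¹ ∈ V := by
    rintro g hg _ ⟨w, hw, rfl⟩
    refine ⟨⟨g * w * g⁻¹, ((Subgroup.mem_normalizer_iff).mp hg _).mp w.2⟩, ?_, rfl⟩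
    rw [SetLike.mem_coe, Subgroup.mem_center_iff]
    intro z
    have hz : g⁻¹ * z * g ∈ P' := by
      have := ((Subgroup.mem_normalizer_iff).mp (N.inv_mem hg) (z : G)).mp z.2
      simpa using this
    have := congrArg Subtype.val (Subgroup.mem_center_iff.mp hw ⟨_, hz⟩)
    apply Subtype.ext
    have h' := congrArg (fun y => g * y * g⁻¹) this
    simpa [mul_assoc] using h'
  set QG : Subgroup G := Q'.map N.subtype with hQG
  have hQGq : IsPGroup q QG := (Q.2.map _).map _
  have hQ1 : QG ≠ ⊥ := by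
    rw [hQG, Ne, Subgroup.map_eq_bot_iff_of_injective _ N.subtype_injective, hQ',
      Subgroup.map_eq_bot_iff_of_injective _ (L.subgroupOf N).subtype_injective]
    refine Q.ne_bot_of_dvd_card ?_
    rwa [Nat.card_congr (Subgroup.subgroupOfEquivOfLe (show L ≤ N from inf_le_right)).toEquiv]
  have hsNG : (sN : G) = s := hsN
  refine no_frobenius_fpf hp hq hr hpq V QG (hPp.to_le (Subgroup.map_subtype_le _)) hQGq hV1 hQ1 ?_ (s : G)
    (by rw [Subgroup.orderOf_coe, hs]) ?_ ?_ ?_ ?_ ?_ ?_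
  · rintro _ ⟨a, ha, rfl⟩ _ ⟨b, hb, rfl⟩
    exact congrArg Subtype.val (Subgroup.mem_center_iff.mp hb a)
  · rintro _ ⟨u, hu, rfl⟩ v hv
    exact hVn _ u.2 v hv
  · intro v hv
    exact hVn _ (hsNG ▸ sN.2) v hv
  · rintro _ ⟨u, hu, rfl⟩
    exact ⟨sN * u * sN⁻¹, (Subgroup.mem_normalizer_iff.mp hsR u).mp hu, by simp [hsNG]⟩
  · intro v hv hv1 u hu hu1 hc
    obtain ⟨x, hx⟩ := exists_order_mul hp hq hpq hc
      (dvd_orderOf hPp hp (Subgroup.map_subtype_le _ hv) hv1) (dvd_orderOf hQGq hq hu hu1)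
    exact n1 x hx
  · intro v hv hv1 hc
    obtain ⟨x, hx⟩ := exists_order_mul hp hr hpr hc
      (dvd_orderOf hPp hp (Subgroup.map_subtype_le _ hv) hv1) (by rw [Subgroup.orderOf_coe, hs])
    exact n2 x hx
  · intro u hu hu1 hc
    obtain ⟨x, hx⟩ := exists_order_mul hq hr hqr hc
      (dvd_orderOf hQGq hq hu hu1) (by rw [Subgroup.orderOf_coe, hs])
    exact n3 x hx

end Cfsg.Agent.S3634
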