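import Cfsg.Statements.S3633
import Mathlib
import Cfsg.Agent.S3634

set_option autoImplicit false
open Cfsg

namespace Cfsg.Agent.S3633

theorem split {G : Type*} [Group G] [Finite G] (K : Subgroup G) [K.Normal] (hK : Group.IsSolvable K)
    {p q : ℕ} (hp : p.Prime) (hq : q.Prime) (hpq : p ≠ q) (hpK : p ∣ Nat.card K) (hqK : q ∣ Nat.card K) :
    ∃ W : Subgroup G, W.Normal ∧ W ≤ K ∧
      ((p ∣ Nat.card W ∧ q ∣ Nat.card K / Nat.card W) ∨ (q ∣ Nat.card W ∧ p ∣ Nat.card K / Nat.card W)) := by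
  classical
  obtain ⟨W, hW, hmin⟩ := (Set.toFinite {W : Subgroup G | W.Normal ∧ W ≤ K ∧
    (p ∣ Nat.card W ∨ q ∣ Nat.card W)}).exists_minimal ⟨K, inferInstance, le_rfl, Or.inl hpK⟩
  obtain ⟨hWn, hWK, hd⟩ := hW
  haveI := hWn
  refine ⟨W, hWn, hWK, ?_⟩
  obtain ⟨c, hc⟩ := Subgroup.card_dvd_of_le hWK
  have hdiv : Nat.card K / Nat.card W = c := by rw [hc, Nat.mul_div_cancel_left _ Nat.card_pos]
  rw [hdiv]
  by_cases hboth : p ∣ Nat.card W ∧ q ∣ Nat.card W
  · exfalso
    haveI := hK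
    haveI : Group.IsSolvable W :=
      solvable_of_solvable_injective (f := Subgroup.inclusion hWK) (Subgroup.inclusion_injective hWK)
    set D := ⁅W, W⁆ with hD
    have hDW : D ≤ W := Subgroup.commutator_le_self W
    have hDne : D ≠ W := by
      intro h
      haveI : Nontrivial W := (Subgroup.nontrivial_iff_ne_bot W).mpr fun hb => by
        rw [hb, Subgroup.card_bot] at hboth
        exact hp.one_lt.ne' (Nat.dvd_one.mp hboth.1)
      refine (Group.IsSolvable.commutator_lt_top_of_nontrivial W).ne ?_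
      apply Subgroup.map_injective W.subtype_injective
      rw [Subgroup.map_subtype_commutator, ← hD, h, ← MonoidHom.range_eq_map, Subgroup.range_subtype]
    have hnD : ¬ (p ∣ Nat.card D ∨ q ∣ Nat.card D) := fun h =>
      hDne (le_antisymm hDW (hmin ⟨inferInstance, hDW.trans hWK, h⟩ hDW))
    let π := QuotientGroup.mk' D
    have hcomm : ∀ a ∈ W, ∀ b ∈ W, Commute (π a) (π b) := by
      intro a ha b hb
      refine commutatorElement_eq_one_iff_commute.mp ?_
      rw [← map_commutatorElement, QuotientGroup.mk'_apply, QuotientGroup.eq_one_iff]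
      exact Subgroup.commutator_mem_commutator ha hb
    set N := p ^ (Nat.card W).factorization p with hN
    let U : Subgroup G :=
      { carrier := {x | x ∈ W ∧ π x ^ N = 1}
        one_mem' := ⟨W.one_mem, by rw [map_one, one_pow]⟩
        mul_mem' := fun {a b} ha hb => ⟨W.mul_mem ha.1 hb.1, by
          rw [map_mul, (hcomm a ha.1 b hb.1).mul_pow, ha.2, hb.2, one_mul]⟩
        inv_mem' := fun {a} ha => ⟨W.inv_mem ha.1, by rw [map_inv, inv_pow, ha.2, inv_one]⟩ }
    have hUn : U.Normal := ⟨fun x hx g => ⟨hWn.conj_mem x hx.1 g, by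
      rw [map_mul, map_mul, map_inv, conj_pow, hx.2, mul_one, mul_inv_cancel]⟩⟩
    haveI := Fact.mk hp
    haveI := Fact.mk hq
    have hUW : U ≤ W := fun x hx => hx.1
    have hpU : p ∣ Nat.card U := by
      obtain ⟨x, hx⟩ := exists_prime_orderOf_dvd_card' p hboth.1
      have hxU : (x : G) ∈ U := ⟨x.2, by
        rw [← map_pow, ← map_one π]
        congr 1
        obtain ⟨m, hm⟩ := dvd_pow_self p (n := (Nat.card W).factorization p)
          (hp.factorization_pos_of_dvd Nat.card_pos.ne' hboth.1).ne'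
        rw [hN, hm, pow_mul, ← Subgroup.coe_pow, ← hx, pow_orderOf_eq_one, Subgroup.coe_one, one_pow]⟩
      rw [← hx, ← Subgroup.orderOf_coe, ← Subgroup.orderOf_mk (x : G) hxU]
      exact orderOf_dvd_natCard _
    have hWU : W ≤ U := hmin ⟨hUn, hUW.trans hWK, Or.inl hpU⟩ hUW
    obtain ⟨y, hy⟩ := exists_prime_orderOf_dvd_card' q hboth.2
    have h1 := (hWU y.2).2
    have h2 : π y ^ q = 1 := by
      rw [← map_pow, ← Subgroup.coe_pow, ← hy, pow_orderOf_eq_one, Subgroup.coe_one, map_one]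
    have h3 : π y = 1 := by
      rw [← orderOf_eq_one_iff, ← Nat.dvd_one, ← ((Nat.coprime_primes hp hq).mpr hpq).pow_left
        ((Nat.card W).factorization p) |>.gcd_eq_one]
      exact Nat.dvd_gcd (orderOf_dvd_of_pow_eq_one h1) (orderOf_dvd_of_pow_eq_one h2)
    rw [QuotientGroup.mk'_apply, QuotientGroup.eq_one_iff] at h3
    refine hnD (Or.inr ?_)
    rw [← hy, ← Subgroup.orderOf_coe, ← Subgroup.orderOf_mk (y : G) h3]
    exact orderOf_dvd_natCard _
  · rcases hd with h | h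
    · exact Or.inl ⟨h, (hq.dvd_mul.mp (hc ▸ hqK)).resolve_left fun h' => hboth ⟨h, h'⟩⟩
    · exact Or.inr ⟨h, (hp.dvd_mul.mp (hc ▸ hpK)).resolve_left fun h' => hboth ⟨h', h⟩⟩

theorem three_in_solvable {G : Type*} [Group G] [Finite G] [Group.IsSolvable G] {p q r : ℕ}
    (hp : p.Prime) (hq : q.Prime) (hr : r.Prime) (hpq : p ≠ q) (hpr : p ≠ r) (hqr : q ≠ r)
    (dp : p ∣ Nat.card G) (dq : q ∣ Nat.card G) (dr : r ∣ Nat.card G) :
    (∃ x : G, orderOf x = p * q) ∨ (∃ x : G, orderOf x = p * r) ∨ (∃ x : G, orderOf x = q * r) := by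
  wlog hW : ∃ W : Subgroup G, W.Normal ∧ p ∣ Nat.card W ∧ q ∣ Nat.card G / Nat.card W generalizing p q
  · obtain ⟨W, hWn, -, h | h⟩ := split (⊤ : Subgroup G) inferInstance hp hq hpq
      (by rwa [Subgroup.card_top]) (by rwa [Subgroup.card_top])
    · exact absurd ⟨W, hWn, h.1, by simpa using h.2⟩ hW
    · rcases this hq hp hpq.symm hqr hpr dq dp ⟨W, hWn, h.1, by simpa using h.2⟩ with ⟨x, hx⟩ | h' | h'
      · exact Or.inl ⟨x, by rw [hx, mul_comm]⟩
      · exact Or.inr (Or.inr h')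
      · exact Or.inr (Or.inl h')
  obtain ⟨W, hWn, hpW, hqW⟩ := hW
  haveI := hWn
  have hidx : Nat.card G / Nat.card W = W.index := by
    rw [← W.index_mul_card, Nat.mul_div_cancel _ Nat.card_pos]
  rw [← W.index_mul_card] at dr
  rcases hr.dvd_mul.mp dr with dr' | dr'
  · rw [hidx] at hqW
    obtain ⟨U, hUn, -, h⟩ := split (⊤ : Subgroup (G ⧸ W)) inferInstance hq hr hqr
      (by rwa [Subgroup.card_top]) (by rwa [Subgroup.card_top])
    haveI := hUn
    set M := U.comap (QuotientGroup.mk' W) with hM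
    have hWM : W ≤ M := fun x hx => by
      rw [hM, Subgroup.mem_comap, QuotientGroup.mk'_apply, (QuotientGroup.eq_one_iff x).mpr hx]; exact U.one_mem
    have e2 : Nat.card M / Nat.card W = Nat.card U := by
      have hi : M.index = U.index := Subgroup.index_comap_of_surjective _ (QuotientGroup.mk'_surjective W)
      have a1 := M.index_mul_card
      have a2 := U.index_mul_card
      rw [← Subgroup.index_eq_card] at a2
      rw [← W.index_mul_card, hi, ← a2, mul_assoc] at a1
      have a3 := Nat.eq_of_mul_eq_mul_left (Nat.pos_of_ne_zero Subgroup.index_ne_zero_of_finite) a1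
      rw [a3, Nat.mul_div_cancel _ Nat.card_pos]
    have e3 : Nat.card G / Nat.card M = Nat.card (⊤ : Subgroup (G ⧸ W)) / Nat.card U := by
      rw [Subgroup.card_top, ← M.index_mul_card, Nat.mul_div_cancel _ Nat.card_pos, ← U.index_mul_card,
        Nat.mul_div_cancel _ Nat.card_pos, hM, Subgroup.index_comap_of_surjective _ (QuotientGroup.mk'_surjective W)]
    rcases h with h | h
    · exact Cfsg.Agent.S3634.result W M hWM p q r hp hq hr hpq hpr hqr hpW (e2 ▸ h.1) (e3 ▸ h.2)
    · rcases Cfsg.Agent.S3634.result W M hWM p r q hp hr hq hpr hpq hqr.symm hpW (e2 ▸ h.1) (e3 ▸ h.2)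
        with h' | h' | ⟨x, hx⟩
      · exact Or.inr (Or.inl h')
      · exact Or.inl h'
      · exact Or.inr (Or.inr ⟨x, by rw [hx, mul_comm]⟩)
  · obtain ⟨U, hUn, hUW, h⟩ := split W inferInstance hp hr hpr hpW dr'
    haveI := hUn
    rcases h with h | h
    · rcases Cfsg.Agent.S3634.result U W hUW p r q hp hr hq hpr hpq hqr.symm h.1 h.2 hqW
        with h' | h' | ⟨x, hx⟩
      · exact Or.inr (Or.inl h')
      · exact Or.inl h'
      · exact Or.inr (Or.inr ⟨x, by rw [hx, mul_comm]⟩)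
    · rcases Cfsg.Agent.S3634.result U W hUW r p q hr hp hq hpr.symm hqr.symm hpq h.1 h.2 hqW
        with ⟨x, hx⟩ | ⟨x, hx⟩ | h'
      · exact Or.inr (Or.inl ⟨x, by rw [hx, mul_comm]⟩)
      · exact Or.inr (Or.inr ⟨x, by rw [hx, mul_comm]⟩)
      · exact Or.inl h'



/-- Let G be a finite group and ρ a set of at least three prime divisors of the order of G that are pairwise non-adjacent in the prime graph (no element of order rs for distinct r, s ∈ ρ). Then at most one prime of ρ divides the order of any given solvable normal subgroup of G; in particular G is not solvable. -/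
theorem result {G : Type*} [Group G] [Finite G] (ρ : Finset ℕ) (hρ : 3 ≤ ρ.card) (hc : ((∀ r ∈ ρ, r.Prime ∧ r ∣ Nat.card G) ∧ (∀ r ∈ ρ, ∀ s ∈ ρ, r ≠ s → ¬ ∃ x : G, orderOf x = r * s)))
    (K : Subgroup G) [K.Normal] (hK : Group.IsSolvable ↥K) :
    (∀ r ∈ ρ, ∀ s ∈ ρ, r ∣ Nat.card ↥K → s ∣ Nat.card ↥K → r = s) ∧ ¬ Group.IsSolvable G := by
  classical
  obtain ⟨hc1, hc2⟩ := hc
  have hone : ∀ r ∈ ρ, ∀ s ∈ ρ, r ∣ Nat.card ↥K → s ∣ Nat.card ↥K → r = s := by
    intro p hp q hq dp dq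
    by_contra hpq
    obtain ⟨r, hr, hr'⟩ := Finset.exists_mem_notMem_of_card_lt_card (s := ({p, q} : Finset ℕ)) (t := ρ)
      (lt_of_le_of_lt Finset.card_le_two hρ)
    simp only [Finset.mem_insert, Finset.mem_singleton, not_or] at hr'
    obtain ⟨h1, h2⟩ := hr'
    have pp := (hc1 p hp).1
    have pq := (hc1 q hq).1
    have pr := (hc1 r hr).1
    have key : (∃ x : G, orderOf x = p * q) ∨ (∃ x : G, orderOf x = p * r) ∨ (∃ x : G, orderOf x = q * r) := by
      by_cases dr : r ∣ Nat.card K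
      · haveI := hK
        rcases three_in_solvable pp pq pr hpq (Ne.symm h1) (Ne.symm h2) dp dq dr with ⟨x, hx⟩ | ⟨x, hx⟩ | ⟨x, hx⟩
        · exact Or.inl ⟨x, by rw [Subgroup.orderOf_coe, hx]⟩
        · exact Or.inr (Or.inl ⟨x, by rw [Subgroup.orderOf_coe, hx]⟩)
        · exact Or.inr (Or.inr ⟨x, by rw [Subgroup.orderOf_coe, hx]⟩)
      have drG : r ∣ Nat.card G / Nat.card K := by
        rw [← K.index_mul_card, Nat.mul_div_cancel _ Nat.card_pos]
        exact (pr.dvd_mul.mp (K.index_mul_card.symm ▸ (hc1 r hr).2)).resolve_right dr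
      obtain ⟨W, hWn, hWK, h | h⟩ := split K hK pp pq hpq dp dq <;> haveI := hWn
      · exact Cfsg.Agent.S3634.result W K hWK p q r pp pq pr hpq (Ne.symm h1) (Ne.symm h2) h.1 h.2 drG
      · rcases Cfsg.Agent.S3634.result W K hWK q p r pq pp pr (Ne.symm hpq) (Ne.symm h2) (Ne.symm h1) h.1 h.2 drG
          with ⟨x, hx⟩ | h' | h'
        · exact Or.inl ⟨x, by rw [hx, mul_comm]⟩
        · exact Or.inr (Or.inr h')
        · exact Or.inr (Or.inl h')
    rcases key with h | h | h
    · exact hc2 p hp q hq hpq h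
    · exact hc2 p hp r hr (Ne.symm h1) h
    · exact hc2 q hq r hr (Ne.symm h2) h
  refine ⟨hone, fun hG => ?_⟩
  haveI := hG
  obtain ⟨p, hp, q, hq, r, hr, h1, h2, h3⟩ := Finset.two_lt_card.mp hρ
  rcases three_in_solvable (hc1 p hp).1 (hc1 q hq).1 (hc1 r hr).1 h1 h2 h3 (hc1 p hp).2 (hc1 q hq).2
    (hc1 r hr).2 with h | h | h
  · exact hc2 p hp q hq h1 h
  · exact hc2 p hp r hr h2 h
  · exact hc2 q hq r hr h3 h

end Cfsg.Agent.S3633
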