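import Cfsg.Statements.S3824
import Mathlib
import Cfsg.Agent.Char.Integral

set_option autoImplicit false
open Cfsg

namespace Cfsg.Agent.S3824

/-- Every finite group having an abelian subgroup whose index is a power of 2 is solvable. -/
theorem result {G : Type*} [Group G] [Finite G]
    (A : Subgroup G) (hA : IsMulCommutative A) (hidx : ∃ k : ℕ, A.index = 2 ^ k) : Group.IsSolvable G := by
  obtain ⟨k, hk⟩ := hidx
  suffices h : ∀ n : ℕ, ∀ (H : Type _) [Group H] [Finite H] (A : Subgroup H), Nat.card H = n →
      IsMulCommutative A → A.index ∣ 2 ^ k → Group.IsSolvable H from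
    h _ G A rfl hA (hk ▸ dvd_rfl)
  intro n
  induction n using Nat.strong_induction_on with
  | _ n ih =>
    intro H _ _ A hn hA hidx
    rcases subsingleton_or_nontrivial H with hH | hH
    · infer_instance
    by_cases hs : ∃ N : Subgroup H, N.Normal ∧ N ≠ ⊥ ∧ N ≠ ⊤
    · obtain ⟨N, hN, hN0, hN1⟩ := hs
      have hmul : Nat.card (H ⧸ N) * Nat.card N = n :=
        hn ▸ (Subgroup.card_eq_card_quotient_mul_card_subgroup N).symm
      have h1 : 1 < Nat.card N := Subgroup.one_lt_card_iff_ne_bot N |>.2 hN0
      have h2 : 1 < Nat.card (H ⧸ N) := by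
        rw [← Subgroup.index_eq_card]
        exact Subgroup.one_lt_index_of_ne_top hN1
      have e1 : Group.IsSolvable N := by
        refine ih _ (by rw [← hmul]; exact lt_mul_left (by omega) h2) N (A.subgroupOf N) rfl ?_ ?_
        · exact ⟨⟨fun a b => Subtype.ext (Subtype.ext (by
            have := congrArg Subtype.val (hA.is_comm.comm ⟨(a : N), a.2⟩ ⟨(b : N), b.2⟩)
            simpa using this))⟩⟩
        · refine (dvd_trans ?_ hidx)
          show A.relIndex N ∣ A.index
          obtain ⟨t, ht⟩ := Subgroup.relIndex_dvd_index_of_normal N A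
          have e1 : A.relIndex N * N.index = (A ⊓ N).index := by
            rw [← Subgroup.inf_relIndex_right A N, Subgroup.relIndex_mul_index inf_le_right]
          have e2 : N.relIndex A * A.index = (A ⊓ N).index := by
            rw [← Subgroup.inf_relIndex_left A N, Subgroup.relIndex_mul_index inf_le_left]
          refine ⟨t, ?_⟩
          have hne : 0 < N.relIndex A := Nat.pos_of_ne_zero
            (show (N.subgroupOf A).index ≠ 0 from Subgroup.index_ne_zero_of_finite)
          apply Nat.eq_of_mul_eq_mul_left hne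
          rw [e2, ← e1, ht]; ring
      have e2 : Group.IsSolvable (H ⧸ N) := by
        refine ih _ (by rw [← hmul]; exact lt_mul_right (by omega) h1) (H ⧸ N)
          (A.map (QuotientGroup.mk' N)) rfl ?_ ((A.index_map_dvd (QuotientGroup.mk'_surjective N)).trans hidx)
        refine ⟨⟨?_⟩⟩
        rintro ⟨_, a, ha, rfl⟩ ⟨_, b, hb, rfl⟩
        exact Subtype.ext (by
          show QuotientGroup.mk' N a * QuotientGroup.mk' N b = QuotientGroup.mk' N b * QuotientGroup.mk' N a
          rw [← map_mul, ← map_mul,
            show a * b = b * a from congrArg Subtype.val (hA.is_comm.comm ⟨a, ha⟩ ⟨b, hb⟩)])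
      exact (Group.isSolvable_iff_subgroup_quotient N).2 ⟨e1, e2⟩
    · push Not at hs
      haveI : IsSimpleGroup H := ⟨fun N hN => or_iff_not_imp_left.2 fun h => hs N hN h⟩
      haveI : Fact (Nat.Prime 2) := ⟨Nat.prime_two⟩
      obtain ⟨i, -, hi⟩ := (Nat.dvd_prime_pow Nat.prime_two).1 hidx
      by_cases hbot : A = ⊥
      · subst hbot
        rw [Subgroup.index_bot] at hi
        haveI := (IsPGroup.of_card hi).isNilpotent
        infer_instance
      obtain ⟨a, ha, ha1⟩ : ∃ a ∈ A, a ≠ 1 := by
        by_contra hh
        push Not at hh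
        exact hbot (by rw [eq_bot_iff]; intro a ha; simpa using hh a ha)
      have hle : A ≤ Subgroup.centralizer ({a} : Set H) := fun b hb => by
        rw [Subgroup.mem_centralizer_singleton_iff]
        exact congrArg Subtype.val (hA.is_comm.comm ⟨b, hb⟩ ⟨a, ha⟩)
      obtain ⟨j, -, hj⟩ := (Nat.dvd_prime_pow Nat.prime_two).1 ((Subgroup.index_dvd_of_le hle).trans hidx)
      haveI := Fact.mk (Char.prime_card_of_class_prime_pow 2 j Nat.prime_two a ha1 hj)
      haveI : IsCyclic H := isCyclic_of_prime_card rfl
      letI : CommGroup H := IsCyclic.commGroup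
      infer_instance

end Cfsg.Agent.S3824
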