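import Cfsg.Statements.S3869
import Mathlib
import Cfsg.Agent.H7.CyclicModule

set_option autoImplicit false
set_option linter.style.haveILetI false
open Cfsg

namespace Cfsg.Agent.S3869

/-- Let p and q be distinct primes and G a finite non-abelian group with a normal elementary abelian q-subgroup A that is a minimal normal subgroup of G and has index p. Then A has order q^e with e the multiplicative order of q modulo p, and G is minimal non-p-closed: its Sylow p-subgroups are not normal, while in every proper subgroup and in every proper quotient of G the Sylow p-subgroups are normal. -/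
theorem result {G : Type*} [Group G] [Finite G] {p q : ℕ} [Fact p.Prime] (hq : q.Prime) (hpq : q ≠ p)
    (hna : ¬ IsMulCommutative G) (A : Subgroup G) [A.Normal] (hA : Cfsg.IsElementaryAbelian q A) (hidx : A.index = p)
    (hmin : ∀ B : Subgroup G, B.Normal → B ≤ A → B = ⊥ ∨ B = A) :
    Nat.card ↥A = q ^ orderOf (q : ZMod p) ∧ ¬ Cfsg.IsPClosed p G ∧ (∀ H : Subgroup G, H ≠ ⊤ → Cfsg.IsPClosed p ↥H) ∧
      ∀ (N : Subgroup G) [N.Normal], N ≠ ⊥ → Cfsg.IsPClosed p (G ⧸ N) := by
  classical
  haveI := Fact.mk hq
  have hp : p.Prime := Fact.out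
  obtain ⟨hAc, hAq⟩ := hA
  have hAqg : IsPGroup q A := fun z => ⟨1, Subtype.ext (by rw [pow_one]; exact hAq z z.2)⟩
  obtain ⟨x, hx⟩ := exists_prime_orderOf_dvd_card' p (G := G) (hidx ▸ Subgroup.index_dvd_card A)
  have hxA : x ∉ A := fun h => hpq (by
    obtain ⟨k, hk⟩ := hAqg ⟨x, h⟩
    have h1 : p ∣ q ^ k := hx ▸ orderOf_dvd_of_pow_eq_one (congrArg Subtype.val hk : x ^ q ^ k = 1)
    exact ((Nat.prime_dvd_prime_iff_eq hp hq).mp (hp.dvd_of_dvd_pow h1)).symm)
  have htop : ∀ H : Subgroup G, A ≤ H → x ∈ H → H = ⊤ := by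
    intro H hAH hxH
    rw [← Subgroup.index_eq_one]
    have h1 := Subgroup.relIndex_mul_index hAH
    rw [hidx] at h1
    rcases (Nat.dvd_prime hp).mp (Dvd.intro_left _ h1) with h | h
    · exact h
    · exfalso
      rw [h] at h1
      have h2 : A.relIndex H = 1 := Nat.eq_of_mul_eq_mul_right hp.pos (by omega)
      exact hxA (Subgroup.relIndex_eq_one.mp h2 hxH)
  have habel : ¬ ∀ v ∈ A, x * v = v * x := fun h => hna ⟨⟨by
    have h1 : A ≤ Subgroup.center G := fun v hv => by
      have hC : Subgroup.centralizer ({v} : Set G) = ⊤ := htop _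
        (fun w hw => Subgroup.mem_centralizer_singleton_iff.mpr (congrArg Subtype.val (mul_comm' (⟨w, hw⟩ : A) ⟨v, hv⟩)))
        (Subgroup.mem_centralizer_singleton_iff.mpr (h v hv))
      exact Subgroup.mem_center_iff.mpr fun g => Subgroup.mem_centralizer_singleton_iff.mp (hC ▸ Subgroup.mem_top g)
    have hC : Subgroup.center G = ⊤ := htop _ h1 (Subgroup.mem_center_iff.mpr fun g => by
      have hC : Subgroup.centralizer ({x} : Set G) = ⊤ := htop _
        (fun w hw => Subgroup.mem_centralizer_singleton_iff.mpr (h w hw).symm)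
        (Subgroup.mem_centralizer_singleton_iff.mpr rfl)
      exact Subgroup.mem_centralizer_singleton_iff.mp (hC ▸ Subgroup.mem_top g))
    exact fun a b => Subgroup.mem_center_iff.mp (hC ▸ Subgroup.mem_top b) a⟩⟩
  have hnorm : ∀ B : Subgroup G, B ≤ A → (∀ b ∈ B, x * b * x⁻¹ ∈ B) → B.Normal := by
    intro B hBA hxB
    rw [← Subgroup.normalizer_eq_top_iff]
    refine htop _ (fun w hw => ?_) ?_
    · rw [Subgroup.mem_normalizer_iff]
      intro b
      constructor
      · intro hb
        have := congrArg Subtype.val (mul_comm' (⟨w, hw⟩ : A) ⟨b, hBA hb⟩)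
        simp only [Subgroup.coe_mul] at this
        rwa [this, mul_inv_cancel_right]
      · intro hb
        have hbA : b ∈ A := by
          have := mul_mem (mul_mem (inv_mem hw) (hBA hb)) hw
          simpa [mul_assoc] using this
        have := congrArg Subtype.val (mul_comm' (⟨w, hw⟩ : A) ⟨b, hbA⟩)
        simp only [Subgroup.coe_mul] at this
        rwa [this, mul_inv_cancel_right] at hb
    · rw [Subgroup.mem_normalizer_iff]
      refine fun b => ⟨hxB b, fun hb => ?_⟩
      have hall : ∀ k : ℕ, ∀ c ∈ B, x ^ k * c * (x ^ k)⁻¹ ∈ B := by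
        intro k
        induction k with
        | zero => intro c hc; simpa using hc
        | succ k ih =>
          intro c hc
          have := hxB _ (ih c hc)
          rw [pow_succ']
          simpa [mul_assoc] using this
      have := hall (p - 1) _ hb
      have hxp : x ^ (p - 1) * x = 1 := by rw [← pow_succ, Nat.sub_add_cancel hp.one_le, ← hx, pow_orderOf_eq_one]
      rwa [show x ^ (p - 1) * (x * b * x⁻¹) * (x ^ (p - 1))⁻¹ = (x ^ (p - 1) * x) * b * (x ^ (p - 1) * x)⁻¹ by group,
        hxp, one_mul, inv_one, mul_one] at this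
  haveI hAnt : Nontrivial A := (Subgroup.nontrivial_iff_ne_bot A).mpr fun h => habel fun v hv => by
    rw [h, Subgroup.mem_bot] at hv; rw [hv, mul_one, one_mul]
  letI : CommGroup A := { (inferInstance : Group A) with mul_comm := hAc.is_comm.comm }
  let a : AddMonoid.End (Additive A) := MonoidHom.toAdditive (MulAut.conjNormal x).toMonoidHom
  have hak : ∀ (k : ℕ) (v : Additive A), (((a ^ k) v).toMul : G) = x ^ k * (v.toMul : G) * (x ^ k)⁻¹ := by
    intro k
    induction k with
    | zero => intro v; simp
    | succ k ih =>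
      intro v
      rw [pow_succ', AddMonoid.End.coe_mul, Function.comp_apply]
      show x * (((a ^ k) v).toMul : G) * x⁻¹ = _
      rw [ih, pow_succ']; group
  have hap : a ^ p = 1 := DFunLike.ext _ _ fun v => Additive.toMul.injective (Subtype.ext (by
    rw [hak, ← hx, pow_orderOf_eq_one, one_mul, inv_one, mul_one]; rfl))
  have hinv : ∀ W : AddSubgroup (Additive A), (∀ w ∈ W, a w ∈ W) → W = ⊥ ∨ W = ⊤ := by
    intro W hW
    let B : Subgroup G := (AddSubgroup.toSubgroup' W).map A.subtype
    have hBn : B.Normal := hnorm B (Subgroup.map_subtype_le _) (by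
      rintro _ ⟨b, hb, rfl⟩
      exact ⟨_, hW (Additive.ofMul b) hb, rfl⟩)
    rcases hmin B hBn (Subgroup.map_subtype_le _) with h | h
    · left
      rw [AddSubgroup.eq_bot_iff_forall]
      intro w hw
      have : ((w.toMul : A) : G) ∈ B := ⟨w.toMul, hw, rfl⟩
      rw [h, Subgroup.mem_bot] at this
      exact Additive.toMul.injective (Subtype.ext this)
    · right
      rw [AddSubgroup.eq_top_iff']
      intro w
      obtain ⟨b, hb, hbe⟩ := (h.ge w.toMul.2 : (w.toMul : G) ∈ B)
      have : b = w.toMul := Subtype.ext hbe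
      rw [this] at hb
      exact hb
  have hann : ∀ t ∈ CycMod.gen a, ∀ v : Additive A, v ≠ 0 → t v = 0 → t = 0 := by
    intro t ht v hv htv
    rcases hinv (t : Additive A →+ Additive A).ker (fun w hw => by
      show t (a w) = 0
      have hc := congrArg (fun f : AddMonoid.End (Additive A) => f w) (CycMod.gen_comm a ht (CycMod.mem_gen a))
      simp only [AddMonoid.End.coe_mul, Function.comp_apply] at hc
      rw [hc, show t w = 0 from hw, map_zero]) with h | h
    · have hvk : v ∈ (t : Additive A →+ Additive A).ker := htv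
      rw [h] at hvk
      exact absurd hvk hv
    · exact DFunLike.ext _ _ fun w => (h.ge (AddSubgroup.mem_top w) : w ∈ (t : Additive A →+ Additive A).ker)
  obtain ⟨v, hv⟩ := exists_ne (0 : Additive A)
  have hbij : Nat.card (CycMod.gen a) = Nat.card A := by
    rw [← Nat.card_congr (Additive.toMul : Additive A ≃ A)]
    refine Nat.card_congr (Equiv.ofBijective (fun t : CycMod.gen a => (t : AddMonoid.End (Additive A)) v) ⟨fun s t hst => ?_, fun w => ?_⟩)
    · refine Subtype.ext (sub_eq_zero.mp (hann _ (sub_mem s.2 t.2) v hv ?_))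
      show (s : AddMonoid.End (Additive A)) v - (t : AddMonoid.End (Additive A)) v = 0
      exact sub_eq_zero.mpr hst
    · rcases hinv (CycMod.cyc a v) (fun w hw => by
        obtain ⟨t, ht, rfl⟩ := hw
        exact ⟨a * t, mul_mem (CycMod.mem_gen a) ht, rfl⟩) with h | h
      · exact absurd (AddSubgroup.mem_bot.mp (show v ∈ (⊥ : AddSubgroup (Additive A)) by rw [← h]; exact CycMod.self_mem_cyc a v)) hv
      · obtain ⟨t, ht, rfl⟩ := h.ge (AddSubgroup.mem_top w)
        exact ⟨⟨t, ht⟩, rfl⟩
  obtain ⟨n, hn⟩ := hAqg.exists_card_eq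
  letI : Field (CycMod.gen a) := CycMod.genField hann
  letI : Fintype (CycMod.gen a) := Fintype.ofFinite _
  have hqA : ∀ w : Additive A, q • w = 0 := fun w => Additive.toMul.injective (Subtype.ext (hAq _ w.toMul.2))
  haveI : CharP (CycMod.gen a) q := by
    refine (CharP.charP_iff_prime_eq_zero hq).mpr (Subtype.ext ?_)
    push_cast
    refine DFunLike.ext _ _ fun w => ?_
    rw [AddMonoid.End.natCast_apply, hqA]; rfl
  have hFc : Fintype.card (CycMod.gen a) = q ^ n := by rw [← Nat.card_eq_fintype_card, hbij, hn]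
  let α : CycMod.gen a := ⟨a, CycMod.mem_gen a⟩
  have hα1 : α ≠ 1 := fun h => habel fun w hw => by
    have h1 := congrArg (fun t : CycMod.gen a => (((t : AddMonoid.End (Additive A)) (Additive.ofMul ⟨w, hw⟩)).toMul : G)) h
    exact mul_inv_eq_iff_eq_mul.mp h1
  have hαp : orderOf α = p := orderOf_eq_prime (Subtype.ext hap) hα1
  have hα0 : α ≠ 0 := fun h => by
    have : α ^ p = 1 := hαp ▸ pow_orderOf_eq_one α
    rw [h, zero_pow hp.ne_zero] at this
    exact zero_ne_one this
  set e := orderOf (q : ZMod p) with he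
  have he0 : 0 < e := orderOf_pos_iff.mpr (isOfFinOrder_iff_pow_eq_one.mpr ⟨p - 1, by have := hp.two_le; omega,
    ZMod.pow_card_sub_one_eq_one (fun h => hpq ((Nat.prime_dvd_prime_iff_eq hp hq).mp ((ZMod.natCast_eq_zero_iff _ _).mp h)).symm)⟩)
  have hpe : ∀ k, ((q : ZMod p) ^ k = 1) ↔ α ^ q ^ k = α := fun k => by
    have hiff : ((q ^ k : ℕ) : ZMod p) = ((1 : ℕ) : ZMod p) ↔ q ^ k ≡ 1 [MOD orderOf α] := by
      rw [hαp]; exact ZMod.natCast_eq_natCast_iff _ _ _
    push_cast at hiff
    rw [hiff, ← (orderOf_pos_iff.mp (hαp ▸ hp.pos : 0 < orderOf α)).pow_eq_pow_iff_modEq, pow_one]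
  have hdvd : e ∣ n := orderOf_dvd_of_pow_eq_one ((hpe n).mpr (by rw [← hFc]; exact FiniteField.pow_card α))
  have hle : q ^ n ≤ q ^ e := by
    have hfix : ∀ y : CycMod.gen a, y ^ q ^ e = y := by
      rintro ⟨y, hy⟩
      have hy' : ∀ t, (h : t ∈ CycMod.gen a) → iterateFrobenius (CycMod.gen a) q e ⟨t, h⟩ = ⟨t, h⟩ := by
        intro t ht
        induction ht using Subring.closure_induction with
        | mem t h =>
          obtain rfl : t = a := h
          exact (hpe e).mp (pow_orderOf_eq_one _)
        | zero => exact map_zero _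
        | one => exact map_one _
        | add s t hs ht i1 i2 =>
          exact (map_add (iterateFrobenius (CycMod.gen a) q e) ⟨s, hs⟩ ⟨t, ht⟩).trans (by rw [i1, i2]; try rfl)
        | neg s hs i1 => exact (map_neg (iterateFrobenius (CycMod.gen a) q e) ⟨s, hs⟩).trans (by rw [i1]; try rfl)
        | mul s t hs ht i1 i2 =>
          exact (map_mul (iterateFrobenius (CycMod.gen a) q e) ⟨s, hs⟩ ⟨t, ht⟩).trans (by rw [i1, i2]; try rfl)
      exact (iterateFrobenius_def (R := CycMod.gen a) q e ⟨y, hy⟩).symm.trans (hy' y hy)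
    rw [← hFc]
    have hq1 : 1 < q ^ e := Nat.one_lt_pow he0.ne' hq.one_lt
    have hne : (Polynomial.X ^ q ^ e - Polynomial.X : Polynomial (CycMod.gen a)) ≠ 0 :=
      FiniteField.X_pow_card_sub_X_ne_zero _ hq1
    calc Fintype.card (CycMod.gen a) = (Finset.univ : Finset (CycMod.gen a)).card := rfl
      _ ≤ (Polynomial.X ^ q ^ e - Polynomial.X : Polynomial (CycMod.gen a)).natDegree :=
          Polynomial.card_le_degree_of_subset_roots fun y _ => (Polynomial.mem_roots hne).mpr (by simp [hfix y])
      _ = q ^ e := FiniteField.X_pow_card_sub_X_natDegree_eq _ hq1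
  have hne : n = e := le_antisymm ((Nat.pow_le_pow_iff_right hq.one_lt).mp hle) (Nat.le_of_dvd (Nat.pos_of_ne_zero fun h => by
    rw [h, pow_zero] at hn
    exact (Finite.one_lt_card (α := A)).ne' hn) hdvd)
  refine ⟨by rw [hn, hne], ?_, ?_, ?_⟩
  · intro hcl
    obtain ⟨P, hP⟩ := (IsPGroup.of_card (n := 1) (by rw [Nat.card_zpowers, hx, pow_one]) : IsPGroup p (Subgroup.zpowers x)).exists_le_sylow
    haveI := hcl P
    refine habel fun w hw => ?_
    exact (Subgroup.commute_of_normal_of_disjoint (P : Subgroup G) A (hcl P) inferInstance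
      (IsPGroup.disjoint_of_ne p q hpq.symm _ _ P.isPGroup' hAqg) x w (hP (Subgroup.mem_zpowers x)) hw).eq
  · intro H hH P
    by_cases hHA : H ≤ A
    · haveI : IsMulCommutative H := ⟨⟨fun s t => Subtype.ext (congrArg Subtype.val (mul_comm' (⟨s, hHA s.2⟩ : A) ⟨t, hHA t.2⟩) :)⟩⟩
      exact Subgroup.normal_of_isMulCommutative _
    · have hsup : A ⊔ H = ⊤ := by
        rw [← Subgroup.index_eq_one]
        have h1 := Subgroup.relIndex_mul_index (le_sup_left : A ≤ A ⊔ H)
        rw [hidx] at h1
        rcases (Nat.dvd_prime hp).mp (Dvd.intro_left _ h1) with h | h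
        · exact h
        · exfalso
          rw [h] at h1
          have h2 : A.relIndex (A ⊔ H) = 1 := Nat.eq_of_mul_eq_mul_right hp.pos (by omega)
          exact hHA (le_sup_right.trans (Subgroup.relIndex_eq_one.mp h2))
      have hBn : (A ⊓ H).Normal := by
        rw [← Subgroup.normalizer_eq_top_iff, eq_top_iff, ← hsup, sup_le_iff]
        refine ⟨fun w hw => Subgroup.centralizer_le_normalizer _ ?_, fun h hh => ?_⟩
        · exact Subgroup.mem_centralizer_iff.mpr fun b hb =>
            congrArg Subtype.val (mul_comm' (⟨b, (Subgroup.mem_inf.mp hb).1⟩ : A) ⟨w, hw⟩)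
        · rw [Subgroup.mem_normalizer_iff]
          intro b
          rw [Subgroup.mem_inf, Subgroup.mem_inf, Subgroup.mul_mem_cancel_right _ (inv_mem hh), Subgroup.mul_mem_cancel_left _ hh]
          exact and_congr_left fun _ => ⟨fun hb => (inferInstance : A.Normal).conj_mem b hb h,
            fun hb => by simpa [mul_assoc] using (inferInstance : A.Normal).conj_mem _ hb h⁻¹⟩
      have hb : A ⊓ H = ⊥ := (hmin _ hBn inf_le_left).resolve_right fun h => hH (top_le_iff.mp (hsup ▸ sup_le (h ▸ inf_le_right) le_rfl))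
      have hcH : Nat.card H ∣ p := by
        rw [← hidx, ← Subgroup.relIndex_bot_left, ← hb, Subgroup.inf_relIndex_right]
        exact Subgroup.relIndex_dvd_index_of_normal A H
      have hHp : IsPGroup p H := by
        rcases (Nat.dvd_prime hp).mp hcH with h | h
        · exact IsPGroup.of_card (n := 0) (h.trans (pow_zero p).symm)
        · exact IsPGroup.of_card (n := 1) (h.trans (pow_one p).symm)
      rw [show (P : Subgroup H) = ⊤ from (P.is_maximal' (hHp.to_subgroup ⊤) le_top).symm]
      infer_instance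
  · intro N _ hN P
    have hAN : A ≤ N := by
      rcases hmin (A ⊓ N) inferInstance inf_le_left with h | h
      · exfalso
        have hcom := Subgroup.commute_of_normal_of_disjoint A N inferInstance inferInstance (disjoint_iff.mpr h)
        obtain ⟨z, hz, hz1⟩ := N.bot_or_exists_ne_one.resolve_left hN
        have hzA : z ∉ A := fun hzA => hz1 (Subgroup.mem_bot.mp (h ▸ Subgroup.mem_inf.mpr ⟨hzA, hz⟩))
        refine habel fun w hw => ?_
        have hC : Subgroup.centralizer ({w} : Set G) = ⊤ := by
          rw [← Subgroup.index_eq_one]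
          have hle : A ≤ Subgroup.centralizer ({w} : Set G) := fun u hu => Subgroup.mem_centralizer_singleton_iff.mpr
            (congrArg Subtype.val (mul_comm' (⟨u, hu⟩ : A) ⟨w, hw⟩))
          have h1 := Subgroup.relIndex_mul_index hle
          rw [hidx] at h1
          rcases (Nat.dvd_prime hp).mp (Dvd.intro_left _ h1) with h2 | h2
          · exact h2
          · exfalso
            rw [h2] at h1
            have h3 : A.relIndex (Subgroup.centralizer ({w} : Set G)) = 1 := Nat.eq_of_mul_eq_mul_right hp.pos (by omega)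
            exact hzA (Subgroup.relIndex_eq_one.mp h3
              (Subgroup.mem_centralizer_singleton_iff.mpr (hcom w z hw hz).eq.symm))
        exact Subgroup.mem_centralizer_singleton_iff.mp (hC ▸ Subgroup.mem_top x)
      · exact inf_eq_left.mp h
    have hd : Nat.card (G ⧸ N) ∣ p := hidx ▸ Subgroup.index_dvd_of_le hAN
    have hQp : IsPGroup p (G ⧸ N) := by
      rcases (Nat.dvd_prime hp).mp hd with h | h
      · exact IsPGroup.of_card (n := 0) (h.trans (pow_zero p).symm)
      · exact IsPGroup.of_card (n := 1) (h.trans (pow_one p).symm)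
    rw [show (P : Subgroup (G ⧸ N)) = ⊤ from (P.is_maximal' (hQp.to_subgroup ⊤) le_top).symm]
    infer_instance

end Cfsg.Agent.S3869
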