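import Cfsg.Statements.S3868
import Mathlib
import Cfsg.Agent.Solv.Cores
import Cfsg.Agent.Solv.CoprimeSylow
import Cfsg.Agent.S3869

set_option autoImplicit false
set_option linter.style.haveILetI false
open Cfsg

open scoped Pointwise

namespace Cfsg.Agent.S3868

/-- Structure of the non-simple minimal non-p-closed groups. Call a finite group p-closed when its Sylow p-subgroups are normal, and minimal non-p-closed when it is not p-closed but every proper subgroup and every proper quotient is. If such a group G is not simple, then there is a prime q ≠ p such that G has order p · q^e, where e is the multiplicative order of q modulo p, and G has a normal subgroup A of order q^e that is elementary abelian and is a minimal normal subgroup of G (so G is the semidirect product of A by a group of order p acting irreducibly). -/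
theorem result {G : Type*} [Group G] [Finite G] {p : ℕ} [Fact p.Prime]
    (hnc : ¬ Cfsg.IsPClosed p G) (hsub : ∀ H : Subgroup G, H ≠ ⊤ → Cfsg.IsPClosed p ↥H)
    (hquo : ∀ (N : Subgroup G) [N.Normal], N ≠ ⊥ → Cfsg.IsPClosed p (G ⧸ N)) (hns : ¬ IsSimpleGroup G) :
    ∃ q : ℕ, q.Prime ∧ q ≠ p ∧ Nat.card G = p * q ^ orderOf (q : ZMod p) ∧
      ∃ A : Subgroup G, A.Normal ∧ Nat.card ↥A = q ^ orderOf (q : ZMod p) ∧ Cfsg.IsElementaryAbelian q A ∧
        ∀ B : Subgroup G, B.Normal → B ≤ A → B = ⊥ ∨ B = A := by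
  have hp : p.Prime := Fact.out
  simp only [Cfsg.IsPClosed, not_forall] at hnc
  obtain ⟨P, hP⟩ := hnc
  -- Sylow images
  have hquot : ∀ (M : Subgroup G) [M.Normal], M ≠ ⊥ → ((P : Subgroup G) ⊔ M).Normal := by
    intro M _ hM
    have h := hquo M hM (P.mapSurjective (QuotientGroup.mk'_surjective M))
    rw [Sylow.coe_mapSurjective] at h
    have h2 := h.comap (QuotientGroup.mk' M)
    rwa [Subgroup.comap_map_eq, QuotientGroup.ker_mk'] at h2
  have hsubN : ∀ H : Subgroup G, H ≠ ⊤ → (P : Subgroup G) ≤ H → H ≤ Subgroup.normalizer ((P : Subgroup G) : Set G) := by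
    intro H hH hPH
    have h := hsub H hH (P.subtype hPH)
    rw [Sylow.coe_subtype] at h
    exact (Subgroup.normal_subgroupOf_iff_le_normalizer hPH).mp h
  have hcore : pCore p G = ⊥ := by
    by_contra hne
    haveI := (Solv.pCore_mem (G := G) p).1
    have h := hquot (pCore p G) hne
    rw [sup_eq_left.mpr (Solv.pCore_le_sylow P)] at h
    exact hP h
  haveI : Nontrivial G := by
    by_contra h
    rw [not_nontrivial_iff_subsingleton] at h
    exact hP (Subsingleton.elim (⊥ : Subgroup G) (P : Subgroup G) ▸ inferInstance)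
  obtain ⟨N₀, hN₀n, hN₀⟩ : ∃ N : Subgroup G, N.Normal ∧ N ≠ ⊥ ∧ N ≠ ⊤ := by
    by_contra hcon
    push Not at hcon
    exact hns { eq_bot_or_eq_top_of_normal := fun N hN => or_iff_not_imp_left.mpr (hcon N hN) }
  obtain ⟨N, hNn, hN0, hNle, hNmin⟩ := Solv.exists_minimal_normal hN₀n hN₀.1
  haveI := hNn
  have hNt : N ≠ ⊤ := fun h => hN₀.2 (top_le_iff.mp (h ▸ hNle))
  have hNp : ¬ p ∣ Nat.card N := by
    intro hd
    obtain ⟨R⟩ : Nonempty (Sylow p N) := inferInstance
    haveI := R.characteristic_of_normal (hsub N hNt R)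
    have h1 : (R : Subgroup N).map N.subtype ≤ pCore p G := Solv.le_pCore inferInstance (R.isPGroup'.map _)
    rw [hcore, le_bot_iff, Subgroup.map_eq_bot_iff_of_injective _ N.subtype_injective] at h1
    have := R.dvd_card_of_dvd_card hd
    rw [h1, Subgroup.card_bot] at this
    exact hp.one_lt.ne' (Nat.dvd_one.mp this)
  have hPN : (P : Subgroup G) ⊔ N = ⊤ := by
    by_contra hne
    have hn := hquot N hN0
    apply hP
    rw [← Subgroup.normalizer_eq_top_iff]
    refine P.normalizer_sup_eq_top' (N := (P : Subgroup G) ⊔ N) le_sup_left |>.symm.le.trans ?_ |> top_le_iff.mp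
    exact sup_le le_rfl (hsubN _ hne le_sup_left)
  have hcop : (Nat.card (P : Subgroup G)).Coprime (Nat.card N) := by
    obtain ⟨k, hk⟩ := P.isPGroup'.exists_card_eq
    rw [hk]; exact Nat.Coprime.pow_left k (hp.coprime_iff_not_dvd.mpr hNp)
  haveI : Group.IsNilpotent ↥(P : Subgroup G) := P.isPGroup'.isNilpotent
  obtain ⟨q, hq, Q, hQinv, hQnot⟩ : ∃ (q : ℕ) (_ : Fact q.Prime) (Q : Sylow q N),
      (P : Subgroup G) ≤ Subgroup.normalizer (((Q : Subgroup N).map N.subtype : Subgroup G) : Set G) ∧
      ¬ (Q : Subgroup N).map N.subtype ≤ Subgroup.normalizer ((P : Subgroup G) : Set G) := by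
    by_contra hcon
    simp only [not_exists, not_and, not_not] at hcon
    apply hP
    rw [← Subgroup.normalizer_eq_top_iff, eq_top_iff, ← hPN]
    refine sup_le Subgroup.le_normalizer ?_
    have hle : (Subgroup.normalizer ((P : Subgroup G) : Set G)).subgroupOf N = ⊤ := by
      rw [← Subgroup.index_eq_one]
      by_contra hne
      obtain ⟨r, hr, hrd⟩ := Nat.exists_prime_and_dvd hne
      haveI := Fact.mk hr
      obtain ⟨R, hR⟩ := Solv.invariant_sylow (fun _ _ => Subgroup.le_normalizer_of_normal (Subgroup.mem_top _)) hcop (Or.inl inferInstance) r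
      exact R.not_dvd_index (hrd.trans (Subgroup.index_dvd_of_le fun z hz => hcon r ‹_› R hR ⟨z, hz, rfl⟩))
    exact Subgroup.subgroupOf_eq_top.mp hle
  let Q' : Subgroup G := (Q : Subgroup N).map N.subtype
  have hQ' : IsPGroup q Q' := Q.isPGroup'.map _
  have hPQ : (P : Subgroup G) ⊔ Q' = ⊤ := by
    by_contra hne
    exact hQnot (le_sup_right.trans (hsubN _ hne le_sup_left))
  have hQN : Q' = N := by
    refine le_antisymm (Subgroup.map_subtype_le _) fun z hz => ?_
    have hn : (P : Subgroup G) ⊔ Q' ≤ Subgroup.normalizer (Q' : Set G) := sup_le hQinv Subgroup.le_normalizer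
    rw [hPQ] at hn
    haveI : Q'.Normal := Subgroup.normalizer_eq_top_iff.mp (top_le_iff.mp hn)
    obtain ⟨a, ha, b, hb, rfl⟩ := Subgroup.mem_sup_of_normal_right.mp (hPQ ▸ Subgroup.mem_top z)
    have haN : a ∈ N := (Subgroup.mul_mem_cancel_right N (Subgroup.map_subtype_le _ hb)).mp hz
    have ha1 : a = 1 := by
      have h1 : orderOf a = 1 := Nat.eq_one_of_dvd_coprimes hcop (Subgroup.orderOf_dvd_natCard _ ha) (Subgroup.orderOf_dvd_natCard _ haN)
      exact orderOf_eq_one_iff.mp h1
    rw [ha1, one_mul]; exact hb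
  have hqp : q ≠ p := by
    rintro rfl
    apply hN0
    obtain ⟨k, hk⟩ := (hQN ▸ hQ' : IsPGroup q N).exists_card_eq
    rcases Nat.eq_zero_or_pos k with rfl | hk0
    · exact Subgroup.card_eq_one.mp (by rw [hk, pow_zero])
    · exact absurd (hk ▸ dvd_pow_self q hk0.ne') hNp
  haveI : Group.IsSolvable N := by
    haveI : Group.IsNilpotent N := (hQN ▸ hQ' : IsPGroup q N).isNilpotent
    infer_instance
  obtain ⟨hNc, r, hr, hrd, -, hre⟩ := Solv.minimal_normal_solvable hNn hN0 hNmin
  have hrq : r = q := by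
    obtain ⟨k, hk⟩ := (hQN ▸ hQ' : IsPGroup q N).exists_card_eq
    exact (Nat.prime_dvd_prime_iff_eq hr hq.out).mp (hr.dvd_of_dvd_pow (hk ▸ hrd))
  subst hrq
  have hdisj : (P : Subgroup G) ⊓ N = ⊥ := Subgroup.inf_eq_bot_of_coprime hcop
  have hidx : N.index = p := by
    obtain ⟨k, hk⟩ := P.isPGroup'.exists_card_eq
    have hi : N.index = p ^ k := by
      rw [← Subgroup.relIndex_top_right, ← hPN, Subgroup.relIndex_sup_right, ← hk, ← Subgroup.relIndex_bot_left, ← hdisj,
        Subgroup.inf_relIndex_left]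
    rcases Nat.lt_or_ge k 2 with hk2 | hk2
    · rcases Nat.eq_zero_or_pos k with rfl | hk0
      · exact absurd (Subgroup.index_eq_one.mp (by rw [hi, pow_zero])) hNt
      · obtain rfl : k = 1 := by omega
        rw [hi, pow_one]
    · exfalso
      obtain ⟨M, hM⟩ := Sylow.exists_subgroup_card_pow_prime (G := ↥(P : Subgroup G)) p (n := k - 1) (hk ▸ Nat.pow_dvd_pow p (Nat.sub_le k 1))
      have hMidx : M.index = p := by
        have h1 := M.index_mul_card
        rw [hM, hk, show p ^ k = p * p ^ (k - 1) by rw [← pow_succ']; congr 1; omega] at h1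
        exact Nat.eq_of_mul_eq_mul_right (pow_pos hp.pos _) h1
      haveI : M.Normal := Subgroup.normal_of_index_eq_minFac_card (by rw [hMidx, hk, Nat.pow_minFac (by omega), hp.minFac_eq])
      let M' := M.map (P : Subgroup G).subtype
      have hM'P : M' ≤ (P : Subgroup G) := Subgroup.map_subtype_le _
      have hne : M' ⊔ N ≠ ⊤ := by
        intro h
        have hPle : (P : Subgroup G) ≤ M' := fun y hy => by
          obtain ⟨a, ha, b, hb, rfl⟩ := Subgroup.mem_sup_of_normal_right.mp (h ▸ Subgroup.mem_top y)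
          have hbP : b ∈ (P : Subgroup G) := (Subgroup.mul_mem_cancel_left _ (hM'P ha)).mp hy
          have hb1 : b = 1 := Subgroup.mem_bot.mp (hdisj ▸ Subgroup.mem_inf.mpr ⟨hbP, hb⟩)
          rw [hb1, mul_one]; exact ha
        have h2 := Subgroup.card_le_of_le hPle
        rw [Subgroup.card_map_of_injective (P : Subgroup G).subtype_injective, hM, hk, Nat.pow_le_pow_iff_right hp.one_lt] at h2
        omega
      have hcent : N ≤ Subgroup.centralizer (M' : Set G) := by
        have hM'sub : (M'.subgroupOf (M' ⊔ N)).Normal := by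
          have hMp : IsPGroup p (M'.subgroupOf (M' ⊔ N)) := ((P.isPGroup'.to_le hM'P).of_equiv (Subgroup.subgroupOfEquivOfLe le_sup_left).symm)
          obtain ⟨R, hR⟩ := hMp.exists_le_sylow
          rw [show M'.subgroupOf (M' ⊔ N) = (R : Subgroup _) from le_antisymm hR fun y hy => by
            obtain ⟨a, ha, b, hb, hab⟩ := Subgroup.mem_sup_of_normal_right.mp y.2
            have haR : (⟨a, Subgroup.mem_sup_left ha⟩ : ↥(M' ⊔ N)) ∈ (R : Subgroup _) := hR ha
            have hbR : (⟨b, Subgroup.mem_sup_right hb⟩ : ↥(M' ⊔ N)) ∈ (R : Subgroup _) := by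
              have : y = ⟨a, Subgroup.mem_sup_left ha⟩ * ⟨b, Subgroup.mem_sup_right hb⟩ := Subtype.ext hab.symm
              exact (Subgroup.mul_mem_cancel_left _ haR).mp (this ▸ hy)
            obtain ⟨i, hi⟩ := R.isPGroup' ⟨_, hbR⟩
            have h1 : orderOf b ∣ p ^ i := orderOf_dvd_of_pow_eq_one (congrArg (fun z => ((z : ↥(M' ⊔ N)) : G)) (congrArg Subtype.val hi) :)
            have hb1 : b = 1 := orderOf_eq_one_iff.mp (Nat.eq_one_of_dvd_coprimes
              ((hp.coprime_iff_not_dvd.mpr hNp).pow_left i) h1 (Subgroup.orderOf_dvd_natCard _ hb))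
            rw [hb1, mul_one] at hab
            exact Subgroup.mem_subgroupOf.mpr (hab ▸ ha)]
          exact hsub _ hne R
        have hnor : N ≤ Subgroup.normalizer (M' : Set G) :=
          le_sup_right.trans ((Subgroup.normal_subgroupOf_iff_le_normalizer le_sup_left).mp hM'sub)
        intro b hb
        refine Subgroup.mem_centralizer_iff.mpr fun m hm => ?_
        have h1 : m * b * m⁻¹ * b⁻¹ ∈ M' := by
          rw [show m * b * m⁻¹ * b⁻¹ = m * (b * m⁻¹ * b⁻¹) by group]
          exact mul_mem hm ((Subgroup.mem_normalizer_iff.mp (hnor hb) _).mp (inv_mem hm))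
        have h2 : m * b * m⁻¹ * b⁻¹ ∈ N := mul_mem (hNn.conj_mem b hb m) (inv_mem hb)
        have := Subgroup.mem_bot.mp (hdisj ▸ Subgroup.mem_inf.mpr ⟨hM'P h1, h2⟩)
        exact mul_inv_eq_iff_eq_mul.mp (mul_inv_eq_one.mp this)
      have hMn : M'.Normal := by
        rw [← Subgroup.normalizer_eq_top_iff, eq_top_iff, ← hPN]
        refine sup_le (fun y hy => ?_) (hcent.trans (Subgroup.centralizer_le_normalizer _))
        exact Subgroup.le_normalizer_map (P : Subgroup G).subtype
          ⟨⟨y, hy⟩, (Subgroup.normalizer_eq_top_iff.mpr ‹M.Normal›).symm ▸ Subgroup.mem_top _, rfl⟩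
      have h3 : M' ≤ pCore p G := Solv.le_pCore hMn (P.isPGroup'.to_le hM'P)
      rw [hcore, le_bot_iff, ← Subgroup.card_eq_one, Subgroup.card_map_of_injective (P : Subgroup G).subtype_injective, hM] at h3
      exact hp.one_lt.ne' (Nat.dvd_one.mp (h3 ▸ dvd_pow_self p (by omega : k - 1 ≠ 0)))
  have hna : ¬ IsMulCommutative G := fun h => hP (by haveI := h; exact Subgroup.normal_of_isMulCommutative _)
  obtain ⟨hcard, -, -, -⟩ := S3869.result hr hqp hna N ⟨hNc, hre⟩ hidx hNmin
  exact ⟨r, hr, hqp, by rw [← N.index_mul_card, hidx, hcard], N, hNn, hcard, ⟨hNc, hre⟩, hNmin⟩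

end Cfsg.Agent.S3868
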