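import Cfsg.Statements.S3870
import Mathlib
import Cfsg.Agent.Solv.SchurZassenhaus

set_option autoImplicit false
set_option linter.style.haveILetI false
open Cfsg

open scoped Pointwise

namespace Cfsg.Agent.S3870

/-- Let G be a finite simple group whose Sylow p-subgroups are not normal but such that every proper subgroup of G has a normal Sylow p-subgroup. Then any two distinct Sylow p-subgroups of G intersect trivially, and for every Sylow p-subgroup P the normalizer of every non-identity subgroup of P lies in the normalizer of P. -/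
theorem result {G : Type*} [Group G] [Finite G] [IsSimpleGroup G] {p : ℕ} [Fact p.Prime]
    (hnc : ¬ Cfsg.IsPClosed p G) (hsub : ∀ H : Subgroup G, H ≠ ⊤ → Cfsg.IsPClosed p ↥H) :
    (∀ P Q : Sylow p G, P ≠ Q → (P : Subgroup G) ⊓ (Q : Subgroup G) = ⊥) ∧
      ∀ (P : Sylow p G) (R : Subgroup G), R ≤ P → R ≠ ⊥ →
        Subgroup.normalizer (R : Set G) ≤ Subgroup.normalizer ((P : Subgroup G) : Set G) := by
  have key : ∀ P Q : Sylow p G, P ≠ Q → (P : Subgroup G) ⊓ (Q : Subgroup G) = ⊥ := by
    intro P Q hPQ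
    by_contra hne
    let T : Set (Subgroup G) := {D | ∃ A B : Sylow p G, A ≠ B ∧ D = (A : Subgroup G) ⊓ (B : Subgroup G) ∧ (P : Subgroup G) ⊓ (Q : Subgroup G) ≤ D}
    obtain ⟨D, ⟨A, B, hAB, hD, hle⟩, hmax⟩ := (Set.toFinite T).exists_maximal ⟨_, P, Q, hPQ, rfl, le_rfl⟩
    have hD0 : D ≠ ⊥ := fun h => hne (le_bot_iff.mp (h ▸ hle))
    have hN : Subgroup.normalizer (D : Set G) ≠ ⊤ := by
      intro h
      haveI : D.Normal := Subgroup.normalizer_eq_top_iff.mp h
      rcases IsSimpleGroup.eq_bot_or_eq_top_of_normal D inferInstance with h1 | h1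
      · exact hD0 h1
      · apply hAB
        refine Sylow.ext ?_
        rw [h1] at hD
        rw [top_le_iff.mp (hD.le.trans inf_le_left), top_le_iff.mp (hD.le.trans inf_le_right)]
    obtain ⟨S⟩ : Nonempty (Sylow p (Subgroup.normalizer (D : Set G))) := inferInstance
    haveI : (S : Subgroup ↥(Subgroup.normalizer (D : Set G))).Normal := hsub _ hN S
    obtain ⟨R, hR⟩ := (S.isPGroup'.map (Subgroup.normalizer (D : Set G)).subtype).exists_le_sylow
    have hin : ∀ C : Sylow p G, D ≤ (C : Subgroup G) → D ≠ (C : Subgroup G) → C = R := by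
      intro C hDC hDne
      by_contra hCR
      haveI := C.isPGroup'.isNilpotent
      have hlt : D.subgroupOf (C : Subgroup G) < ⊤ := lt_top_iff_ne_top.mpr fun e =>
        hDne (le_antisymm hDC (Subgroup.subgroupOf_eq_top.mp e))
      obtain ⟨c, hc, hcD⟩ := Set.exists_of_ssubset (SetLike.coe_ssubset_coe.mpr (Group.normalizerCondition_of_isNilpotent _ hlt))
      rw [SetLike.mem_coe, ← Subgroup.subgroupOf_normalizer_eq hDC] at hc
      have hmem : ∀ z ∈ (C : Subgroup G) ⊓ Subgroup.normalizer (D : Set G), z ∈ (R : Subgroup G) := by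
        intro z hz
        have hp' : IsPGroup p (((C : Subgroup G) ⊓ Subgroup.normalizer (D : Set G)).subgroupOf (Subgroup.normalizer (D : Set G))) :=
          (C.isPGroup'.to_le inf_le_left).comap_subtype
        have hle2 := S.is_maximal' (hp'.to_sup_of_normal_right S.isPGroup') le_sup_right
        exact hR ⟨⟨z, hz.2⟩, hle2 ▸ Subgroup.mem_sup_left (by exact hz), rfl⟩
      have hDle : D ≤ (C : Subgroup G) ⊓ (R : Subgroup G) :=
        le_inf hDC fun d hd => hmem d ⟨hDC hd, Subgroup.le_normalizer hd⟩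
      exact hcD (hmax ⟨C, R, hCR, rfl, hle.trans hDle⟩ hDle ⟨c.2, hmem _ ⟨c.2, hc⟩⟩)
    have hDA : D ≠ (A : Subgroup G) := fun h => hAB (Sylow.ext (A.is_maximal' B.isPGroup' (h.symm.le.trans (hD.le.trans inf_le_right))).symm)
    have hDB : D ≠ (B : Subgroup G) := fun h => hAB (Sylow.ext (B.is_maximal' A.isPGroup' (h.symm.le.trans (hD.le.trans inf_le_left))))
    exact hAB ((hin A (hD.le.trans inf_le_left) hDA).trans (hin B (hD.le.trans inf_le_right) hDB).symm)
  refine ⟨key, fun P R hRP hR0 n hn => ?_⟩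
  refine (Sylow.smul_eq_iff_mem_normalizer (P := P)).mp ?_
  by_contra hne
  apply hR0
  rw [eq_bot_iff, ← key _ P hne]
  refine le_inf ?_ hRP
  rw [Sylow.coe_subgroup_smul, ← Solv.conj_of_mem_normalizer hn]
  exact Subgroup.pointwise_smul_le_pointwise_smul_iff.mpr hRP

end Cfsg.Agent.S3870
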