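import Cfsg.Statements.S3873
import Mathlib
import Cfsg.Agent.Solv.Cores
import Cfsg.Agent.S3868

set_option autoImplicit false
set_option linter.style.haveILetI false
open Cfsg

namespace Cfsg.Agent.S3873

/-- Say that a finite group is p-exponent closed when its elements of order dividing p form a subgroup. Let G be a finite group that is not p-exponent closed, but all of whose proper subgroups and proper quotients are, and suppose G is neither simple nor a p-group. Then there is a prime q ≠ p such that G has order p · q^e, where e is the multiplicative order of q modulo p, and G has a normal elementary abelian subgroup of order q^e that is a minimal normal subgroup of G. -/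
theorem result {G : Type*} [Group G] [Finite G] {p : ℕ} [Fact p.Prime]
    (hnc : ¬ (∃ H : Subgroup G, (H : Set G) = {g : G | g ^ p = 1})) (hsub : ∀ K : Subgroup G, K ≠ ⊤ → (∃ H : Subgroup ↥K, (H : Set ↥K) = {g : ↥K | g ^ p = 1}))
    (hquo : ∀ (N : Subgroup G) [N.Normal], N ≠ ⊥ → (∃ H : Subgroup (G ⧸ N), (H : Set (G ⧸ N)) = {g : (G ⧸ N) | g ^ p = 1}))
    (hns : ¬ IsSimpleGroup G) (hnp : ¬ IsPGroup p G) :
    ∃ q : ℕ, q.Prime ∧ q ≠ p ∧ Nat.card G = p * q ^ orderOf (q : ZMod p) ∧
      ∃ A : Subgroup G, A.Normal ∧ Nat.card ↥A = q ^ orderOf (q : ZMod p) ∧ Cfsg.IsElementaryAbelian q A ∧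
        ∀ B : Subgroup G, B.Normal → B ≤ A → B = ⊥ ∨ B = A := by
  have hp : p.Prime := Fact.out
  have hgen : Subgroup.closure {g : G | g ^ p = 1} = ⊤ := by
    by_contra hne
    obtain ⟨H, hH⟩ := hsub _ hne
    refine hnc ⟨H.map (Subgroup.closure {g : G | g ^ p = 1}).subtype, Set.ext fun g => ⟨?_, fun hg => ?_⟩⟩
    · rintro ⟨y, hy, rfl⟩
      rw [hH] at hy
      exact congrArg Subtype.val hy
    · refine ⟨⟨g, Subgroup.subset_closure hg⟩, ?_, rfl⟩
      rw [hH]; exact Subtype.ext hg
  have hquot : ∀ (M : Subgroup G) [M.Normal], M ≠ ⊥ → ∀ u : G ⧸ M, u ^ p = 1 := by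
    intro M _ hM u
    obtain ⟨H, hH⟩ := hquo M hM
    have htop : Subgroup.closure {g : G | g ^ p = 1} ≤ H.comap (QuotientGroup.mk' M) := by
      rw [Subgroup.closure_le]
      intro g hg
      show QuotientGroup.mk' M g ∈ (H : Set (G ⧸ M))
      rw [hH]
      show (QuotientGroup.mk' M g) ^ p = 1
      rw [← map_pow, show g ^ p = 1 from hg, map_one]
    obtain ⟨g, rfl⟩ := QuotientGroup.mk'_surjective M u
    have : QuotientGroup.mk' M g ∈ (H : Set (G ⧸ M)) := htop (hgen ▸ Subgroup.mem_top g)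
    rw [hH] at this
    exact this
  have hqp : ∀ (M : Subgroup G) [M.Normal], M ≠ ⊥ → IsPGroup p (G ⧸ M) := fun M _ hM u =>
    ⟨1, by rw [pow_one]; exact hquot M hM u⟩
  haveI : Nontrivial G := by
    by_contra h
    rw [not_nontrivial_iff_subsingleton] at h
    exact hnp fun g => ⟨0, Subsingleton.elim _ _⟩
  obtain ⟨N₀, hN₀n, hN₀⟩ : ∃ N : Subgroup G, N.Normal ∧ N ≠ ⊥ ∧ N ≠ ⊤ := by
    by_contra hcon
    push Not at hcon
    exact hns { eq_bot_or_eq_top_of_normal := fun N hN => or_iff_not_imp_left.mpr (hcon N hN) }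
  obtain ⟨N, hNn, hN0, hNle, hNmin⟩ := Solv.exists_minimal_normal hN₀n hN₀.1
  haveI := hNn
  have hNt : N ≠ ⊤ := fun h => hN₀.2 (top_le_iff.mp (h ▸ hNle))
  have hNp : ∀ g ∈ N, g ^ p = 1 → g = 1 := by
    obtain ⟨H, hH⟩ := hsub N hNt
    haveI : H.Characteristic := by
      rw [Subgroup.characteristic_iff_map_le]
      rintro φ _ ⟨z, hz, rfl⟩
      have hz' : z ∈ (H : Set ↥N) := hz
      rw [hH] at hz'
      rw [← SetLike.mem_coe, hH]
      show (φ z) ^ p = 1
      rw [← map_pow, show z ^ p = 1 from hz', map_one]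
    rcases hNmin (H.map N.subtype) inferInstance (Subgroup.map_subtype_le _) with h | h
    · intro g hg hgp
      have : g ∈ H.map N.subtype := ⟨⟨g, hg⟩, by rw [hH]; exact Subtype.ext hgp, rfl⟩
      rwa [h, Subgroup.mem_bot] at this
    · exfalso
      apply hnp
      intro g
      refine ⟨2, ?_⟩
      have h1 : g ^ p ∈ N := (QuotientGroup.eq_one_iff _).mp (by rw [QuotientGroup.mk_pow]; exact hquot N hN0 g)
      obtain ⟨y, hy, hye⟩ := h.ge h1
      have hy' : y ∈ (H : Set ↥N) := hy
      rw [hH] at hy'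
      rw [pow_two, pow_mul, ← hye]
      exact congrArg Subtype.val hy'
  have hexp : ∀ (R : Subgroup G), IsPGroup p R → ∀ g ∈ R, g ^ p = 1 := by
    intro R hR g hg
    have h1 : g ^ p ∈ N := (QuotientGroup.eq_one_iff _).mp (by rw [QuotientGroup.mk_pow]; exact hquot N hN0 g)
    obtain ⟨k, hk⟩ := hR ⟨g, hg⟩
    have h2 : (g ^ p) ^ p ^ k = 1 := by
      rw [← pow_mul, mul_comm, pow_mul, show g ^ p ^ k = 1 from congrArg Subtype.val hk, one_pow]
    have h3 : ∀ j, ∀ u ∈ N, u ^ p ^ j = 1 → u = 1 := by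
      intro j
      induction j with
      | zero => intro u _ hu; simpa using hu
      | succ j ih =>
        intro u hu hup
        rw [pow_succ', pow_mul] at hup
        exact hNp u hu (ih _ (N.pow_mem hu p) hup)
    exact h3 k _ h1 h2
  refine S3868.result ?_ ?_ ?_ hns
  · intro hcl
    obtain ⟨P⟩ : Nonempty (Sylow p G) := inferInstance
    haveI := hcl P
    refine hnc ⟨P, Set.ext fun g => ⟨fun hg => hexp _ P.isPGroup' g hg, fun hg => ?_⟩⟩
    have hgp : IsPGroup p (Subgroup.zpowers g) := by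
      rintro ⟨z, hz⟩
      obtain ⟨i, rfl⟩ := Subgroup.mem_zpowers_iff.mp hz
      refine ⟨1, Subtype.ext ?_⟩
      show (g ^ i) ^ p ^ 1 = 1
      rw [pow_one, ← zpow_natCast, ← zpow_mul, mul_comm, zpow_mul, zpow_natCast, show g ^ p = 1 from hg, one_zpow]
    exact (P.is_maximal' (hgp.to_sup_of_normal_right P.isPGroup') le_sup_right).le (Subgroup.mem_sup_left (Subgroup.mem_zpowers g))
  · intro K hK P
    obtain ⟨H, hH⟩ := hsub K hK
    have hHp : IsPGroup p H := fun z => ⟨1, Subtype.ext (by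
      have hz' : (z : K) ∈ (H : Set ↥K) := z.2
      rw [hH] at hz'
      rw [pow_one]
      exact hz')⟩
    have hle : (P : Subgroup K) ≤ H := fun z hz => by
      rw [← SetLike.mem_coe, hH]
      exact Subtype.ext (hexp ((P : Subgroup K).map K.subtype) (P.isPGroup'.map _) z ⟨z, hz, rfl⟩)
    rw [← P.is_maximal' hHp hle]
    exact ⟨fun z hz c => by
      rw [← SetLike.mem_coe, hH] at hz ⊢
      show (c * z * c⁻¹) ^ p = 1
      rw [conj_pow, show z ^ p = 1 from hz, mul_one, mul_inv_cancel]⟩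
  · intro M _ hM P
    rw [show (P : Subgroup (G ⧸ M)) = ⊤ from (P.is_maximal' ((hqp M hM).to_subgroup ⊤) le_top).symm]
    infer_instance

end Cfsg.Agent.S3873
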