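import Cfsg.Statements.S3889
import Mathlib

set_option autoImplicit false
set_option linter.style.haveILetI false
open Cfsg

namespace Cfsg.Agent.S3889

/-- A finite abelian group that is the union of a family of proper subgroups any two of which intersect trivially is elementary abelian: its exponent is a prime. -/
theorem result {G : Type*} [CommGroup G] [Finite G] (𝓑 : Set (Subgroup G)) (hprop : ∀ B ∈ 𝓑, B ≠ ⊤)
    (hcov : ∀ g : G, ∃ B ∈ 𝓑, g ∈ B) (hdisj : ∀ B ∈ 𝓑, ∀ C ∈ 𝓑, B ≠ C → B ⊓ C = ⊥) :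
    (Monoid.exponent G).Prime := by
  obtain ⟨g, hg⟩ := Monoid.exists_orderOf_eq_exponent (Monoid.ExponentExists.of_finite (G := G))
  obtain ⟨B, hB, hgB⟩ := hcov g
  obtain ⟨a, -, ha⟩ := Set.exists_of_ssubset (SetLike.coe_ssubset_coe.mpr (lt_top_iff_ne_top.mpr (hprop B hB)))
  have hne : g ≠ 1 := fun h => by
    have : Monoid.exponent G = 1 := by rw [← hg, h, orderOf_one]
    have ha1 : a = 1 := orderOf_eq_one_iff.mp (Nat.dvd_one.mp (this ▸ Monoid.order_dvd_exponent a))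
    exact ha (ha1 ▸ one_mem B)
  have key : ∀ u ∉ B, ∀ m : ℕ, u ^ m = 1 → g ^ m = 1 := by
    intro u hu m hm
    obtain ⟨C, hC, hguC⟩ := hcov (g * u)
    have hCB : C ≠ B := fun h => hu ((Subgroup.mul_mem_cancel_left B hgB).mp (h ▸ hguC))
    have : g ^ m ∈ C ⊓ B := ⟨by simpa [mul_pow, hm] using C.pow_mem hguC m, B.pow_mem hgB m⟩
    rwa [hdisj C hC B hB hCB, Subgroup.mem_bot] at this
  obtain ⟨q, hq, hqd⟩ := Nat.exists_prime_and_dvd (show Monoid.exponent G ≠ 1 from fun h => hne (orderOf_eq_one_iff.mp (hg.trans h)))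
  obtain ⟨D, hD, haD⟩ := hcov a
  have haq : a ^ q = 1 := by
    by_cases hin : a ^ q ∈ B
    · have : a ^ q ∈ D ⊓ B := ⟨D.pow_mem haD q, hin⟩
      rwa [hdisj D hD B hB (fun h => ha (h ▸ haD)), Subgroup.mem_bot] at this
    · exfalso
      obtain ⟨k, hk⟩ := hqd
      have h1 : (a ^ q) ^ k = 1 := by rw [← pow_mul, ← hk]; exact Monoid.pow_exponent_eq_one a
      have h2 := orderOf_dvd_of_pow_eq_one (key _ hin k h1)
      rw [hg] at h2
      have hk0 : 0 < k := Nat.pos_of_mul_pos_left (hk ▸ Nat.pos_of_ne_zero Monoid.exponent_ne_zero_of_finite)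
      have h3 := Nat.le_of_dvd hk0 h2
      have := hq.two_le
      nlinarith
  have : Monoid.exponent G = q :=
    Nat.dvd_antisymm (hg ▸ orderOf_dvd_of_pow_eq_one (key a ha q haq)) hqd
  rwa [this]

end Cfsg.Agent.S3889
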