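import Cfsg.Statements.S4263
import Mathlib

set_option autoImplicit false
open Cfsg

namespace Cfsg.Agent.S4263

open Subgroup

theorem pgroup_pow_index_mem {P : Type*} [Group P] [Finite P] {p : ℕ} [hp : Fact p.Prime]
    (hP : IsPGroup p P) (K : Subgroup P) (x : P) : x ^ K.index ∈ K := by
  obtain ⟨n, hn⟩ := hP.index K
  obtain ⟨s, hs⟩ := (IsPGroup.iff_orderOf.mp hP) x
  have hcard : Nat.card (P ⧸ K) = p ^ n := hn
  let a : P ⧸ K := ((1 : P) : P ⧸ K)
  have hd : MulAction.period x a ∣ p ^ s := hs ▸ MulAction.period_dvd_orderOf x a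
  obtain ⟨j, hj, hjeq⟩ := (Nat.dvd_prime_pow hp.out).mp hd
  have hle : MulAction.period x a ≤ p ^ n := by
    haveI : Fintype (P ⧸ K) := Fintype.ofFinite _
    have : ∃ i ∈ Finset.range (p ^ n + 1), ∃ i' ∈ Finset.range (p ^ n + 1), i ≠ i' ∧
        x ^ i • a = x ^ i' • a := by
      apply Finset.exists_ne_map_eq_of_card_lt_of_maps_to (t := (Finset.univ : Finset (P ⧸ K)))
      · rw [Finset.card_univ, ← Nat.card_eq_fintype_card, hcard, Finset.card_range]
        omega
      · intro i _; simp
    obtain ⟨i, hi, i', hi', hne, he⟩ := this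
    rw [Finset.mem_range] at hi hi'
    wlog h : i < i' generalizing i i'
    · exact this i' hi' i hi hne.symm he.symm (by omega)
    have : x ^ (i' - i) • a = a := by
      have h2 : x ^ i' • a = x ^ i • (x ^ (i' - i) • a) := by
        rw [smul_smul, ← pow_add]; congr 2; omega
      rw [h2] at he
      exact (smul_left_cancel _ he).symm
    exact (MulAction.period_le_of_fixed (by omega) this).trans (by omega)
  have hdvd : MulAction.period x a ∣ p ^ n := by
    rw [hjeq] at hle ⊢
    exact Nat.pow_dvd_pow p ((Nat.pow_le_pow_iff_right hp.out.one_lt).mp hle)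
  obtain ⟨c, hc⟩ := hdvd
  have hfix : x ^ K.index • a = a := by
    rw [show K.index = p ^ n from hn, hc]
    exact MulAction.pow_smul_eq_iff_period_dvd.mpr (dvd_mul_right _ _)
  rw [MulAction.Quotient.smul_mk, smul_eq_mul, mul_one, QuotientGroup.eq, mul_one] at hfix
  simpa using K.inv_mem hfix

theorem mem_of_primePow_parts {G : Type*} [Group G] [Finite G] (K : Subgroup G) (x : G)
    (h : ∀ y ∈ zpowers x, IsPrimePow (orderOf y) → y ∈ K) : x ∈ K := by
  have key : ∀ n : ℕ, ∀ y ∈ zpowers x, orderOf y = n → y ∈ K := by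
    intro n
    induction n using Nat.recOnPosPrimePosCoprime with
    | prime_pow p k hp hk =>
      intro y hy he
      exact h y hy (he ▸ (hp.isPrimePow.pow hk.ne'))
    | zero => intro y _ he; exact absurd he (orderOf_pos y).ne'
    | one => intro y _ he; rw [orderOf_eq_one_iff.mp he]; exact K.one_mem
    | coprime a b ha hb hab iha ihb =>
      intro y hy he
      have h1 : orderOf (y ^ b) = a := by
        rw [orderOf_pow' _ (by omega), he, Nat.gcd_mul_left_left]
        exact Nat.mul_div_cancel a (by omega)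
      have h2 : orderOf (y ^ a) = b := by
        rw [orderOf_pow' _ (by omega), he, Nat.gcd_mul_right_left]
        exact Nat.mul_div_cancel_left b (by omega)
      have m1 := iha (y ^ b) ((zpowers x).pow_mem hy b) h1
      have m2 := ihb (y ^ a) ((zpowers x).pow_mem hy a) h2
      have hg := Nat.gcd_eq_gcd_ab a b
      rw [hab.gcd_eq_one] at hg
      have : y = (y ^ a) ^ (Nat.gcdA a b) * (y ^ b) ^ (Nat.gcdB a b) := by
        rw [← zpow_natCast y a, ← zpow_natCast y b, ← zpow_mul, ← zpow_mul, ← zpow_add, ← hg]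
        simp
      rw [this]
      exact K.mul_mem (K.zpow_mem m2 _) (K.zpow_mem m1 _)
  exact key _ x (mem_zpowers x) rfl

theorem isPGroup_core (p : ℕ) [Fact p.Prime] (G : Type*) [Group G] :
    IsPGroup p ↥(pCore p G) :=
  Sylow.sSup_of_normal _ (fun H hH => hH.2) (fun H hH => hH.1)

theorem core_normal (p : ℕ) (G : Type*) [Group G] : (pCore p G).Normal :=
  Subgroup.sSup_normal _ (fun _ h => h.1)

theorem core_le_fitting (p : ℕ) [Fact p.Prime] (G : Type*) [Group G] [Finite G] :
    pCore p G ≤ fittingSubgroup G :=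
  le_sSup ⟨core_normal p G, (isPGroup_core p G).isNilpotent⟩

theorem fitting_le_iSup_core (G : Type*) [Group G] [Finite G] :
    fittingSubgroup G ≤ ⨆ p : {p // p ∈ (Nat.card G).primeFactors}, pCore (p : ℕ) G := by
  refine sSup_le ?_
  rintro N ⟨hN, hnil⟩ x hx
  refine mem_of_primePow_parts _ x (fun y hy hpp => ?_)
  have hyN : y ∈ N := (zpowers_le.mpr hx) hy
  obtain ⟨p, k, hp, hk, hpk⟩ := hpp
  have hp' : p.Prime := Nat.prime_iff.mpr hp
  haveI : Fact p.Prime := ⟨hp'⟩
  have hmem : p ∈ (Nat.card G).primeFactors := by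
    refine Nat.mem_primeFactors.mpr ⟨hp', ?_, Nat.card_pos.ne'⟩
    exact (dvd_pow_self p hk.ne').trans (hpk ▸ orderOf_dvd_natCard y)
  refine le_iSup (fun p : {p // p ∈ (Nat.card G).primeFactors} => pCore (p : ℕ) G) ⟨p, hmem⟩ ?_
  have hz : IsPGroup p ↥(zpowers (⟨y, hyN⟩ : N)) := by
    refine IsPGroup.of_card (n := k) ?_
    rw [Nat.card_zpowers, ← orderOf_coe]
    exact hpk.symm
  obtain ⟨P, hP⟩ := hz.exists_le_sylow
  haveI : (P : Subgroup N).Normal := inferInstance
  haveI : (P : Subgroup N).Characteristic := P.characteristic_of_normal inferInstance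
  have hPn : ((P : Subgroup N).map N.subtype).Normal := inferInstance
  have : (P : Subgroup N).map N.subtype ≤ pCore p G := le_sSup ⟨hPn, P.isPGroup'.map _⟩
  exact this ⟨⟨y, hyN⟩, hP (mem_zpowers _), rfl⟩

theorem core_pow_index_mem {G : Type*} [Group G] [Finite G] (p : ℕ) [Fact p.Prime]
    (H : Subgroup G) (x : G) (hx : x ∈ pCore p G) : x ^ H.index ∈ H := by
  haveI := core_normal p G
  have h1 := pgroup_pow_index_mem (isPGroup_core p G) (H.subgroupOf (pCore p G)) ⟨x, hx⟩
  rw [mem_subgroupOf] at h1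
  change x ^ H.relIndex (pCore p G) ∈ H at h1
  set P := pCore p G
  have e1 : P.relIndex (H ⊔ P) = P.relIndex H := relIndex_sup_right _ _
  have e2 : Nat.card ↥(H ⊔ P) = Nat.card P * P.relIndex H := by
    rw [← e1, ← relIndex_bot_left, ← relIndex_bot_left,
      relIndex_mul_relIndex _ _ _ bot_le le_sup_right]
  have e3 : Nat.card H = Nat.card ↥(P ⊓ H) * P.relIndex H := by
    rw [← inf_relIndex_right P H, ← relIndex_bot_left, ← relIndex_bot_left,
      relIndex_mul_relIndex _ _ _ bot_le inf_le_right]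
  have e4 : Nat.card P = Nat.card ↥(H ⊓ P) * H.relIndex P := by
    rw [← inf_relIndex_right H P, ← relIndex_bot_left, ← relIndex_bot_left,
      relIndex_mul_relIndex _ _ _ bot_le inf_le_right]
  have e5 : Nat.card H * H.relIndex (H ⊔ P) = Nat.card ↥(H ⊔ P) := by
    rw [← relIndex_bot_left, ← relIndex_bot_left, relIndex_mul_relIndex _ _ _ bot_le le_sup_left]
  have e6 : H.relIndex (H ⊔ P) = H.relIndex P := by
    have hpos : 0 < Nat.card H := Nat.card_pos
    rw [e2, e4, inf_comm H P, mul_right_comm, ← e3] at e5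
    exact Nat.eq_of_mul_eq_mul_left hpos e5
  have : H.relIndex P ∣ H.index := e6 ▸ ⟨_, (relIndex_mul_index le_sup_left).symm⟩
  obtain ⟨c, hc⟩ := this
  rw [hc, pow_mul]
  exact H.pow_mem h1 c

/-- Let G be a finite group. An element x lies in the Fitting subgroup F(G) if and only if, for every subgroup H of G, the power x^[G : H] lies in H. -/
theorem result {G : Type*} [Group G] [Finite G] (x : G) :
    x ∈ Cfsg.fittingSubgroup G ↔ ∀ H : Subgroup G, x ^ H.index ∈ H := by
  constructor
  · intro hx H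
    have hx' := fitting_le_iSup_core G hx
    have hcomm : Pairwise fun i j : {p // p ∈ (Nat.card G).primeFactors} =>
        ∀ a b : G, a ∈ pCore (i : ℕ) G → b ∈ pCore (j : ℕ) G → Commute a b := by
      intro i j hij a b ha hb
      haveI : Fact (i : ℕ).Prime := ⟨Nat.prime_of_mem_primeFactors i.2⟩
      haveI : Fact (j : ℕ).Prime := ⟨Nat.prime_of_mem_primeFactors j.2⟩
      refine commute_of_normal_of_disjoint _ _ (core_normal _ G) (core_normal _ G) ?_ a b ha hb
      exact IsPGroup.disjoint_of_ne _ _ (fun e => hij (Subtype.ext e)) _ _ (isPGroup_core (i : ℕ) G) (isPGroup_core (j : ℕ) G)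
    rw [← noncommPiCoprod_range (hcomm := hcomm)] at hx'
    obtain ⟨f, rfl⟩ := hx'
    rw [← map_pow]
    refine (congrArg (· ∈ H) (MonoidHom.noncommPiCoprod_apply
      (fun i : {p // p ∈ (Nat.card G).primeFactors} => (pCore (i : ℕ) G).subtype)
      (hcomm := commute_subtype_of_commute hcomm) (f ^ H.index))).mpr ?_
    refine Subgroup.noncommProd_mem H _ (fun i _ => ?_)
    haveI : Fact (i : ℕ).Prime := ⟨Nat.prime_of_mem_primeFactors i.2⟩
    exact core_pow_index_mem (i : ℕ) H (f i : G) (f i).2
  · intro h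
    refine mem_of_primePow_parts _ x (fun y hy hpp => ?_)
    obtain ⟨p, k, hp, hk, hpk⟩ := hpp
    have hp' : p.Prime := Nat.prime_iff.mpr hp
    haveI : Fact p.Prime := ⟨hp'⟩
    refine core_le_fitting p G ?_
    have hall : ∀ P : Sylow p G, y ∈ (P : Subgroup G) := by
      intro P
      obtain ⟨i, rfl⟩ := mem_zpowers_iff.mp hy
      have h1 : (x ^ i) ^ (P : Subgroup G).index ∈ (P : Subgroup G) := by
        rw [← zpow_natCast, ← zpow_mul, mul_comm, zpow_mul, zpow_natCast]
        exact (P : Subgroup G).zpow_mem (h P) i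
      have hc : (P : Subgroup G).index.Coprime (orderOf (x ^ i)) := by
        rw [← hpk]
        exact Nat.Coprime.pow_right _ ((hp'.coprime_iff_not_dvd.mpr P.not_dvd_index).symm)
      obtain ⟨m, hm⟩ := exists_pow_eq_self_of_coprime hc
      rw [← hm]
      exact (P : Subgroup G).pow_mem h1 m
    have hn : (⨅ P : Sylow p G, (P : Subgroup G)).Normal := by
      refine ⟨fun a ha g => ?_⟩
      rw [mem_iInf] at ha ⊢
      intro P
      have := ha (g⁻¹ • P)
      rw [Sylow.coe_subgroup_smul] at this
      rw [Subgroup.mem_pointwise_smul_iff_inv_smul_mem] at this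
      simpa [MulAut.smul_def] using this
    have hpg : IsPGroup p ↥(⨅ P : Sylow p G, (P : Subgroup G)) :=
      (Classical.arbitrary (Sylow p G)).isPGroup'.to_le (iInf_le _ _)
    have : (⨅ P : Sylow p G, (P : Subgroup G)) ≤ pCore p G := le_sSup ⟨hn, hpg⟩
    exact this (mem_iInf.mpr hall)

end Cfsg.Agent.S4263
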