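import Cfsg.Statements.S4262
import Cfsg.Agent.S4263
import Mathlib

set_option autoImplicit false
open Cfsg

namespace Cfsg.Agent.S4262

open Subgroup

/-- The hypothesis of S4262. -/
def MaxCent (G : Type*) [Group G] : Prop :=
  ∀ g : G, g ∉ Subgroup.center G → IsCoatom (Subgroup.centralizer ({g} : Set G))

/-- Centralizer of one element. -/
abbrev cz {G : Type*} [Group G] (g : G) : Subgroup G := Subgroup.centralizer ({g} : Set G)

theorem mem_cz {G : Type*} [Group G] {g z : G} : z ∈ cz g ↔ z * g = g * z :=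
  mem_centralizer_singleton_iff

theorem self_mem_cz {G : Type*} [Group G] (g : G) : g ∈ cz g := mem_cz.mpr rfl

theorem center_le_cz {G : Type*} [Group G] (g : G) : center G ≤ cz g :=
  fun z hz => mem_cz.mpr ((mem_center_iff.mp hz) g).symm

theorem mem_center_of_cz_eq_top {G : Type*} [Group G] {g : G} (h : cz g = ⊤) : g ∈ center G :=
  mem_center_iff.mpr fun z => mem_cz.mp (h ▸ mem_top z)

theorem cz_le_cz_pow {G : Type*} [Group G] (g : G) (n : ℕ) : cz g ≤ cz (g ^ n) :=
  fun z hz => mem_cz.mpr (Commute.pow_right (mem_cz.mp hz) n)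

variable {G : Type*} [Group G] [Finite G]

theorem cz_eq_of_le (h : MaxCent G) {a b : G} (ha : a ∉ center G) (hb : b ∉ center G)
    (hle : cz a ≤ cz b) : cz a = cz b := by
  rcases eq_or_lt_of_le hle with e | l
  · exact e
  · exact absurd (mem_center_of_cz_eq_top ((h a ha).2 _ l)) hb

/-- Every centralizer is the centralizer of a prime power element. -/
theorem exists_primePow (h : MaxCent G) {y : G} (hy : y ∉ center G) :
    ∃ (q : ℕ) (z : G), q.Prime ∧ (∃ k, orderOf z = q ^ k) ∧ z ∉ center G ∧ cz y = cz z := by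
  by_contra hne
  refine hy (Cfsg.Agent.S4263.mem_of_primePow_parts _ y fun z hz hpp => ?_)
  by_contra hzc
  obtain ⟨q, k, hq, hk, hqk⟩ := hpp
  refine hne ⟨q, z, Nat.prime_iff.mpr hq, ⟨k, hqk.symm⟩, hzc, cz_eq_of_le h hy hzc ?_⟩
  intro w hw
  obtain ⟨i, rfl⟩ := mem_zpowers_iff.mp hz
  exact mem_cz.mpr (Commute.zpow_right (mem_cz.mp hw) i)

/-- In the centralizer of a noncentral `q`-element, the `q'`-elements are central. -/
theorem qprime_central (h : MaxCent G) {q : ℕ} [hq : Fact q.Prime] {x m : G}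
    (hx : ∃ k, orderOf x = q ^ k) (hxc : x ∉ center G) (hm : m ∈ cz x) (hmq : ¬ q ∣ orderOf m)
    {z : G} (hz : z ∈ cz x) : z * m = m * z := by
  by_cases hmc : m ∈ center G
  · exact (mem_center_iff.mp hmc) z
  obtain ⟨k, hk⟩ := hx
  have hco : (orderOf x).Coprime (orderOf m) :=
    hk ▸ Nat.Coprime.pow_left k (hq.out.coprime_iff_not_dvd.mpr hmq)
  have hc : Commute x m := (mem_cz.mp hm).symm
  have e1 : ∃ a : ℕ, x = (x * m) ^ a := by
    obtain ⟨a, ha⟩ := exists_pow_eq_self_of_coprime (x := x) hco.symm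
    refine ⟨orderOf m * a, ?_⟩
    rw [pow_mul, hc.mul_pow, pow_orderOf_eq_one, mul_one, ha]
  have e2 : ∃ a : ℕ, m = (x * m) ^ a := by
    obtain ⟨a, ha⟩ := exists_pow_eq_self_of_coprime (x := m) hco
    refine ⟨orderOf x * a, ?_⟩
    rw [pow_mul, hc.mul_pow, pow_orderOf_eq_one, one_mul, ha]
  obtain ⟨a, ha⟩ := e1
  obtain ⟨b, hb⟩ := e2
  have hxm : x * m ∉ center G := fun hmem => hxc (by rw [ha]; exact Subgroup.pow_mem _ hmem a)
  have l1 : cz (x * m) ≤ cz x := le_of_le_of_eq (cz_le_cz_pow _ a) (by rw [← ha])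
  have l2 : cz (x * m) ≤ cz m := le_of_le_of_eq (cz_le_cz_pow _ b) (by rw [← hb])
  rw [cz_eq_of_le h hxm hxc l1] at l2
  exact mem_cz.mp (l2 hz)

theorem exists_qPart_pow (q : ℕ) [hq : Fact q.Prime] (g : G) :
    ∃ k : ℕ, ¬ q ∣ orderOf (g ^ q ^ k) := by
  refine ⟨(orderOf g).factorization q, ?_⟩
  rw [orderOf_pow_of_dvd (pow_ne_zero _ hq.out.ne_zero) (Nat.ordProj_dvd _ _)]
  exact Nat.not_dvd_ordCompl hq.out (orderOf_pos g).ne'

theorem isPGroup_quotient_center (h : MaxCent G) {q : ℕ} [Fact q.Prime] {x : G}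
    (hx : ∃ k, orderOf x = q ^ k) (hxc : x ∉ center G) :
    IsPGroup q (↥(cz x) ⧸ center ↥(cz x)) := by
  intro w
  obtain ⟨g, rfl⟩ := QuotientGroup.mk_surjective w
  obtain ⟨k, hk⟩ := exists_qPart_pow q (g : G)
  refine ⟨k, ?_⟩
  rw [← QuotientGroup.mk_pow, QuotientGroup.eq_one_iff, mem_center_iff]
  intro z
  have := qprime_central h hx hxc ((cz x).pow_mem g.2 (q ^ k)) hk z.2
  exact Subtype.ext (by simpa using this)

theorem cz_nilpotent (h : MaxCent G) {q : ℕ} [Fact q.Prime] {x : G}
    (hx : ∃ k, orderOf x = q ^ k) (hxc : x ∉ center G) : Group.IsNilpotent ↥(cz x) :=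
  Group.of_quotient_center_nilpotent (isPGroup_quotient_center h hx hxc).isNilpotent

theorem solvable_of_normal_coatom {M : Subgroup G} (hn : M.Normal) (hc : IsCoatom M)
    (hs : Group.IsSolvable ↥M) : Group.IsSolvable G := by
  haveI := hn
  haveI := hs
  have hcyc : IsCyclic (G ⧸ M) := by
    obtain ⟨a, ha⟩ : ∃ a : G, a ∉ M := by
      by_contra hne
      push Not at hne
      exact hc.1 (eq_top_iff.mpr fun g _ => hne g)
    refine ⟨⟨(a : G ⧸ M), fun w => ?_⟩⟩
    have : (zpowers (a : G ⧸ M)).comap (QuotientGroup.mk' M) = ⊤ := by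
      refine hc.2 _ (lt_of_le_of_ne ?_ ?_)
      · intro m hm
        rw [mem_comap, QuotientGroup.mk'_apply, (QuotientGroup.eq_one_iff m).mpr hm]
        exact one_mem _
      · intro e
        exact ha (e ▸ mem_zpowers (a : G ⧸ M))
    obtain ⟨g, rfl⟩ := QuotientGroup.mk_surjective w
    exact (this ▸ mem_top g : g ∈ (zpowers (a : G ⧸ M)).comap (QuotientGroup.mk' M))
  haveI : Group.IsSolvable (G ⧸ M) :=
    Group.isSolvable_of_comm (fun a b => (IsCyclic.commGroup (α := G ⧸ M)).mul_comm a b)
  exact Group.isSolvable_of_ker_le_range M.subtype (QuotientGroup.mk' M)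
    (by rw [QuotientGroup.ker_mk', range_subtype])

variable (G) in
/-- No centralizer of a noncentral element is normal, unless `G` is solvable. -/
theorem not_normal_cz (h : MaxCent G) (hns : ¬ Group.IsSolvable G) {q : ℕ} [Fact q.Prime] {x : G}
    (hx : ∃ k, orderOf x = q ^ k) (hxc : x ∉ center G) : ¬ (cz x).Normal := by
  intro hn
  haveI := cz_nilpotent h hx hxc
  exact hns (solvable_of_normal_coatom hn (h x hxc) inferInstance)

/-- The centralizer of a noncentral `q`-element is the normalizer of a Sylow subgroup containing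
the element. -/
theorem exists_sylow (h : MaxCent G) (hns : ¬ Group.IsSolvable G) {q : ℕ} [hq : Fact q.Prime]
    {x : G} (hx : ∃ k, orderOf x = q ^ k) (hxc : x ∉ center G) :
    ∃ Q : Sylow q G, x ∈ (Q : Subgroup G) ∧ (Q : Subgroup G) ≤ cz x ∧
      cz x = normalizer ((Q : Subgroup G) : Set G) := by
  haveI := cz_nilpotent h hx hxc
  let P : Sylow q ↥(cz x) := Classical.arbitrary _
  haveI hPn : (P : Subgroup ↥(cz x)).Normal := inferInstance
  set R : Subgroup G := (P : Subgroup ↥(cz x)).map (cz x).subtype with hR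
  have hRle : R ≤ cz x := map_subtype_le _
  have hRp : IsPGroup q ↥R := P.isPGroup'.map _
  have hqel : ∀ g : G, g ∈ cz x → (∃ k, orderOf g = q ^ k) → g ∈ R := by
    intro g hg hk
    obtain ⟨k, hk⟩ := hk
    have hz : IsPGroup q ↥(zpowers (⟨g, hg⟩ : ↥(cz x))) := by
      refine IsPGroup.of_card (n := k) ?_
      rw [Nat.card_zpowers, ← orderOf_coe]
      exact hk
    have : zpowers (⟨g, hg⟩ : ↥(cz x)) ≤ (P : Subgroup ↥(cz x)) := by
      obtain ⟨P', hP'⟩ := hz.exists_le_sylow
      haveI := P.unique_of_normal hPn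
      exact Subsingleton.elim P' P ▸ hP'
    exact ⟨⟨g, hg⟩, this (mem_zpowers _), rfl⟩
  have hxR : x ∈ R := hqel x (self_mem_cz x) hx
  have hnorm : cz x ≤ normalizer (R : Set G) := by
    intro g hg
    rw [mem_normalizer_iff]
    intro r
    constructor
    · rintro ⟨r', hr', rfl⟩
      exact ⟨⟨g, hg⟩ * r' * ⟨g, hg⟩⁻¹, hPn.conj_mem r' hr' _, rfl⟩
    · intro hr
      obtain ⟨r', hr', e⟩ := hr
      refine ⟨⟨g, hg⟩⁻¹ * r' * (⟨g, hg⟩⁻¹)⁻¹, hPn.conj_mem r' hr' _, ?_⟩
      simp only [coe_subtype] at e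
      simp [e, mul_assoc]
  have hne : normalizer (R : Set G) ≠ ⊤ := by
    intro htop
    haveI hRn : R.Normal := normalizer_eq_top_iff.mp htop
    apply not_normal_cz G h hns hx hxc
    have hCle : centralizer (R : Set G) ≤ cz x :=
      centralizer_le (Set.singleton_subset_iff.mpr hxR)
    have e : cz x = R ⊔ centralizer (R : Set G) := by
      refine le_antisymm ?_ (sup_le hRle hCle)
      intro g hg
      refine Cfsg.Agent.S4263.mem_of_primePow_parts _ g fun z hz hpp => ?_
      obtain ⟨r, k, hr, hk, hrk⟩ := hpp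
      have hzc : z ∈ cz x := (zpowers_le.mpr hg) hz
      by_cases hrq : r = q
      · exact mem_sup_left (hqel z hzc ⟨k, hrq ▸ hrk.symm⟩)
      · refine mem_sup_right (mem_centralizer_iff.mpr fun w hw => ?_)
        refine qprime_central h hx hxc hzc ?_ (hRle hw)
        rw [← hrk]
        intro hd
        exact hrq ((Nat.prime_dvd_prime_iff_eq hq.out (Nat.prime_iff.mpr hr)).mp
          (hq.out.dvd_of_dvd_pow hd)).symm
    rw [e]
    infer_instance
  have hN : cz x = normalizer (R : Set G) := by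
    rcases eq_or_lt_of_le hnorm with e | l
    · exact e
    · exact absurd ((h x hxc).2 _ l) hne
  obtain ⟨Q, hQ⟩ := hRp.exists_le_sylow
  have hQR : (Q : Subgroup G) = R := by
    by_contra hne'
    have hlt : R.subgroupOf (Q : Subgroup G) < ⊤ := by
      refine lt_top_iff_ne_top.mpr fun e => hne' (le_antisymm ?_ hQ)
      exact subgroupOf_eq_top.mp e
    haveI : Group.IsNilpotent ↥(Q : Subgroup G) := Q.isPGroup'.isNilpotent
    obtain ⟨⟨g, hgQ⟩, hgN, hgR⟩ :=
      SetLike.exists_of_lt (normalizerCondition_of_isNilpotent (R.subgroupOf (Q : Subgroup G)) hlt)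
    apply hgR
    have hg : g ∈ normalizer (R : Set G) := by
      rw [mem_normalizer_iff] at hgN ⊢
      intro r
      constructor
      · intro hr
        exact (hgN ⟨r, hQ hr⟩).mp hr
      · intro hr
        have hrQ : r ∈ (Q : Subgroup G) := by
          have := (Q : Subgroup G).mul_mem ((Q : Subgroup G).mul_mem
            ((Q : Subgroup G).inv_mem hgQ) (hQ hr)) hgQ
          simpa [mul_assoc] using this
        exact (hgN ⟨r, hrQ⟩).mpr hr
    rw [← hN] at hg
    obtain ⟨k, hk⟩ := IsPGroup.iff_orderOf.mp Q.isPGroup' ⟨g, hgQ⟩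
    exact hqel g hg ⟨k, by rw [← hk, ← orderOf_coe]⟩
  exact ⟨Q, hQR ▸ hxR, hQR ▸ hRle, by rw [hN, hQR]⟩

/-- Conjugation invariance. -/
theorem mem_cz_conj {g y z : G} : z ∈ cz (g⁻¹ * y * g) ↔ g * z * g⁻¹ ∈ cz y := by
  rw [mem_cz, mem_cz]
  constructor
  · intro e
    have := congrArg (fun t => g * t * g⁻¹) e
    simpa [mul_assoc] using this
  · intro e
    have := congrArg (fun t => g⁻¹ * t * g) e
    simpa [mul_assoc] using this

theorem exists_conj_cz (h : MaxCent G) (hns : ¬ Group.IsSolvable G) {q : ℕ} [hq : Fact q.Prime]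
    {x y : G} (hx : ∃ k, orderOf x = q ^ k) (hxc : x ∉ center G)
    (hy : ∃ k, orderOf y = q ^ k) (hyc : y ∉ center G) :
    ∃ g : G, cz (g⁻¹ * y * g) = cz x := by
  obtain ⟨Q, -, -, hQ⟩ := exists_sylow h hns hx hxc
  obtain ⟨Q', -, -, hQ'⟩ := exists_sylow h hns hy hyc
  obtain ⟨g, hg⟩ := MulAction.exists_smul_eq G Q Q'
  refine ⟨g, ?_⟩
  ext z
  rw [mem_cz_conj, hQ, hQ']
  rw [Sylow.coe_coe, Sylow.coe_coe]
  rw [← Sylow.smul_eq_iff_mem_normalizer, ← Sylow.smul_eq_iff_mem_normalizer, ← hg,
    smul_smul, inv_mul_cancel_right, ← smul_smul]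
  exact (smul_left_cancel_iff g)

/-- The center of the centralizer, as a subgroup of `G`. -/
abbrev dz (x : G) : Subgroup G := cz x ⊓ centralizer (cz x : Set G)

theorem center_le_dz (x : G) : center G ≤ dz x :=
  le_inf (center_le_cz x) (center_le_centralizer _)

theorem counting {ι : Type*} [Fintype ι] (x : ι → G)
    (hcov : ∀ y : G, y ∉ center G → ∃ (i : ι) (g : G), cz (g⁻¹ * y * g) = cz (x i)) :
    Nat.card G - Nat.card (center G) ≤
      ∑ i, (cz (x i)).index * (Nat.card (dz (x i)) - Nat.card (center G)) := by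
  classical
  haveI : Fintype G := Fintype.ofFinite G
  have hsub : ∀ K : Subgroup G, center G ≤ K →
      Nat.card {g : G // g ∈ K ∧ g ∉ center G} = Nat.card K - Nat.card (center G) := by
    intro K hK
    have h1 : Nat.card K = ((Finset.univ : Finset G).filter (fun g => g ∈ K)).card := by
      rw [Nat.card_eq_fintype_card, Fintype.card_subtype]
    have h2 : Nat.card (center G) =
        ((Finset.univ : Finset G).filter (fun g => g ∈ center G)).card := by
      rw [Nat.card_eq_fintype_card, Fintype.card_subtype]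
    rw [h1, h2, Nat.card_eq_fintype_card, Fintype.card_subtype,
      ← Finset.card_sdiff_of_subset]
    · congr 1
      ext g
      simp
    · intro g
      simp only [Finset.mem_filter, Finset.mem_univ, true_and]
      exact fun hg => hK hg
  have htop := hsub ⊤ le_top
  rw [card_top] at htop
  rw [← htop]
  calc Nat.card {g : G // g ∈ (⊤ : Subgroup G) ∧ g ∉ center G}
      ≤ Nat.card (Σ i, (G ⧸ cz (x i)) × {g : G // g ∈ dz (x i) ∧ g ∉ center G}) := by
        let φ : (Σ i, (G ⧸ cz (x i)) × {g : G // g ∈ dz (x i) ∧ g ∉ center G}) →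
            {g : G // g ∈ (⊤ : Subgroup G) ∧ g ∉ center G} :=
          fun s => ⟨s.2.1.out * s.2.2.1 * s.2.1.out⁻¹, mem_top _, fun hc => s.2.2.2.2 (by
            have := (inferInstance : (center G).Normal).conj_mem _ hc s.2.1.out⁻¹
            simpa [mul_assoc] using this)⟩
        refine Nat.card_le_card_of_surjective φ ?_
        rintro ⟨y, -, hy⟩
        obtain ⟨i, g, hg⟩ := hcov y hy
        obtain ⟨k, hk⟩ := QuotientGroup.mk_out_eq_mul (cz (x i)) g
        have hv : g⁻¹ * y * g ∈ dz (x i) := by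
          refine ⟨hg ▸ self_mem_cz _, mem_centralizer_iff.mpr fun w hw => ?_⟩
          rw [← hg] at hw
          exact mem_cz.mp hw
        have hv' : (k : G)⁻¹ * (g⁻¹ * y * g) * k = g⁻¹ * y * g := by
          have := mem_centralizer_iff.mp hv.2 k k.2
          rw [mul_assoc, ← this, ← mul_assoc, inv_mul_cancel, one_mul]
        refine ⟨⟨i, (g : G ⧸ cz (x i)), ⟨g⁻¹ * y * g, hv, fun hc => hy ?_⟩⟩, ?_⟩
        · have := (inferInstance : (center G).Normal).conj_mem _ hc g
          simpa [mul_assoc] using this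
        · refine Subtype.ext ?_
          show (QuotientGroup.mk g : G ⧸ cz (x i)).out * (g⁻¹ * y * g) * _⁻¹ = y
          rw [hk]
          calc g * k * (g⁻¹ * y * g) * (g * k)⁻¹
              = g * ((k : G) * (g⁻¹ * y * g) * (k : G)⁻¹) * g⁻¹ := by group
            _ = g * (g⁻¹ * y * g) * g⁻¹ := by
                congr 2
                conv_lhs => rw [← hv']
                group
            _ = y := by group
    _ = _ := by
        rw [Nat.card_sigma]
        refine Finset.sum_congr rfl fun i _ => ?_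
        rw [Nat.card_prod, hsub _ (center_le_dz _)]
        rfl

theorem sum_inv_sq_Icc : ∀ N : ℕ, 2 ≤ N →
    ∑ n ∈ Finset.Icc 2 N, (1 : ℚ) / (n : ℚ) ^ 2 ≤ 3 / 4 - 1 / (N : ℚ) := by
  intro N hN
  induction N, hN using Nat.le_induction with
  | base => norm_num
  | succ N hN ih =>
    rw [Finset.sum_Icc_succ_top (by omega)]
    have hN' : (2 : ℚ) ≤ N := by exact_mod_cast hN
    have : (1 : ℚ) / ((N : ℚ) + 1) ^ 2 ≤ 1 / (N : ℚ) - 1 / ((N : ℚ) + 1) := by
      rw [div_sub_div _ _ (by positivity) (by positivity), div_le_div_iff₀ (by positivity) (by positivity)]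
      nlinarith
    push_cast
    linarith

/-- Let G be a finite group in which the centralizer of every non-central element is a maximal subgroup of G. Then G is solvable. -/
theorem result {G : Type*} [Group G] [Finite G]
    (h : ∀ g : G, g ∉ Subgroup.center G → IsCoatom (Subgroup.centralizer ({g} : Set G))) :
    Group.IsSolvable G := by
  classical
  replace h : MaxCent G := h
  by_contra hns
  by_cases hA : ∃ (p : ℕ) (x : G), p.Prime ∧ (∃ k, orderOf x = p ^ k) ∧ x ∉ center G ∧
      ∀ a ∈ cz x, ∀ b ∈ cz x, a * b = b * a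
  · obtain ⟨p, x, hp, hx, hxc, hab⟩ := hA
    haveI : Fact p.Prime := ⟨hp⟩
    obtain ⟨Q, hxQ, hQle, hQ⟩ := exists_sylow h hns hx hxc
    have hQc : normalizer ((Q : Subgroup G) : Set G) ≤ centralizer ((Q : Subgroup G) : Set G) := by
      intro g hg
      rw [← hQ] at hg
      exact mem_centralizer_iff.mpr fun w hw => hab w (hQle hw) g hg
    have hcomp := MonoidHom.ker_transferSylow_isComplement' Q hQc
    set K := (MonoidHom.transferSylow Q hQc).ker
    have hKi : K.index = Nat.card Q := hcomp.symm.index_eq_card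
    haveI : K.Normal := inferInstance
    have hall : ∀ y : G, y ∉ center G → ∃ (i : Unit) (g : G), cz (g⁻¹ * y * g) = cz x := by
      intro y hy
      obtain ⟨q, z, hqp, hz, hzc, hyz⟩ := exists_primePow h hy
      haveI : Fact q.Prime := ⟨hqp⟩
      suffices ∃ g : G, cz (g⁻¹ * z * g) = cz x by
        obtain ⟨g, hg⟩ := this
        refine ⟨(), g, ?_⟩
        rw [← hg]
        ext w
        rw [mem_cz_conj, mem_cz_conj, hyz]
      by_cases hqe : q = p
      · subst hqe
        exact exists_conj_cz h hns hx hxc hz hzc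
      obtain ⟨Q', -, hQ'le, hQ'⟩ := exists_sylow h hns hz hzc
      have hQ'K : (Q' : Subgroup G) ≤ K := by
        intro w hw
        obtain ⟨a, ha⟩ := IsPGroup.iff_orderOf.mp Q'.isPGroup' ⟨w, hw⟩
        rw [← orderOf_coe] at ha
        obtain ⟨b, hb⟩ := IsPGroup.iff_card.mp Q.isPGroup'
        have h1 : orderOf (QuotientGroup.mk w : G ⧸ K) ∣ q ^ a :=
          ha ▸ orderOf_map_dvd (QuotientGroup.mk' K) w
        have h2 : orderOf (QuotientGroup.mk w : G ⧸ K) ∣ p ^ b := by
          rw [← hb, ← hKi]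
          exact orderOf_dvd_natCard _
        have h3 : Nat.Coprime (q ^ a) (p ^ b) :=
          Nat.Coprime.pow _ _ ((Nat.coprime_primes hqp hp).mpr hqe)
        have := Nat.eq_one_of_dvd_coprimes h3 h1 h2
        exact (QuotientGroup.eq_one_iff w).mp (orderOf_eq_one_iff.mp this)
      have htop := Sylow.normalizer_sup_eq_top' Q' hQ'K
      rw [← Sylow.coe_coe, ← hQ'] at htop
      have hdvd : Nat.card Q ∣ Nat.card (cz z) := by
        rw [← hKi, ← relIndex_top_right, ← htop, relIndex_sup_right]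
        exact relIndex_dvd_card K (cz z)
      obtain ⟨b, hb⟩ := IsPGroup.iff_card.mp Q.isPGroup'
      rw [hb] at hdvd
      obtain ⟨P₀, hP₀⟩ := Sylow.exists_subgroup_card_pow_prime p hdvd
      set P₁ := P₀.map (cz z).subtype with hP₁
      have hP₁c : Nat.card P₁ = Nat.card Q := by
        rw [hb, ← hP₀]
        exact (Nat.card_congr (P₀.equivMapOfInjective _ (cz z).subtype_injective).toEquiv).symm
      have hP₁p : IsPGroup p P₁ := IsPGroup.of_card (hP₁c.trans hb)
      obtain ⟨P₂, hP₂⟩ := hP₁p.exists_le_sylow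
      obtain ⟨g, hg⟩ := MulAction.exists_smul_eq G Q P₂
      have hmem : g * x * g⁻¹ ∈ P₁ := by
        have e : P₁ = (P₂ : Subgroup G) := by
          refine eq_of_le_of_card_ge hP₂ ?_
          rw [hP₁c, Q.card_eq_multiplicity, P₂.card_eq_multiplicity]
        rw [e, ← hg, Sylow.coe_subgroup_smul]
        exact ⟨x, hxQ, by simp⟩
      obtain ⟨m, -, hme⟩ := hmem
      have hmz : g * x * g⁻¹ ∈ cz z := hme ▸ m.2
      have hord : orderOf (g * x * g⁻¹) = orderOf x := by
        rw [← MulAut.conj_apply, MulEquiv.orderOf_eq]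
      have hnd : ¬ q ∣ orderOf (g * x * g⁻¹) := by
        obtain ⟨k, hk⟩ := hx
        rw [hord, hk]
        exact fun hd => hqe ((Nat.prime_dvd_prime_iff_eq hqp hp).mp (hqp.dvd_of_dvd_pow hd))
      have hnc : g * x * g⁻¹ ∉ center G := fun hc => hxc (by
        have := (inferInstance : (center G).Normal).conj_mem _ hc g⁻¹
        simpa [mul_assoc] using this)
      have hle : cz z ≤ cz (g * x * g⁻¹) := fun w hw =>
        mem_cz.mpr (qprime_central h hz hzc hmz hnd hw)
      have heq := cz_eq_of_le h hzc hnc hle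
      refine ⟨g, ?_⟩
      ext w
      rw [mem_cz_conj, heq, ← mem_cz_conj]
      simp [mul_assoc]
    have hc := counting (fun _ : Unit => x) hall
    simp only [Finset.univ_unique, Finset.sum_singleton] at hc
    have hdz : dz x = cz x := inf_eq_left.mpr fun a ha => mem_centralizer_iff.mpr fun w hw =>
      hab w hw a ha
    rw [hdz] at hc
    have hi : 2 ≤ (cz x).index := by
      have h1 : (cz x).index ≠ 1 := fun e => (h x hxc).1 (index_eq_one.mp e)
      have h2 : (cz x).index ≠ 0 := index_ne_zero_of_finite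
      omega
    have hmul := (cz x).card_mul_index
    have hzM : Nat.card (center G) ≤ Nat.card (cz x) :=
      Nat.le_of_dvd Nat.card_pos (card_dvd_of_le (center_le_cz x))
    have hzpos : 0 < Nat.card (center G) := Nat.card_pos
    rw [Nat.mul_sub, mul_comm, hmul] at hc
    have : 2 * Nat.card (center G) ≤ (cz x).index * Nat.card (center G) :=
      Nat.mul_le_mul_right _ hi
    have : Nat.card (cz x) ≤ Nat.card G := hmul ▸ Nat.le_mul_of_pos_right _ (by omega)
    have : (cz x).index * Nat.card (center G) ≤ Nat.card G := by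
      rw [← hmul, mul_comm]; exact Nat.mul_le_mul_right _ hzM
    omega
  · push Not at hA
    set S := (Nat.card G).primeFactors.filter
      (fun q => ∃ x : G, (∃ k, orderOf x = q ^ k) ∧ x ∉ center G) with hS
    have hx : ∀ i : S, ∃ x : G, (∃ k, orderOf x = (i : ℕ) ^ k) ∧ x ∉ center G :=
      fun i => (Finset.mem_filter.mp i.2).2
    choose x hxo hxc using hx
    have hprime : ∀ i : S, (i : ℕ).Prime :=
      fun i => Nat.prime_of_mem_primeFactors (Finset.mem_filter.mp i.2).1
    have hcov : ∀ y : G, y ∉ center G → ∃ (i : S) (g : G), cz (g⁻¹ * y * g) = cz (x i) := by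
      intro y hy
      obtain ⟨q, z, hqp, hz, hzc, hyz⟩ := exists_primePow h hy
      haveI : Fact q.Prime := ⟨hqp⟩
      have hmem : q ∈ S := by
        refine Finset.mem_filter.mpr ⟨Nat.mem_primeFactors.mpr ⟨hqp, ?_, Nat.card_pos.ne'⟩,
          z, hz, hzc⟩
        obtain ⟨k, hk⟩ := hz
        have : k ≠ 0 := fun e => hzc (by
          rw [e, pow_zero, orderOf_eq_one_iff] at hk
          exact hk ▸ one_mem _)
        exact (dvd_pow_self q this).trans (hk ▸ orderOf_dvd_natCard z)
      obtain ⟨g, hg⟩ := exists_conj_cz h hns (hxo ⟨q, hmem⟩) (hxc _) hz hzc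
      refine ⟨⟨q, hmem⟩, g, ?_⟩
      rw [← hg]
      ext w
      rw [mem_cz_conj, mem_cz_conj, hyz]
    have hc := counting x hcov
    have hsq : ∀ i : S, (i : ℕ) ^ 2 * Nat.card (dz (x i)) ≤ Nat.card (cz (x i)) := by
      intro i
      haveI : Fact (i : ℕ).Prime := ⟨hprime i⟩
      obtain ⟨a, ha, b, hb, hne⟩ := hA (i : ℕ) (x i) (hprime i) (hxo i) (hxc i)
      have hpg := isPGroup_quotient_center h (hxo i) (hxc i)
      obtain ⟨n, hn⟩ := IsPGroup.iff_card.mp hpg
      have h2n : 2 ≤ n := by
        by_contra hlt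
        haveI hcyc : IsCyclic (↥(cz (x i)) ⧸ center ↥(cz (x i))) :=
          isCyclic_of_card_dvd_prime (p := (i : ℕ))
            (hn ▸ (pow_dvd_pow _ (by omega : n ≤ 1)).trans (by simp))
        have := commutative_of_cyclic_center_quotient
          (QuotientGroup.mk' (center ↥(cz (x i)))) (by simp) (⟨a, ha⟩ : ↥(cz (x i))) ⟨b, hb⟩
        exact hne (congrArg Subtype.val this)
      have hcard : Nat.card (dz (x i)) = Nat.card (center ↥(cz (x i))) := by
        have : dz (x i) = (center ↥(cz (x i))).map (cz (x i)).subtype := by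
          ext w
          constructor
          · rintro ⟨h1, h2⟩
            exact ⟨⟨w, h1⟩, mem_center_iff.mpr fun v => Subtype.ext
              (mem_centralizer_iff.mp h2 v v.2), rfl⟩
          · rintro ⟨w', hw', rfl⟩
            exact ⟨w'.2, mem_centralizer_iff.mpr fun v hv => congrArg Subtype.val
              (mem_center_iff.mp hw' ⟨v, hv⟩)⟩
        rw [this]
        exact (Nat.card_congr ((center ↥(cz (x i))).equivMapOfInjective _
          (cz (x i)).subtype_injective).toEquiv).symm
      rw [hcard, ← (center ↥(cz (x i))).card_mul_index, mul_comm]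
      refine Nat.mul_le_mul_left _ ?_
      rw [show (center ↥(cz (x i))).index = (i : ℕ) ^ n from hn]
      exact Nat.pow_le_pow_right (hprime i).pos h2n
    have hterm : ∀ i : S,
        (((cz (x i)).index * (Nat.card (dz (x i)) - Nat.card (center G)) : ℕ) : ℚ)
          ≤ (Nat.card G : ℚ) * (1 / ((i : ℕ) : ℚ) ^ 2) := by
      intro i
      have h1 : (i : ℕ) ^ 2 * ((cz (x i)).index * (Nat.card (dz (x i)) - Nat.card (center G)))
          ≤ Nat.card G := by
        rw [← (cz (x i)).card_mul_index]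
        calc (i : ℕ) ^ 2 * ((cz (x i)).index * (Nat.card (dz (x i)) - Nat.card (center G)))
            ≤ (i : ℕ) ^ 2 * ((cz (x i)).index * Nat.card (dz (x i))) :=
              Nat.mul_le_mul_left _ (Nat.mul_le_mul_left _ (Nat.sub_le _ _))
          _ = ((i : ℕ) ^ 2 * Nat.card (dz (x i))) * (cz (x i)).index := by ring
          _ ≤ _ := Nat.mul_le_mul_right _ (hsq i)
      have h1' : ((((i : ℕ) ^ 2 * ((cz (x i)).index *
          (Nat.card (dz (x i)) - Nat.card (center G))) : ℕ)) : ℚ) ≤ (Nat.card G : ℚ) := by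
        exact_mod_cast h1
      rw [Nat.cast_mul, Nat.cast_pow] at h1'
      have hpos : (0 : ℚ) < ((i : ℕ) : ℚ) ^ 2 := by
        have : (0 : ℚ) < ((i : ℕ) : ℚ) := by exact_mod_cast (hprime i).pos
        positivity
      rw [mul_one_div, le_div_iff₀ hpos]
      linarith [h1']
    have hsum : ∑ i : S, (1 : ℚ) / ((i : ℕ) : ℚ) ^ 2 ≤ 3 / 4 := by
      rw [Finset.univ_eq_attach, Finset.sum_attach S (fun n : ℕ => (1 : ℚ) / (n : ℚ) ^ 2)]
      have hN : S ⊆ Finset.Icc 2 (Nat.card G + 2) := by
        intro n hn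
        have hn' := Nat.mem_primeFactors.mp (Finset.mem_filter.mp hn).1
        have := Nat.le_of_dvd Nat.card_pos hn'.2.1
        have := hn'.1.two_le
        exact Finset.mem_Icc.mpr ⟨by omega, by omega⟩
      refine le_trans (Finset.sum_le_sum_of_subset_of_nonneg hN (fun n _ _ => by positivity)) ?_
      refine (sum_inv_sq_Icc _ (by omega)).trans ?_
      have : (0 : ℚ) ≤ 1 / ((Nat.card G + 2 : ℕ) : ℚ) := by positivity
      linarith
    have hzle : Nat.card (center G) ≤ Nat.card G :=
      Nat.le_of_dvd Nat.card_pos (card_subgroup_dvd_card _)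
    have hbound : (Nat.card G : ℚ) - Nat.card (center G) ≤ Nat.card G * (3 / 4) := by
      have h0 : (((Nat.card G - Nat.card (center G) : ℕ)) : ℚ) ≤
          ∑ i : S, (((cz (x i)).index * (Nat.card (dz (x i)) - Nat.card (center G)) : ℕ) : ℚ) := by
        exact_mod_cast hc
      rw [Nat.cast_sub hzle] at h0
      refine h0.trans ((Finset.sum_le_sum fun i _ => hterm i).trans ?_)
      rw [← Finset.mul_sum]
      exact mul_le_mul_of_nonneg_left hsum (Nat.cast_nonneg _)
    have hidx : (center G).index ≤ 4 := by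
      have h1 := (center G).card_mul_index
      have h2 : (Nat.card G : ℚ) ≤ 4 * (Nat.card (center G) : ℚ) := by linarith
      have h3 : Nat.card G ≤ 4 * Nat.card (center G) := by exact_mod_cast h2
      rw [← h1, mul_comm 4] at h3
      exact Nat.le_of_mul_le_mul_left h3 Nat.card_pos
    have hnil : Group.IsNilpotent (G ⧸ center G) := by
      have h0 : (center G).index ≠ 0 := index_ne_zero_of_finite
      have hq : ∃ p n : ℕ, p.Prime ∧ (center G).index = p ^ n := by
        have : (center G).index = 1 ∨ (center G).index = 2 ∨ (center G).index = 3 ∨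
            (center G).index = 4 := by omega
        rcases this with e | e | e | e
        · exact ⟨2, 0, Nat.prime_two, e⟩
        · exact ⟨2, 1, Nat.prime_two, e⟩
        · exact ⟨3, 1, Nat.prime_three, e⟩
        · exact ⟨2, 2, Nat.prime_two, e⟩
      obtain ⟨p, n, hp, e⟩ := hq
      haveI : Fact p.Prime := ⟨hp⟩
      exact (IsPGroup.of_card (p := p) (n := n) e).isNilpotent
    haveI := Group.of_quotient_center_nilpotent hnil
    exact hns inferInstance

end Cfsg.Agent.S4262
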