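import Cfsg.Statements.S5164
import Mathlib
import Cfsg.Agent.S2505
import Cfsg.Agent.S2269

set_option autoImplicit false
open Cfsg

namespace Cfsg.Agent.S5164

theorem sign_one_of_pow {β : Type*} [Fintype β] [DecidableEq β] {p k : ℕ} (hp : Odd p) (σ : Equiv.Perm β)
    (h : σ ^ p ^ k = 1) : Equiv.Perm.sign σ = 1 := by
  have h1 : Equiv.Perm.sign σ ^ p ^ k = 1 := by rw [← map_pow, h, map_one]
  rcases Int.units_eq_one_or (Equiv.Perm.sign σ) with h' | h'
  · exact h'
  · rw [h', (hp.pow).neg_one_pow] at h1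
    exact absurd h1 (by decide)

theorem exists_pgroup_copy {n p : ℕ} [Fact p.Prime] (hp : Odd p) (A : Subgroup (Equiv.Perm (Fin n))) (hA : IsPGroup p A) :
    ∃ B : Subgroup (alternatingGroup (Fin n)), IsPGroup p B ∧ Nat.card B = Nat.card A ∧
      (IsMulCommutative A → IsMulCommutative B) ∧ B.map (alternatingGroup (Fin n)).subtype = A := by
  have hle : A ≤ alternatingGroup (Fin n) := fun σ hσ => by
    obtain ⟨k, hk⟩ := hA ⟨σ, hσ⟩
    exact Equiv.Perm.mem_alternatingGroup.mpr (sign_one_of_pow hp σ (congrArg Subtype.val hk))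
  let e := Subgroup.subgroupOfEquivOfLe hle
  refine ⟨A.subgroupOf (alternatingGroup (Fin n)), hA.of_equiv e.symm, Nat.card_congr e.toEquiv, fun h => ⟨⟨fun a b => ?_⟩⟩,
    Subgroup.map_subgroupOf_eq_of_le hle⟩
  apply e.injective
  rw [map_mul, map_mul, h.is_comm.comm]

theorem heisenberg_pgroup (p : ℕ) [Fact p.Prime] :
    ∃ H : Subgroup (Equiv.Perm (ZMod p × ZMod p)), IsPGroup p H ∧ ¬ IsMulCommutative H := by
  let mk : ZMod p × ZMod p × ZMod p → Equiv.Perm (ZMod p × ZMod p) := fun c =>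
    { toFun := fun x => (x.1 + c.1, x.2 + c.2.1 * x.1 + c.2.2)
      invFun := fun x => (x.1 - c.1, x.2 - c.2.1 * (x.1 - c.1) - c.2.2)
      left_inv := fun x => by apply Prod.ext <;> simp <;> ring
      right_inv := fun x => by apply Prod.ext <;> simp <;> ring }
  have happ : ∀ c x, mk c x = (x.1 + c.1, x.2 + c.2.1 * x.1 + c.2.2) := fun _ _ => rfl
  let H : Subgroup (Equiv.Perm (ZMod p × ZMod p)) :=
    { carrier := Set.range mk
      mul_mem' := by
        rintro _ _ ⟨⟨t, s, w⟩, rfl⟩ ⟨⟨t', s', w'⟩, rfl⟩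
        refine ⟨(t + t', s + s', w + w' + s * t'), Equiv.ext fun x => ?_⟩
        rw [Equiv.Perm.mul_apply, happ, happ, happ]
        apply Prod.ext <;> simp <;> ring
      one_mem' := ⟨(0, 0, 0), Equiv.ext fun x => by rw [happ]; simp⟩
      inv_mem' := by
        rintro _ ⟨⟨t, s, w⟩, rfl⟩
        refine ⟨(-t, -s, -w + s * t), eq_inv_of_mul_eq_one_left (Equiv.ext fun x => ?_)⟩
        rw [Equiv.Perm.mul_apply, happ, happ]
        apply Prod.ext <;> simp <;> ring }
  have hinj : Function.Injective mk := by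
    intro c c' h
    have h0 := DFunLike.congr_fun h (0, 0)
    have h1 := DFunLike.congr_fun h (1, 0)
    rw [happ, happ] at h0 h1
    simp only [zero_add, mul_zero, mul_one, Prod.mk.injEq] at h0 h1
    obtain ⟨a, b⟩ := h0
    refine Prod.ext a (Prod.ext ?_ b)
    have := h1.2
    rw [b] at this
    exact add_right_cancel this
  have hcard : Nat.card H = p ^ 3 := by
    show Nat.card (Set.range mk) = p ^ 3
    rw [← Nat.card_congr (Equiv.ofInjective mk hinj)]
    simp; ring
  refine ⟨H, IsPGroup.of_card hcard, fun hc => ?_⟩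
  have h := congrArg Subtype.val (hc.is_comm.comm (⟨mk (1, 0, 0), ⟨_, rfl⟩⟩ : H) (⟨mk (0, 1, 0), ⟨_, rfl⟩⟩ : H))
  have h0 := DFunLike.congr_fun h (0, 0)
  simp only [Subgroup.coe_mul, Equiv.Perm.mul_apply, happ] at h0
  simp at h0



/-- For n ≥ 6 and a prime p, a nontrivial Sylow p-subgroup of the alternating group of degree n is abelian if and only if n < p². -/
theorem result (n p : ℕ) (hn : 6 ≤ n) [Fact p.Prime] (S : Sylow p (alternatingGroup (Fin n))) (hS : (S : Subgroup (alternatingGroup (Fin n))) ≠ ⊥) : IsMulCommutative S ↔ n < p ^ 2 := by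
  classical
  have hpp : p.Prime := Fact.out
  rcases hpp.eq_two_or_odd' with rfl | hodd
  · refine ⟨fun h => absurd h (Cfsg.Agent.S2269.sylow_not_comm_of_six hn S), fun h => ?_⟩
    norm_num at h; omega
  constructor
  · intro hab
    by_contra hlt
    push Not at hlt
    obtain ⟨H, hH, hnc⟩ := heisenberg_pgroup p
    let f : ZMod p × ZMod p ≃ {x : Fin n // x.val < p ^ 2} :=
      (Fintype.equivFinOfCardEq (by simp; ring) : ZMod p × ZMod p ≃ Fin (p ^ 2)).trans
        ⟨fun i => ⟨⟨i.val, by omega⟩, i.isLt⟩, fun x => ⟨x.1.val, x.2⟩, fun i => rfl, fun x => rfl⟩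
    let F : Equiv.Perm (ZMod p × ZMod p) →* Equiv.Perm (Fin n) := Equiv.Perm.extendDomainHom f
    have hF : Function.Injective F := Equiv.Perm.extendDomainHom_injective f
    obtain ⟨B, hB, -, -, hBA⟩ := exists_pgroup_copy hodd (H.map F) (hH.map F)
    obtain ⟨Q, hQ⟩ := hB.exists_le_sylow
    let e := Q.equiv S
    apply hnc
    refine ⟨⟨fun a b => ?_⟩⟩
    obtain ⟨a', ha', hae⟩ : F a ∈ B.map (alternatingGroup (Fin n)).subtype := by rw [hBA]; exact ⟨a, a.2, rfl⟩
    obtain ⟨b', hb', hbe⟩ : F b ∈ B.map (alternatingGroup (Fin n)).subtype := by rw [hBA]; exact ⟨b, b.2, rfl⟩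
    have hq : (⟨a', hQ ha'⟩ : (Q : Subgroup (alternatingGroup (Fin n)))) * ⟨b', hQ hb'⟩ = ⟨b', hQ hb'⟩ * ⟨a', hQ ha'⟩ :=
      e.injective (by rw [map_mul, map_mul, hab.is_comm.comm])
    apply Subtype.ext
    apply hF
    rw [Subgroup.coe_mul, Subgroup.coe_mul, map_mul, map_mul, ← hae, ← hbe, ← map_mul, ← map_mul]
    exact congrArg (alternatingGroup (Fin n)).subtype (congrArg Subtype.val hq)
  · intro hlt
    let f : Fin (n / p + n % p) → ℕ := Fin.append (fun _ => p) (fun _ => 1)
    have hf0 : ∀ i, f i ≠ 0 := fun i => by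
      induction i using Fin.addCases with
      | left i => simp [f, hpp.ne_zero]
      | right i => simp [f]
    have hsum : ∑ i, f i = n := by
      rw [Fin.sum_univ_add]
      simp [f]
      exact Nat.div_add_mod' n p
    obtain ⟨A, hA, hcA⟩ := Cfsg.Agent.S2505.abelian_exists f hf0 n hsum
    have hcard : Nat.card A = p ^ (n / p) := by
      rw [hcA, Fin.prod_univ_add]; simp [f]
    obtain ⟨B, hB, hBc, hBab, -⟩ := exists_pgroup_copy hodd A (IsPGroup.of_card hcard)
    obtain ⟨Q, hQ⟩ := hB.exists_le_sylow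
    have hQB : (Q : Subgroup (alternatingGroup (Fin n))) = B := by
      refine (Subgroup.eq_of_le_of_card_ge hQ ?_).symm
      obtain ⟨k, hk⟩ := Q.isPGroup'.exists_card_eq
      have hdvd : p ^ k ∣ n.factorial := by
        have h1 : p ^ k ∣ Nat.card (Equiv.Perm (Fin n)) :=
          hk ▸ (Subgroup.card_subgroup_dvd_card _).trans (Subgroup.card_subgroup_dvd_card _)
        rwa [Nat.card_perm, Nat.card_eq_fintype_card, Fintype.card_fin] at h1
      have hb : Nat.log p n < 2 := Nat.log_lt_of_lt_pow (by omega) hlt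
      have hv : padicValNat p n.factorial = n / p := by
        rw [padicValNat_factorial hb, Finset.sum_Ico_eq_sum_range, Finset.sum_range_one, pow_one]
      have := (padicValNat_dvd_iff_le n.factorial_ne_zero).mp hdvd
      rw [hv] at this
      rw [hk, hBc, hcard]
      exact Nat.pow_le_pow_right hpp.pos this
    have hab := hBab hA
    rw [← hQB] at hab
    let e := S.equiv Q
    exact ⟨⟨fun a b => e.injective (by rw [map_mul, map_mul, hab.is_comm.comm])⟩⟩

end Cfsg.Agent.S5164
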