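import Cfsg.Statements.S5191
import Cfsg.Agent.Fus.Group

set_option autoImplicit false
open Cfsg

namespace Cfsg.Agent.S5191

/-- Fusion in a finite group G and in its quotient by O_{p'}(G) agree. Let S be a Sylow p-subgroup of G, N = O_{p'}(G) and P ≤ S. If an element of G/N conjugates the image of P into the image of S, then some element g of G conjugates P into S and induces the same map on P modulo N. (Together with the injectivity of S → G/N this says that g ↦ gN induces an isomorphism of the fusion system of G on S with that of G/N on SN/N.) -/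
theorem result {G : Type*} [Group G] [Finite G] {p : ℕ} [Fact p.Prime]
    [hN : (Cfsg.pPrimeCore p G).Normal] (S : Sylow p G) (P : Subgroup G) (hP : P ≤ (S : Subgroup G))
    (γ : G ⧸ Cfsg.pPrimeCore p G)
    (hγ : ∀ x ∈ P, γ * QuotientGroup.mk x * γ⁻¹ ∈ ((S : Subgroup G).map (QuotientGroup.mk' (Cfsg.pPrimeCore p G)))) :
    ∃ g : G, ∀ x ∈ P, g * x * g⁻¹ ∈ S ∧
      (QuotientGroup.mk (g * x * g⁻¹) : G ⧸ Cfsg.pPrimeCore p G) = γ * QuotientGroup.mk x * γ⁻¹ := by
  obtain ⟨g₀, rfl⟩ := QuotientGroup.mk_surjective γ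
  let K := (S : Subgroup G) ⊔ pPrimeCore p G
  have hK : Fus.SylowIn p (S : Subgroup G) K := (Fus.sylowIn_top S).mono le_sup_left le_top
  have hle : P.map (MulAut.conj g₀).toMonoidHom ≤ K := by
    rintro _ ⟨x, hx, rfl⟩
    obtain ⟨s, hs, hs'⟩ := hγ x hx
    rw [QuotientGroup.mk'_apply, ← QuotientGroup.mk_inv, ← QuotientGroup.mk_mul, ← QuotientGroup.mk_mul,
      QuotientGroup.eq] at hs'
    have := K.mul_mem (Subgroup.mem_sup_left hs) (Subgroup.mem_sup_right hs' : _ ∈ K)
    simpa using this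
  obtain ⟨k, hk, hk'⟩ := hK.exists_conj_le (L := P.map (MulAut.conj g₀).toMonoidHom) ((S.2.to_le hP).map _) hle
  obtain ⟨s, hs, n, hn, rfl⟩ := Subgroup.mem_sup_of_normal_right.1 hk
  refine ⟨n * g₀, fun x hx => ⟨?_, ?_⟩⟩
  · have h1 : (s * n) * (g₀ * x * g₀⁻¹) * (s * n)⁻¹ ∈ (S : Subgroup G) := hk' ⟨_, ⟨x, hx, rfl⟩, rfl⟩
    have h2 := (S : Subgroup G).mul_mem ((S : Subgroup G).mul_mem ((S : Subgroup G).inv_mem hs) h1) hs
    exact (show n * g₀ * x * (n * g₀)⁻¹ ∈ (S : Subgroup G) by simpa [mul_assoc] using h2)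
  · have e : (QuotientGroup.mk (n * g₀) : G ⧸ pPrimeCore p G) = QuotientGroup.mk g₀ := by
      rw [QuotientGroup.mk_mul, (QuotientGroup.eq_one_iff n).2 hn, one_mul]
    rw [QuotientGroup.mk_mul, QuotientGroup.mk_mul, QuotientGroup.mk_inv, e]

end Cfsg.Agent.S5191
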