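import Cfsg.Statements.S5522
import Cfsg.Agent.M24.ClassData
import Cfsg.Agent.M24.SporEq

set_option autoImplicit false
open Cfsg

namespace Cfsg.Agent.S5522

/-- The Mathieu group M₁₁, realised as the stabiliser of one point of the dodecad of squares inside the stabiliser M₁₂ of that dodecad in M₂₄, acts on the twelve coordinate positions outside the dodecad of squares (its 3-transitive action of degree 12); in this action every element of prime order fixes a point, i.e. the action is elusive. -/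
theorem result (g : Equiv.Perm Cfsg.GolayPt) (hg : g ∈ Cfsg.Spor.M11) (hord : (orderOf g).Prime) :
    ∃ x : Cfsg.GolayPt, x ∉ Cfsg.Spor.squareDodecad ∧ g x = x := by
  rw [Cfsg.Agent.M24.spor_M11_eq] at hg
  rw [Cfsg.Agent.M24.squareDodecad_eq]
  have hsmall : orderOf g ∣ 7920 := by
    rw [← Cfsg.Agent.M24.card_fixAll_dod_pt]
    exact (Subgroup.orderOf_coe (⟨g, hg⟩ : Cfsg.Agent.M24.fixAll [1, Cfsg.Agent.M24.dod0])).symm ▸ orderOf_dvd_natCard _
  have hout : ∀ i < 24, Cfsg.Agent.M24.dod0.testBit i = false ↔ Cfsg.Agent.M24.pt i ∉ Cfsg.Agent.M24.toSet Cfsg.Agent.M24.dod0 := by decide +kernel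
  by_cases hp : orderOf g = 2 ∨ orderOf g = 3
  · have tower : ∃ c ∈ Cfsg.Agent.M24.fixAll [1, Cfsg.Agent.M24.dod0], ∃ x, Cfsg.Agent.M24.okPerm x = true ∧
        g = c * Cfsg.Agent.M24.toPerm x * c⁻¹ ∧ ∃ i < 24, Cfsg.Agent.M24.papp x i = i ∧ Cfsg.Agent.M24.dod0.testBit i = false := by
      rcases hp with hp | hp
      · have : Fact (Nat.Prime 2) := ⟨Nat.prime_two⟩
        have ht : Cfsg.Agent.M24.towerOk [1, Cfsg.Agent.M24.dod0] 2 Cfsg.Agent.M24.t112 = true := by decide +kernel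
        have hl : Cfsg.Agent.M24.t112.length = 4 := by decide +kernel
        have hfix : ∀ x ∈ Cfsg.Agent.M24.towerList 2 Cfsg.Agent.M24.t112, Cfsg.Agent.M24.killB 2 x = true → ∃ i < 24, Cfsg.Agent.M24.papp x i = i ∧
            Cfsg.Agent.M24.dod0.testBit i = false := by decide +kernel
        obtain ⟨c, hc, x, hx, hok, -, e⟩ := Cfsg.Agent.M24.exists_conj_tower ht
          (by rw [Cfsg.Agent.M24.card_fixAll_dod_pt, hl]; norm_num) (by rw [Cfsg.Agent.M24.card_fixAll_dod_pt, hl]; norm_num) hg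
          (hp ▸ pow_orderOf_eq_one g)
        have hk : g ^ _ = 1 := hp ▸ pow_orderOf_eq_one g
        rw [e, conj_pow, conj_eq_one_iff] at hk
        exact ⟨c, hc, x, hok, e, hfix x hx (Cfsg.Agent.M24.killB_of_pow hok hk)⟩
      · have : Fact (Nat.Prime 3) := ⟨Nat.prime_three⟩
        have ht : Cfsg.Agent.M24.towerOk [1, Cfsg.Agent.M24.dod0] 3 Cfsg.Agent.M24.t113 = true := by decide +kernel
        have hl : Cfsg.Agent.M24.t113.length = 2 := by decide +kernel
        have hfix : ∀ x ∈ Cfsg.Agent.M24.towerList 3 Cfsg.Agent.M24.t113, Cfsg.Agent.M24.killB 3 x = true → ∃ i < 24, Cfsg.Agent.M24.papp x i = i ∧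
            Cfsg.Agent.M24.dod0.testBit i = false := by decide +kernel
        obtain ⟨c, hc, x, hx, hok, -, e⟩ := Cfsg.Agent.M24.exists_conj_tower ht
          (by rw [Cfsg.Agent.M24.card_fixAll_dod_pt, hl]; norm_num) (by rw [Cfsg.Agent.M24.card_fixAll_dod_pt, hl]; norm_num) hg
          (hp ▸ pow_orderOf_eq_one g)
        have hk : g ^ _ = 1 := hp ▸ pow_orderOf_eq_one g
        rw [e, conj_pow, conj_eq_one_iff] at hk
        exact ⟨c, hc, x, hok, e, hfix x hx (Cfsg.Agent.M24.killB_of_pow hok hk)⟩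
    obtain ⟨c, hc, x, hok, rfl, i, hi, hxi, hbit⟩ := tower
    refine ⟨c (Cfsg.Agent.M24.pt i), ?_, ?_⟩
    · rw [Cfsg.Agent.M24.mem_toSet, Cfsg.Agent.M24.testBit_of_fix hc (by simp : Cfsg.Agent.M24.dod0 ∈ [1, Cfsg.Agent.M24.dod0]), Cfsg.Agent.M24.ix_pt hi, hbit]
      simp
    · rw [Cfsg.Agent.M24.conj_fix, Cfsg.Agent.M24.toPerm_pt hok hi, hxi]
  · classical
    have hp' : orderOf g = 5 ∨ orderOf g = 11 := by
      have hle : orderOf g ≤ 7920 := Nat.le_of_dvd (by norm_num) hsmall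
      have h4 : orderOf g ∣ 2 ^ 4 * (3 ^ 2 * (5 * 11)) := by simpa using hsmall
      rcases (Nat.Prime.dvd_mul hord).1 h4 with h | h
      · exact absurd (Or.inl ((Nat.prime_dvd_prime_iff_eq hord Nat.prime_two).1 (hord.dvd_of_dvd_pow h))) hp
      · rcases (Nat.Prime.dvd_mul hord).1 h with h | h
        · exact absurd (Or.inr ((Nat.prime_dvd_prime_iff_eq hord Nat.prime_three).1 (hord.dvd_of_dvd_pow h))) hp
        · rcases (Nat.Prime.dvd_mul hord).1 h with h | h
          · exact Or.inl ((Nat.prime_dvd_prime_iff_eq hord (by norm_num)).1 h)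
          · exact Or.inr ((Nat.prime_dvd_prime_iff_eq hord (by norm_num)).1 h)
    have := Fact.mk hord
    have hmaps : ∀ y, y ∉ Cfsg.Agent.M24.toSet Cfsg.Agent.M24.dod0 ↔ g y ∉ Cfsg.Agent.M24.toSet Cfsg.Agent.M24.dod0 := fun y => by
      rw [Cfsg.Agent.M24.mem_toSet, Cfsg.Agent.M24.mem_toSet, Cfsg.Agent.M24.testBit_of_fix hg (by simp : Cfsg.Agent.M24.dod0 ∈ [1, Cfsg.Agent.M24.dod0])]
    let s := g.subtypePerm (p := fun y => y ∉ Cfsg.Agent.M24.toSet Cfsg.Agent.M24.dod0) fun y => (hmaps y).symm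
    have hs : s ^ orderOf g ^ 1 = 1 := by
      rw [pow_one]
      exact Equiv.ext fun y => Subtype.ext (by
        rw [Equiv.Perm.subtypePerm_pow, Equiv.Perm.subtypePerm_apply]
        simp [pow_orderOf_eq_one g])
    have hc : ¬ orderOf g ∣ Fintype.card {y : Cfsg.GolayPt // y ∉ Cfsg.Agent.M24.toSet Cfsg.Agent.M24.dod0} := by
      have e : Fintype.card {y : Cfsg.GolayPt // y ∉ Cfsg.Agent.M24.toSet Cfsg.Agent.M24.dod0} = 12 := by decide +kernel
      rw [e]
      rcases hp' with h | h <;> rw [h] <;> norm_num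
    obtain ⟨⟨y, hy⟩, hy'⟩ := Equiv.Perm.exists_fixed_point_of_prime hc hs
    exact ⟨y, hy, congrArg Subtype.val hy'⟩


end Cfsg.Agent.S5522
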